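import Mathlib
import Cfsg.Agent.H67.Cross
import Cfsg.Agent.KFacts.MulOdd.TypeA
import Cfsg.Agent.S0261
import Cfsg.Agent.S0262

/-!
# `SL(n, q)`: no perfect central extensions of order `r`, `r` not the characteristic

* `noCE_SL` : `SL(2, F)` has no central extension of order `r ≠ p` generated by `p`-elements;
* `noPCov_SL_cross` : `NoPCov r (SL(n + 1, F))` for every prime `r` different from the characteristic.
-/

set_option autoImplicit false
set_option linter.unusedSectionVars false
set_option linter.style.haveILetI false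

namespace Cfsg.Agent.H60.CrossA

open Matrix CoxeterSystem Cfsg.Agent.ChevalleyStructure.CoxeterGeom Cfsg.Agent.Tits.Roots
open Cfsg.Agent.Nodes.Reps Cfsg.Agent.Nodes.BNOf Cfsg.Agent.Nodes.RGDLib Cfsg.Agent.Nodes.RootsA
open Cfsg.Agent.Nodes.RGDTypeA
open Cfsg.Agent.LieRecognition.BNCox (cA)
open Cfsg.Agent.KFacts.MulOdd.Inst Cfsg.Agent.KFacts.MulOdd.TypeA Cfsg.Agent.H67 Cfsg.Agent.H67.Cross

universe u

/-- `SL(2, F)` has no central extension of order `r ≠ p` generated by `p`-elements. -/
theorem noCE_SL {F : Type u} [Field F] [Finite F] {p r : ℕ} (hp : p.Prime) [CharP F p] (hr : r.Prime) (hne : r ≠ p) :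
    NoCE p r (SpecialLinearGroup (Fin 2) F) := by
  have : Fintype F := Fintype.ofFinite F
  haveI : Fact r.Prime := ⟨hr⟩
  haveI : Fact p.Prime := ⟨hp⟩
  by_cases h2 : r = 2
  · subst h2
    have hodd : Odd (Fintype.card F) := by
      have h1 : ringChar F ≠ 2 := fun h0 => hne ((ringChar.eq F p).symm.trans h0).symm |>.elim
      exact Nat.odd_iff.2 (FiniteField.odd_card_of_char_ne_two h1)
    let P0 : Sylow 2 (SpecialLinearGroup (Fin 2) F) := default
    obtain ⟨k, -, ⟨e⟩⟩ := Cfsg.Agent.S0261.result hodd P0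
    exact NoCE.of_quaternion hp (Ne.symm hne) P0.not_dvd_index e
  · exact NoCE.of_cyclic_sylow hp hr hne fun S => Cfsg.Agent.S0262.result p r h2 hne S

variable {n : ℕ} {F : Type u} [Field F] [Finite F]

/-- The datum of `SL(n + 1, F)` in cross characteristic. -/
theorem cdatum {W : Type*} [Group W] (cs : CoxeterSystem (cA n) W) {A : Fin n → Fin n → ℤ} (h : IsCartan (cA n) A)
    {p r : ℕ} [Fact p.Prime] [CharP F p] (hr : r.Prime) (hne : r ≠ p) :
    CDatum cs h p r (T (Fin (n + 1)) F) (ns n F) (X F) where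
  toRGD := rgd cs h
  gen := G1_eq_top cs h
  prime := Fact.out
  prime' := hr
  ne := hne
  card_le := by
    have h1 : ∀ i : Fin n, Nat.card ↥(T (Fin (n + 1)) F ⊓ Lv (X F) i) ≤ Nat.card Fˣ := by
      intro i
      unfold Lv
      rw [X_sr, X_neg_sr]
      exact card_T_inf (Fin.castSucc_lt_succ).ne
    refine (Finset.prod_le_prod' fun i _ => h1 i).trans ?_
    rw [Finset.prod_const, Finset.card_univ, Fintype.card_fin]
    exact card_T_ge n
  rk i := by
    have hab : i.castSucc ≠ i.succ := (Fin.castSucc_lt_succ).ne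
    have h1 : (blk (F := F) hab).range = Lv (X F) i := by
      unfold Lv
      rw [X_sr, X_neg_sr, blk_range]
    rw [← h1]
    exact (noCE_SL (F := F) Fact.out hr hne).congr (MonoidHom.ofInjective (blk_injective hab))

/-- **`SL(n + 1, F)` has no perfect central extension of prime order `r`, `r` not the characteristic.** -/
theorem noPCov_SL_cross (n : ℕ) (p : ℕ) [CharP F p] {r : ℕ} (hr : r.Prime) (hne : r ≠ p) :
    NoPCov r (SpecialLinearGroup (Fin (n + 1)) F) := by
  haveI : Fact p.Prime := ⟨(CharP.char_is_prime_or_zero F p).resolve_right (CharP.char_ne_zero_of_finite F p)⟩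
  haveI : Finite (cA n).Group := finite_W (cA n).toCoxeterSystem (isCartan n)
  exact (cdatum (F := F) (cA n).toCoxeterSystem (isCartan n) hr hne).noPCov

end Cfsg.Agent.H60.CrossA
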