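import Mathlib
import Cfsg.Agent.H67.PCov
import Cfsg.Agent.Nodes.Unique
import Cfsg.Agent.Nodes.NormalForm

/-!
# Perfect central extensions of order `p` of groups with a root group datum in characteristic `p`: the assembly

`R : RGD cs h p T n X` is a root group datum of `Y = ⟨T, X_r⟩`, `π : L → Y` a perfect central extension with kernel
`⟨c⟩` of order `p`, `Xt x`, `x > 0`, are complements of the kernel in the preimages of the positive root groups.
`false_of_comm`: if `[Xt x, Xt y] ≤ ⟨Xt z | z between x and y⟩` for all pairs of positive roots `x ≠ y` then there is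
a contradiction. (General `p` version of `KFacts.Mult.Asm.false_of_good`.)
-/

set_option autoImplicit false
set_option linter.unusedSectionVars false

namespace Cfsg.Agent.H60.AsmP

open CoxeterSystem Cfsg.Agent.ChevalleyStructure.CoxeterGeom Cfsg.Agent.Tits.Roots Cfsg.Agent.Tits.Core
  Cfsg.Agent.Tits.RootComb Cfsg.Agent.Nodes.Comb Cfsg.Agent.Nodes.Reps Cfsg.Agent.Nodes.BNOf
  Cfsg.Agent.Nodes.BNOf.RGD Cfsg.Agent.Nodes.Unique Cfsg.Agent.Nodes.Bruhat Cfsg.Agent.H67
open scoped commutatorElement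

variable {I W Y L : Type*} [Fintype I] [DecidableEq I] [Group W] [Group Y] [Group L] {M : CoxeterMatrix I}
  {cs : CoxeterSystem M W} {A : I → I → ℤ} {h : IsCartan M A} {p : ℕ} {T : Subgroup Y} {n : I → Y}
  {X : (I → ℤ) → Subgroup Y}

variable {π : L →* Y} {c : L}

/-- The complements `Xt x` of the kernel in the preimages of the root groups. -/
structure Compl (cs : CoxeterSystem M W) (h : IsCartan M A) (X : (I → ℤ) → Subgroup Y) (π : L →* Y)
    (Xt : (I → ℤ) → Subgroup L) : Prop where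
  map : ∀ x ∈ Pos cs h, (Xt x).map π = X x
  inj : ∀ x ∈ Pos cs h, ∀ a ∈ Xt x, π a = 1 → a = 1

/-- A pair of positive roots is good. -/
def Good (cs : CoxeterSystem M W) (h : IsCartan M A) (Xt : (I → ℤ) → Subgroup L) (x y : I → ℤ) : Prop :=
  ∀ a ∈ Xt x, ∀ b ∈ Xt y, ⁅a, b⁆ ∈ btw cs h Xt x y

theorem btw_le_Sup' {Xt : (I → ℤ) → Subgroup L} {x y : I → ℤ} {S : Set (I → ℤ)}
    (hS : ∀ z, Btwn cs h x y z → z ∈ S) : btw cs h Xt x y ≤ Sup Xt S := by
  unfold Nodes.Reps.btw
  refine iSup_le ?_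
  rintro ⟨z, hz⟩
  exact le_Sup (hS z hz)

theorem map_Sup {Xt : (I → ℤ) → Subgroup L} {S : Set (I → ℤ)} (hS : ∀ x ∈ S, (Xt x).map π = X x) :
    (Sup Xt S).map π = Sup X S := by
  unfold Sup
  rw [Subgroup.map_iSup]
  refine iSup_congr fun z => hS z.1 z.2

variable {Xt : (I → ℤ) → Subgroup L}

/-- If all elements of `Xt x` map the generators of `M` into `M`, then `Xt x` normalises `M`. -/
theorem le_normalizer_of {H : Subgroup L} {S : Set (I → ℤ)}
    (hH : ∀ a ∈ H, ∀ y ∈ S, ∀ b ∈ Xt y, a * b * a⁻¹ ∈ Sup Xt S) :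
    H ≤ Subgroup.normalizer (Sup Xt S : Set L) := by
  have key : ∀ a ∈ H, ∀ b ∈ Sup Xt S, a * b * a⁻¹ ∈ Sup Xt S := by
    intro a ha
    have h1 : Sup Xt S ≤ (Sup Xt S).comap (MulAut.conj a).toMonoidHom := by
      refine Sup_le fun y hy b hb => ?_
      rw [Subgroup.mem_comap]
      exact hH a ha y hy b hb
    intro b hb
    exact h1 hb
  intro a ha
  rw [Subgroup.mem_normalizer_iff]
  intro b
  refine ⟨fun hb => key a ha b hb, fun hb => ?_⟩
  have h2 := key a⁻¹ (inv_mem ha) _ hb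
  have e : a⁻¹ * (a * b * a⁻¹) * a⁻¹⁻¹ = b := by group
  rwa [e] at h2

variable (R : RGD cs h p T n X)

include R

/-- The step: `Xt x` normalises `M = Sup Xt (Fut (w s_i))`, `x = w α_i`. -/
theorem step [Finite W] {w : W} {i : I} (hw : 0 ≤ rep cs h w (sr i))
    (hg : ∀ y ∈ Fut cs h (w * cs.simple i), Good cs h Xt (rep cs h w (sr i)) y) :
    Xt (rep cs h w (sr i)) ≤ Subgroup.normalizer (Sup Xt (Fut cs h (w * cs.simple i)) : Set L) := by
  set x := rep cs h w (sr i) with hxdef
  set S := Fut cs h (w * cs.simple i) with hSdef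
  have hxr : IsRoot cs h x := ⟨w, i, rfl⟩
  have hSeq : S = Fut cs h w \ {x} := fut_mul hw
  have hSpos : S ⊆ Pos cs h := fut_subset_pos _
  refine le_normalizer_of fun a ha y hy b hb => ?_
  have hyne : y ≠ x := by
    have := hSeq ▸ hy
    exact this.2
  have h2 := hg y hy a ha b hb
  have e : a * b * a⁻¹ = ⁅a, b⁆ * b := by rw [commutatorElement_def]; group
  rw [e]
  refine mul_mem (btw_le_Sup' ?_ h2) (le_Sup hy hb)
  intro z hz
  rw [hSeq]
  have hy' : y ∈ Fut cs h w := by rw [hSeq] at hy; exact hy.1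
  exact ⟨closed_fut w x (mem_fut hw) y hy' z hz,
    btwn_ne_left hxr (hSpos hy).1 hw (hSpos hy).2 hyne.symm hz⟩

/-- `π` is injective on the join of the complements. -/
theorem inj_fut [Finite W] (hX : Compl cs h X π Xt)
    (hg : ∀ x ∈ Pos cs h, ∀ y ∈ Pos cs h, x ≠ y → Good cs h Xt x y) (w : W) :
    ∀ z ∈ Sup Xt (Fut cs h w), π z = 1 → z = 1 := by
  induction hn : (Fut cs h w).ncard generalizing w with
  | zero =>
    have h1 := (Set.ncard_eq_zero (finite_fut w)).1 hn
    rw [h1]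
    intro z h2 _
    have h3 : Sup Xt (∅ : Set (I → ℤ)) ≤ ⊥ := Sup_le fun z hz => absurd hz (Set.notMem_empty z)
    exact Subgroup.mem_bot.1 (h3 h2)
  | succ k ih =>
    have hne : (Fut cs h w).Nonempty := by
      rw [Set.nonempty_iff_ne_empty]
      intro h1
      rw [h1, Set.ncard_empty] at hn
      omega
    obtain ⟨y, hy⟩ := hne
    obtain ⟨i, hi⟩ := exists_simple hy
    set x := rep cs h w (sr i) with hxdef
    have hxr : IsRoot cs h x := ⟨w, i, rfl⟩
    have hxpos : x ∈ Pos cs h := ⟨hxr, hi⟩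
    have hcard : (Fut cs h (w * cs.simple i)).ncard = k := by
      rw [fut_mul hi, Set.ncard_sdiff_singleton_of_mem (mem_fut hi), hn]
      rfl
    have hc' := ih (w * cs.simple i) hcard
    have hst := step (Xt := Xt) R hi (fun y hy => hg x hxpos y (fut_subset_pos _ hy) (by
      rw [fut_mul hi] at hy
      exact (Ne.symm hy.2)))
    intro z hmem hz
    rw [sup_peel (mem_fut hi), ← fut_mul hi] at hmem
    have h1 : z ∈ ((Xt x ⊔ Sup Xt (Fut cs h (w * cs.simple i)) : Subgroup L) : Set L) := hmem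
    rw [Subgroup.coe_mul_of_left_le_normalizer_right _ _ hst, Set.mem_mul] at h1
    obtain ⟨a, ha, b, hb, e⟩ := h1
    have h2 : π a = (π b)⁻¹ := by
      rw [eq_inv_iff_mul_eq_one, ← map_mul, e, hz]
    have h3 : π a ∈ X x ⊓ Sup X (Fut cs h (w * cs.simple i)) := by
      refine ⟨by rw [← hX.map x hxpos]; exact ⟨a, ha, rfl⟩, ?_⟩
      rw [h2]
      apply Subgroup.inv_mem
      rw [← map_Sup (π := π) (Xt := Xt) fun z hz => hX.map z (fut_subset_pos _ hz)]
      exact ⟨b, hb, rfl⟩
    rw [hxdef, tail_inf R, Subgroup.mem_bot] at h3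
    have h4 := hX.inj x hxpos a ha h3
    rw [h4, one_mul] at e
    rw [← e]
    refine hc' b hb ?_
    rw [h3] at h2
    exact inv_eq_one.1 h2.symm

/-- `U` has index prime to `p`. -/
theorem not_dvd_index [Finite W] [Finite Y] (hp : p.Prime) (hG : GG cs h T X = ⊤) :
    ¬ p ∣ (Sup X (Pos cs h)).index := by
  have : Fact p.Prime := ⟨hp⟩
  let P : Sylow p Y :=
    { toSubgroup := Sup X (Pos cs h)
      isPGroup' := RGD.isPGroup_Upos R
      is_maximal' := by
        intro Q hQ hle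
        exact Nodes.NormalForm.eq_U_of_isPGroup R hQ hle (by rw [hG]; exact le_top) }
  exact P.not_dvd_index

/-- **The assembly**: if all pairs of positive roots are good, then `L` does not exist. -/
theorem false_of_comm [Finite W] [Finite L] [Finite Y] (hp : p.Prime) (hG : GG cs h T X = ⊤) (hd : PCov p π c)
    (hX : Compl cs h X π Xt) (hg : ∀ x ∈ Pos cs h, ∀ y ∈ Pos cs h, x ≠ y → Good cs h Xt x y) : False := by
  have hmap : (Sup Xt (Pos cs h)).map π = Sup X (Pos cs h) := map_Sup fun z hz => hX.map z hz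
  have hcP : c ∈ (Sup X (Pos cs h)).comap π := by
    rw [Subgroup.mem_comap, hd.pi_c]; exact one_mem _
  have h1 := hd.mem_commutator' hp hcP (by
    rw [Subgroup.index_comap_of_surjective _ hd.surj]
    exact not_dvd_index R hp hG)
  have h2 : ⁅(Sup X (Pos cs h)).comap π, (Sup X (Pos cs h)).comap π⁆ ≤ Sup Xt (Pos cs h) := by
    rw [Subgroup.commutator_le]
    have key : ∀ a ∈ (Sup X (Pos cs h)).comap π, ∃ m ∈ Sup Xt (Pos cs h), ∃ z, π z = 1 ∧ a = m * z := by
      intro a ha
      rw [Subgroup.mem_comap, ← hmap] at ha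
      obtain ⟨m, hm, he⟩ := ha
      exact ⟨m, hm, m⁻¹ * a, by rw [map_mul, map_inv, he, inv_mul_cancel], by group⟩
    intro a ha b hb
    obtain ⟨m, hm, z, hz, rfl⟩ := key a ha
    obtain ⟨k, hk, w, hw, rfl⟩ := key b hb
    have hz' := hd.comm_of_pi hz
    have hw' := hd.comm_of_pi hw
    have h1 : ⁅m * z, k * w⁆ = ⁅m, k⁆ := by
      rw [commutatorElement_def, commutatorElement_def]
      calc m * z * (k * w) * (m * z)⁻¹ * (k * w)⁻¹
          = m * (z * (k * w)) * z⁻¹ * m⁻¹ * (w⁻¹ * k⁻¹) := by group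
        _ = m * k * (w * m⁻¹) * w⁻¹ * k⁻¹ := by rw [hz']; group
        _ = m * k * m⁻¹ * k⁻¹ := by rw [hw']; group
    rw [h1, commutatorElement_def]
    exact mul_mem (mul_mem (mul_mem hm hk) (inv_mem hm)) (inv_mem hk)
  have h3 := inj_fut R hX hg 1 c (by rw [fut_one]; exact h2 h1) hd.pi_c
  exact hd.ne h3

end Cfsg.Agent.H60.AsmP
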