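import Mathlib
import Cfsg.Agent.KFacts.Mult.Calc
import Cfsg.Agent.KFacts.Mult.TypeA

/-!
# Central `p`-extensions of `SL(ι, F)`, `p` odd, `2 ≠ 0` in `F`: the root elements lift

`π : L → SL(ι, F)` is a central extension whose kernel has exponent `p`, `p` odd, `F` has characteristic `p`.
With the involutions `e i j = diag (-1, -1, 1, …)` of the torus:

* `lc_same`, `lc_row`, `lc_col`, `lc_disj` : lifts of `x_ij(s)` and `x_kl(t)` commute (`j ≠ k`, `i ≠ l`);
* `xt` : the lift `[e_ik, x_ij(-t/2)]` of `x_ij(t)`; `xt_add`, `xt_comm`: `[xt_ij(s), xt_jk(t)] = xt_ik(st)`.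
-/

set_option autoImplicit false
set_option linter.unusedSectionVars false

namespace Cfsg.Agent.H60.OddA

open Matrix Cfsg.Agent.KFacts.Mult.TypeA Cfsg.Agent.KFacts.Mult.Calc
open Cfsg.Agent.TitsThree.KSideA (tv tv_of_ne tv_add tv_zero tv_neg tv_comm tv_commute)
open scoped commutatorElement

variable {ι F : Type*} [Field F] [DecidableEq ι] [Fintype ι]

/-- the involution `-1` at `i`, `j` -/
def e {i j : ι} (hij : i ≠ j) : SpecialLinearGroup ι F :=
  dg (two i j (-1) (-1)) (by rw [prod_two hij]; ring)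

theorem e_conj {i j : ι} (hij : i ≠ j) {a b : ι} (hab : a ≠ b) (t : F) :
    e hij * tv a b t * (e hij)⁻¹ = tv a b (two i j (-1) (-1) a * t * (two i j (-1) (-1) b)⁻¹) :=
  conj_dg _ hab t

theorem e_fix {i j : ι} (hij : i ≠ j) (t : F) : e hij * tv i j t * (e hij)⁻¹ = tv i j t := by
  rw [e_conj hij hij]
  congr 1
  simp [two, hij.symm]

theorem e_left {i j : ι} (hij : i ≠ j) {k : ι} (hik : i ≠ k) (hjk : j ≠ k) (t : F) :
    e hij * tv i k t * (e hij)⁻¹ = tv i k (-t) := by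
  rw [e_conj hij hik]
  congr 1
  simp [two, hik.symm, hjk.symm]

theorem e_left' {i j : ι} (hij : i ≠ j) {k : ι} (hik : i ≠ k) (hjk : j ≠ k) (t : F) :
    e hij * tv j k t * (e hij)⁻¹ = tv j k (-t) := by
  rw [e_conj hij hjk]
  congr 1
  simp [two, hik.symm, hjk.symm, hij.symm]

theorem e_right {i j : ι} (hij : i ≠ j) {k : ι} (hik : i ≠ k) (hjk : j ≠ k) (t : F) :
    e hij * tv k i t * (e hij)⁻¹ = tv k i (-t) := by
  rw [e_conj hij hik.symm]
  congr 1
  simp [two, hik.symm, hjk.symm, inv_neg]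

theorem e_right' {i j : ι} (hij : i ≠ j) {k : ι} (hik : i ≠ k) (hjk : j ≠ k) (t : F) :
    e hij * tv k j t * (e hij)⁻¹ = tv k j (-t) := by
  rw [e_conj hij hjk.symm]
  congr 1
  simp [two, hik.symm, hjk.symm, hij.symm, inv_neg]

theorem e_comm {i j k l : ι} (hij : i ≠ j) (hkl : k ≠ l) :
    e (F := F) hij * e hkl * (e hij)⁻¹ = e hkl := by
  have h1 : e (F := F) hij * e hkl = e hkl * e hij := T_comm (dg_mem _) (dg_mem _)
  rw [h1, mul_inv_cancel_right]

variable {L : Type*} [Group L] {π : L →* SpecialLinearGroup ι F}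

/-- A central extension with kernel of odd exponent `p = char F`. -/
structure OddExt (p : ℕ) (π : L →* SpecialLinearGroup ι F) : Prop extends CE π where
  odd : Odd p
  char : (p : F) = 0
  exp : ∀ z, π z = 1 → z ^ p = 1

variable {p : ℕ} (H : OddExt p π)

include H

theorem two_ne : (2 : F) ≠ 0 := by
  intro h2
  obtain ⟨k, hk⟩ := H.odd
  have h1 := H.char
  rw [hk] at h1
  push_cast at h1
  rw [h2, zero_mul, zero_add] at h1
  exact one_ne_zero h1

theorem eq_one_of_sq {z : L} (hz : π z = 1) (h2 : z * z = 1) : z = 1 := by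
  obtain ⟨k, hk⟩ := H.odd
  have h1 := H.exp z hz
  rw [hk, pow_succ, pow_mul, pow_two, h2, one_pow, one_mul] at h1
  exact h1

theorem eq_one_of_inv {z : L} (hz : π z = 1) (h2 : z = z⁻¹) : z = 1 :=
  eq_one_of_sq H hz (by nth_rw 2 [h2]; exact mul_inv_cancel z)

theorem lc_neg_left {a b : ι} {t : F} {m : SpecialLinearGroup ι F} (hc : Commute (tv a b t) m) :
    H.toCE.lc (tv a b (-t)) m = (H.toCE.lc (tv a b t) m)⁻¹ := by
  have h1 := H.toCE.lc_mul_left (l := tv a b (-t)) (l' := tv a b t) (m := m) hc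
  rw [← tv_add, neg_add_cancel, tv_zero, H.toCE.lc_one_left] at h1
  exact eq_inv_of_mul_eq_one_left h1.symm

theorem lc_mem_ker {l m : SpecialLinearGroup ι F} (hc : Commute l m) : π (H.toCE.lc l m) = 1 := by
  rw [H.toCE.map_lc, commutatorElement_eq_one_iff_commute.2 hc]

theorem lc_same (h3 : ∀ i j : ι, ∃ k, k ≠ i ∧ k ≠ j) {i j : ι} (hij : i ≠ j) (s t : F) :
    H.toCE.lc (tv i j s) (tv i j t) = 1 := by
  obtain ⟨k, hki, hkj⟩ := h3 i j
  have e1 := tv_comm (F := F) hki.symm hkj hij t 1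
  rw [mul_one] at e1
  rw [← e1]
  exact H.toCE.lc_comm_eq_one (tv_commute hij.symm hki.symm s t) (tv_commute hkj.symm hij s 1)

theorem lc_row {i j l : ι} (hij : i ≠ j) (hil : i ≠ l) (hjl : j ≠ l) (s t : F) :
    H.toCE.lc (tv i j s) (tv i l t) = 1 := by
  have hc : Commute (tv i l t) (tv i j s) := tv_commute hil.symm hij t s
  have e1 := H.toCE.lc_torus hc (e_fix hij s)
  rw [e_left hij hil hjl, lc_neg_left H hc] at e1
  have e2 := eq_one_of_inv H (lc_mem_ker H hc) e1.symm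
  rw [H.toCE.lc_swap, e2, inv_one]

theorem lc_col {i j l : ι} (hij : i ≠ j) (hlj : l ≠ j) (hil : i ≠ l) (s t : F) :
    H.toCE.lc (tv i j s) (tv l j t) = 1 := by
  have hc : Commute (tv l j t) (tv i j s) := tv_commute hij.symm hlj t s
  have e1 := H.toCE.lc_torus hc (e_fix hij s)
  rw [e_right' hij hil hlj.symm, lc_neg_left H hc] at e1
  have e2 := eq_one_of_inv H (lc_mem_ker H hc) e1.symm
  rw [H.toCE.lc_swap, e2, inv_one]

/-- Disjoint indices. -/
theorem lc_disj {i j k l : ι} (hij : i ≠ j) (hik : i ≠ k) (hil : i ≠ l) (hjk : j ≠ k) (hjl : j ≠ l) (hkl : k ≠ l)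
    (s t : F) : H.toCE.lc (tv i j s) (tv k l t) = 1 := by
  -- (B1) `φ(ij, kl)(s, u v) = φ(kj, il)(u, s v)`
  have B1 : ∀ s u v : F, H.toCE.lc (tv i j s) (tv k l (u * v)) = H.toCE.lc (tv k j u) (tv i l (s * v)) := by
    intro s u v
    have h1 := H.toCE.hw (a := tv k j u) (b := tv j l v) (c := tv i j s) (tv_commute hjk hij s u)
    rw [tv_comm hjk.symm hjl hkl, tv_comm hij hjl hil, lc_col H hil hkl.symm.symm hik, mul_one] at h1
    exact h1
  -- (B2) `φ(kl, ij)(u, s t) = φ(kj, il)(t, s u)`, from `x_ij = [x_ik, x_kj]`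
  have B2 : ∀ s t u : F, H.toCE.lc (tv k l u) (tv i j (-(t * s))) = H.toCE.lc (tv k j t) (tv i l (-(u * s))) := by
    intro s t u
    have e1 : ∀ x : F, ⁅tv k j x, tv i k s⁆ = tv i j (-(x * s)) := by
      intro x
      rw [← commutatorElement_inv, tv_comm hik hjk.symm hij, ← tv_neg, mul_comm]
    have e2 : ∀ x : F, ⁅tv k l x, tv i k s⁆ = tv i l (-(x * s)) := by
      intro x
      rw [← commutatorElement_inv, tv_comm hik hkl hil, ← tv_neg, mul_comm]
    have h1 := H.toCE.hw (a := tv k j t) (b := tv i k s) (c := tv k l u) (tv_commute hkl.symm hjk.symm u t)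
    rw [e1, e2, lc_row H hil hij hjl.symm, mul_one] at h1
    exact h1
  have hcI : ∀ s t : F, Commute (tv i j s) (tv k l t) := fun s t => tv_commute hjk hil s t
  -- `φ(ij, kl)(s, t) = φ(kj, il)(1, s t)`
  have C1 : H.toCE.lc (tv i j s) (tv k l t) = H.toCE.lc (tv k j 1) (tv i l (s * t)) := by
    have := B1 s 1 t
    rwa [one_mul] at this
  -- `φ(kl, ij)(t, s) = φ(kj, il)(1, s t)`
  have C2 : H.toCE.lc (tv k l t) (tv i j s) = H.toCE.lc (tv k j 1) (tv i l (s * t)) := by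
    have := B2 (-s) 1 t
    rw [one_mul, neg_neg] at this
    rw [this]
    congr 2
    ring
  rw [H.toCE.lc_swap, ← C1] at C2
  exact eq_one_of_inv H (lc_mem_ker H (hcI s t)) C2.symm

/-- all pairs -/
theorem lc_all (h3 : ∀ i j : ι, ∃ k, k ≠ i ∧ k ≠ j) {i j k l : ι} (hij : i ≠ j) (hkl : k ≠ l) (hjk : j ≠ k)
    (hil : i ≠ l) (s t : F) : H.toCE.lc (tv i j s) (tv k l t) = 1 := by
  by_cases hik : i = k
  · subst hik
    by_cases hjl : j = l
    · subst hjl
      exact lc_same H h3 hij s t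
    · exact lc_row H hij hkl hjl s t
  · by_cases hjl : j = l
    · subst hjl
      exact lc_col H hij hkl hik s t
    · exact lc_disj H hij hik hil hjk hjl hkl s t

/-- The lift of `x_ij(t)`. -/
noncomputable def xt {i k : ι} (hik : i ≠ k) (j : ι) (t : F) : L := H.toCE.lc (e hik) (tv i j (-(t / 2)))

theorem map_xt {i j k : ι} (hij : i ≠ j) (hik : i ≠ k) (hkj : k ≠ j) (t : F) : π (xt H hik j t) = tv i j t := by
  have h2 := two_ne H
  rw [xt, H.toCE.map_lc, commutatorElement_def, e_left hik hij hkj, ← tv_neg, ← tv_add]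
  congr 1
  field_simp
  ring

theorem xt_add (h3 : ∀ i j : ι, ∃ k, k ≠ i ∧ k ≠ j) {i j k : ι} (hij : i ≠ j) (hik : i ≠ k) (hkj : k ≠ j) (s t : F) :
    xt H hik j (s + t) = xt H hik j s * xt H hik j t := by
  have e1 : -((s + t) / 2) = -(s / 2) + -(t / 2) := by ring
  rw [xt, e1, tv_add, H.toCE.lc_mul_right', xt, xt]
  have e2 : ⁅(e hik : SpecialLinearGroup ι F), tv i j (-(t / 2))⁆ = tv i j t := by
    rw [← map_xt H hij hik hkj t, xt, H.toCE.map_lc]
  rw [e2, lc_same H h3 hij, mul_one]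

theorem xt_zero {i k : ι} (hik : i ≠ k) (j : ι) : xt H hik j 0 = 1 := by
  rw [xt, zero_div, neg_zero, tv_zero, H.toCE.lc_one_right]

/-- conjugation by a lift of `e` -/
theorem conj_xt {i k : ι} (hik : i ≠ k) (j : ι) {a b : ι} (hab : a ≠ b) (ε : F)
    (he : ∀ t : F, e hab * tv i j t * (e hab)⁻¹ = tv i j (ε * t)) (t : F) :
    H.toCE.lift (e hab) * xt H hik j t * (H.toCE.lift (e hab))⁻¹ = xt H hik j (ε * t) := by
  rw [xt, H.toCE.conj_lc, H.toCE.map_lift, e_comm, he, xt]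
  congr 2
  ring

/-- `[x_ij(s), x_jk(t)] = x_ik(s t)` on the level of lifts. -/
theorem lc_eq_xt (h3 : ∀ i j : ι, ∃ k, k ≠ i ∧ k ≠ j) {i j k m : ι} (hij : i ≠ j) (hjk : j ≠ k) (hik : i ≠ k)
    (him : i ≠ m) (hmk : m ≠ k) (s t : F) : H.toCE.lc (tv i j s) (tv j k t) = xt H him k (s * t) := by
  have hadd : ∀ s t t' : F, H.toCE.lc (tv i j s) (tv j k (t + t')) =
      H.toCE.lc (tv i j s) (tv j k t) * H.toCE.lc (tv i j s) (tv j k t') := by
    intro s t t'
    rw [tv_add, H.toCE.lc_mul_right', tv_comm hij hjk hik, lc_all H h3 hjk hik hik.symm hjk, mul_one]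
  -- the error
  set g : L := H.toCE.lc (tv i j s) (tv j k t) * (xt H him k (s * t))⁻¹ with hg
  have hπ : π g = 1 := by
    rw [hg, map_mul, map_inv, H.toCE.map_lc, map_xt H hik him hmk, tv_comm hij hjk hik, mul_inv_cancel]
  have hcen : ∀ x : L, x * g = g * x := fun x => Subgroup.mem_center_iff.1 (H.toCE.cen (MonoidHom.mem_ker.2 hπ)) x
  have hconj : H.toCE.lift (e hij) * g * (H.toCE.lift (e hij))⁻¹ = g := by
    rw [hcen, mul_inv_cancel_right]
  have e1 : H.toCE.lift (e hij) * H.toCE.lc (tv i j s) (tv j k t) * (H.toCE.lift (e hij))⁻¹ =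
      H.toCE.lc (tv i j s) (tv j k (-t)) := by
    rw [H.toCE.conj_lc, H.toCE.map_lift, e_fix, e_left' hij hik hjk]
  have e2 : H.toCE.lift (e hij) * xt H him k (s * t) * (H.toCE.lift (e hij))⁻¹ = xt H him k (-(s * t)) := by
    rw [conj_xt H him k hij (-1) (fun t => by rw [e_left hij hik hjk, neg_one_mul]), neg_one_mul]
  have e3 : H.toCE.lc (tv i j s) (tv j k t) = g * xt H him k (s * t) := by rw [hg, inv_mul_cancel_right]
  have e4 : H.toCE.lc (tv i j s) (tv j k (-t)) = g * xt H him k (-(s * t)) := by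
    rw [← e1, e3, ← e2]
    calc H.toCE.lift (e hij) * (g * xt H him k (s * t)) * (H.toCE.lift (e hij))⁻¹
        = (H.toCE.lift (e hij) * g) * xt H him k (s * t) * (H.toCE.lift (e hij))⁻¹ := by group
      _ = g * (H.toCE.lift (e hij) * xt H him k (s * t) * (H.toCE.lift (e hij))⁻¹) := by rw [hcen]; group
  have e5 : g * g = 1 := by
    have h1 := hadd s t (-t)
    rw [add_neg_cancel, tv_zero, H.toCE.lc_one_right, e3, e4] at h1
    have h2 := xt_add H h3 hik him hmk (s * t) (-(s * t))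
    rw [add_neg_cancel, xt_zero] at h2
    calc g * g = g * g * (xt H him k (s * t) * xt H him k (-(s * t))) := by rw [← h2, mul_one]
      _ = g * (g * xt H him k (s * t)) * xt H him k (-(s * t)) := by group
      _ = g * (xt H him k (s * t) * g) * xt H him k (-(s * t)) := by rw [hcen]
      _ = g * xt H him k (s * t) * (g * xt H him k (-(s * t))) := by group
      _ = 1 := h1.symm
  rw [e3, eq_one_of_sq H hπ e5, one_mul]

/-- `[xt_ij(s), xt_jk(t)] = xt_ik(s t)`. -/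
theorem xt_comm (h3 : ∀ i j : ι, ∃ k, k ≠ i ∧ k ≠ j) {i j k a b m : ι} (hij : i ≠ j) (hjk : j ≠ k) (hik : i ≠ k)
    (hia : i ≠ a) (haj : a ≠ j) (hjb : j ≠ b) (hbk : b ≠ k) (him : i ≠ m) (hmk : m ≠ k) (s t : F) :
    ⁅xt H hia j s, xt H hjb k t⁆ = xt H him k (s * t) := by
  rw [H.toCE.comm_eq' (map_xt H hij hia haj s) (map_xt H hjk hjb hbk t), lc_eq_xt H h3 hij hjk hik him hmk]

/-- All other pairs commute. -/
theorem xt_comm_one (h3 : ∀ i j : ι, ∃ k, k ≠ i ∧ k ≠ j) {i j k l a b : ι} (hij : i ≠ j) (hkl : k ≠ l) (hjk : j ≠ k)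
    (hil : i ≠ l) (hia : i ≠ a) (haj : a ≠ j) (hkb : k ≠ b) (hbl : b ≠ l) (s t : F) :
    ⁅xt H hia j s, xt H hkb l t⁆ = 1 := by
  rw [H.toCE.comm_eq' (map_xt H hij hia haj s) (map_xt H hkl hkb hbl t), lc_all H h3 hij hkl hjk hil]

end Cfsg.Agent.H60.OddA
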