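import Mathlib
import Cfsg.Agent.H60.AsmP
import Cfsg.Agent.H60.OddA
import Cfsg.Agent.Nodes.RGDTypeA

/-!
# `SL(n, q)`, `n ≥ 3`, `q` odd: no perfect central extensions of order `p = char`
-/

set_option autoImplicit false
set_option linter.unusedSectionVars false

namespace Cfsg.Agent.H60.OddThree

open Matrix CoxeterSystem Cfsg.Agent.ChevalleyStructure.CoxeterGeom Cfsg.Agent.Tits.Roots
open Cfsg.Agent.Nodes.Reps Cfsg.Agent.Nodes.BNOf Cfsg.Agent.Nodes.BNOf.RGD Cfsg.Agent.Nodes.RGDLib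
  Cfsg.Agent.Nodes.RootsA Cfsg.Agent.Nodes.RGDTypeA Cfsg.Agent.Tits.RootComb Cfsg.Agent.Nodes.Comb
open Cfsg.Agent.LieRecognition.BNCox (cA)
open Cfsg.Agent.KFacts.Mult.Calc Cfsg.Agent.H60.OddA Cfsg.Agent.H67
open Cfsg.Agent.TitsThree.KSideA (tv tv_of_ne tv_add tv_zero tv_neg tv_comm tv_commute)
open scoped commutatorElement

variable {n : ℕ} {F : Type*} [Field F] {L : Type*} [Group L] {π : L →* SpecialLinearGroup (Fin (n + 1)) F} {p : ℕ}

theorem exists_third (hn : 2 ≤ n) (i j : Fin (n + 1)) : ∃ k, k ≠ i ∧ k ≠ j := by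
  by_contra hcon
  push Not at hcon
  have h2 : (Finset.univ : Finset (Fin (n + 1))) ⊆ {i, j} := by
    intro k _
    by_cases h : k = i
    · rw [h]; simp
    · rw [hcon k h]; simp
  have h3 := Finset.card_le_card h2
  rw [Finset.card_univ, Fintype.card_fin] at h3
  have h4 : ({i, j} : Finset (Fin (n + 1))).card ≤ 2 := Finset.card_le_two
  omega

/-- a third index -/
noncomputable def third (hn : 2 ≤ n) (i j : Fin (n + 1)) : Fin (n + 1) := (exists_third hn i j).choose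

theorem third_ne (hn : 2 ≤ n) (i j : Fin (n + 1)) : i ≠ third hn i j ∧ third hn i j ≠ j :=
  ⟨(exists_third hn i j).choose_spec.1.symm, (exists_third hn i j).choose_spec.2⟩

/-- The lifted root group `X_ij`. -/
noncomputable def XT (H : OddExt p π) (hn : 2 ≤ n) {i j : Fin (n + 1)} (hij : i ≠ j) : Subgroup L where
  carrier := Set.range (xt H (third_ne hn i j).1 j)
  mul_mem' := by
    rintro _ _ ⟨s, rfl⟩ ⟨t, rfl⟩
    exact ⟨s + t, xt_add H (exists_third hn) hij (third_ne hn i j).1 (third_ne hn i j).2 s t⟩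
  one_mem' := ⟨0, xt_zero H _ _⟩
  inv_mem' := by
    rintro _ ⟨s, rfl⟩
    refine ⟨-s, ?_⟩
    rw [eq_inv_iff_mul_eq_one, ← xt_add H (exists_third hn) hij (third_ne hn i j).1 (third_ne hn i j).2,
      neg_add_cancel, xt_zero]

theorem mem_XT (H : OddExt p π) (hn : 2 ≤ n) {i j : Fin (n + 1)} (hij : i ≠ j) (g : L) :
    g ∈ XT H hn hij ↔ ∃ t, xt H (third_ne hn i j).1 j t = g := Iff.rfl

/-- The family of the lifted root groups. -/
noncomputable def Xt (H : OddExt p π) (hn : 2 ≤ n) (x : Fin n → ℤ) : Subgroup L :=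
  ⨆ z : {z : Fin (n + 1) × Fin (n + 1) // z.1 ≠ z.2 ∧ rtA z.1 z.2 = x}, XT H hn z.2.1

theorem Xt_rtA (H : OddExt p π) (hn : 2 ≤ n) {a b : Fin (n + 1)} (hab : a ≠ b) :
    Xt H hn (rtA a b) = XT H hn hab := by
  apply le_antisymm
  · refine iSup_le ?_
    rintro ⟨⟨c, d⟩, hcd, he⟩
    obtain ⟨rfl, rfl⟩ := rtA_inj hcd he
    exact le_rfl
  · exact le_iSup (fun z : {z : Fin (n + 1) × Fin (n + 1) // z.1 ≠ z.2 ∧ rtA z.1 z.2 = rtA a b} =>
      XT H hn z.2.1) ⟨(a, b), hab, rfl⟩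

theorem map_XT (H : OddExt p π) (hn : 2 ≤ n) {i j : Fin (n + 1)} (hij : i ≠ j) :
    (XT H hn hij).map π = XX F i j := by
  have h3 := third_ne hn i j
  ext g
  constructor
  · rintro ⟨_, ⟨t, rfl⟩, rfl⟩
    exact ⟨t, (map_xt H hij h3.1 h3.2 t).symm⟩
  · rintro ⟨t, rfl⟩
    exact ⟨_, ⟨t, rfl⟩, map_xt H hij h3.1 h3.2 t⟩

theorem inj_XT (H : OddExt p π) (hn : 2 ≤ n) {i j : Fin (n + 1)} (hij : i ≠ j) {g : L} (hg : g ∈ XT H hn hij)
    (h1 : π g = 1) : g = 1 := by
  have h3 := third_ne hn i j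
  obtain ⟨t, rfl⟩ := hg
  rw [map_xt H hij h3.1 h3.2, ← tv_zero i j] at h1
  have := tv_inj hij h1
  rw [this, xt_zero]

variable {W : Type*} [Group W] [Finite W] (cs : CoxeterSystem (cA n) W) {A : Fin n → Fin n → ℤ} (h : IsCartan (cA n) A)

theorem compl (H : OddExt p π) (hn : 2 ≤ n) : AsmP.Compl cs h (X F) π (Xt H hn) where
  map := by
    intro x hx
    obtain ⟨a, b, hab, rfl⟩ := exists_of_isRoot cs h hx.1
    rw [Xt_rtA H hn hab, X_rtA hab, map_XT]
  inj := by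
    intro x hx g hg h1
    obtain ⟨a, b, hab, rfl⟩ := exists_of_isRoot cs h hx.1
    rw [Xt_rtA H hn hab] at hg
    exact inj_XT H hn hab hg h1

theorem good (H : OddExt p π) (hn : 2 ≤ n) : ∀ x ∈ Pos cs h, ∀ y ∈ Pos cs h, x ≠ y →
    AsmP.Good cs h (Xt H hn) x y := by
  intro x hx y hy hxy u hu v hv
  have h3 := exists_third hn
  obtain ⟨a, b, hab, rfl⟩ := exists_of_isRoot cs h hx.1
  obtain ⟨c, d, hcd, rfl⟩ := exists_of_isRoot cs h hy.1
  rw [Xt_rtA H hn hab] at hu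
  rw [Xt_rtA H hn hcd] at hv
  obtain ⟨s, rfl⟩ := hu
  obtain ⟨t, rfl⟩ := hv
  have t1 := third_ne hn a b
  have t2 := third_ne hn c d
  have hab' : a < b := lt_of_le_of_ne (rtA_nonneg_iff.1 hx.2) hab
  have hcd' : c < d := lt_of_le_of_ne (rtA_nonneg_iff.1 hy.2) hcd
  by_cases hbc : b = c
  · subst hbc
    have had : a ≠ d := (hab'.trans hcd').ne
    have t3 := third_ne hn a d
    rw [xt_comm H h3 hab hcd had t1.1 t1.2 t2.1 t2.2 t3.1 t3.2]
    have hz : Btwn cs h (rtA a b) (rtA b d) (rtA a d) :=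
      ⟨isRoot_rtA cs h had, 1, 1, 1, by norm_num, by norm_num, by norm_num, by
        rw [one_smul, one_smul, one_smul, rtA_add]⟩
    refine le_btw_of hz ?_
    rw [Xt_rtA H hn had]
    exact ⟨_, rfl⟩
  · by_cases had : a = d
    · subst had
      have hcb : c ≠ b := (hcd'.trans hab').ne
      have t3 := third_ne hn c b
      rw [← commutatorElement_inv, xt_comm H h3 hcd hab hcb t2.1 t2.2 t1.1 t1.2 t3.1 t3.2]
      have hz : Btwn cs h (rtA a b) (rtA c a) (rtA c b) :=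
        ⟨isRoot_rtA cs h hcb, 1, 1, 1, by norm_num, by norm_num, by norm_num, by
          rw [one_smul, one_smul, one_smul, add_comm, rtA_add]⟩
      refine inv_mem (le_btw_of hz ?_)
      rw [Xt_rtA H hn hcb]
      exact ⟨_, rfl⟩
    · rw [xt_comm_one H h3 hab hcd hbc had t1.1 t1.2 t2.1 t2.2]
      exact one_mem _

/-- **`SL(n + 1, F)`, `n ≥ 2`, has no perfect central extension of order `p = char F` odd.** -/
theorem noPCov_SL_char {n : ℕ} (hn : 2 ≤ n) {F : Type*} [Field F] [Finite F] {p : ℕ} (hp : p.Prime) [CharP F p]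
    (hp2 : p ≠ 2) : NoPCov p (SpecialLinearGroup (Fin (n + 1)) F) := by
  intro L _ _ π c hd
  have : Fact p.Prime := ⟨hp⟩
  have hW : Finite (cA n).Group := finite_W (cA n).toCoxeterSystem (isCartan n)
  have H : OddExt p π :=
    { surj := hd.surj
      cen := hd.ker_le
      odd := hp.odd_of_ne_two hp2
      char := CharP.cast_eq_zero F p
      exp := by
        intro z hz
        obtain ⟨k, rfl⟩ := Subgroup.mem_zpowers_iff.1 ((hd.ker z).1 hz)
        rw [← zpow_natCast, ← _root_.zpow_mul, mul_comm, _root_.zpow_mul, zpow_natCast, hd.pow, _root_.one_zpow] }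
  exact AsmP.false_of_comm (rgd (F := F) (p := p) (cA n).toCoxeterSystem (isCartan n)) hp
    (KFacts.Mult.RGDW.GG_eq_top_of_G1 (G1_eq_top _ _)) hd (compl _ _ H hn) (good _ _ H hn)

end Cfsg.Agent.H60.OddThree
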