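import Mathlib
import Cfsg.Agent.H60.CrossA
import Cfsg.Agent.H60.EvenA
import Cfsg.Agent.H60.OddTwo
import Cfsg.Agent.H60.OddThree
import Cfsg.Agent.H60.CoverMult
import Cfsg.Agent.LieClassical.SLGen
import Cfsg.Agent.TwoFusion.SLTwoFacts

/-!
# The Schur multipliers of `SL(n, q)` and `PSL(n, q)`

* `Ok n q`: `n ≥ 2`, `q ≥ 4` if `n = 2`, and `(n, q)` is none of `(2, 4), (2, 9), (3, 2), (3, 4), (4, 2)`;
* `noPCov_SL`: `SL(n, F)` has no perfect central extension of prime order;
* `perfect_SL`, `hasTrivial_SL` : `SL(n, F)` is perfect with trivial Schur multiplier;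
* `hasMultiplier_PSL`: `PSL(n, F)` has cyclic Schur multiplier of order `gcd (n, q - 1)`.
-/

set_option autoImplicit false

namespace Cfsg.Agent.H60.MultA

open Matrix Cfsg.Agent.H67

universe u

/-- The non-exceptional pairs. -/
structure Ok (n q : ℕ) : Prop where
  two : 2 ≤ n
  four : n = 2 → 4 ≤ q
  exc : (n, q) ∉ ({(2, 4), (2, 9), (3, 2), (3, 4), (4, 2)} : Set (ℕ × ℕ))

theorem Ok.ne {n q : ℕ} (h : Ok n q) : (n = 2 → 4 < q ∧ q ≠ 9) ∧ (n = 3 → q ≠ 2 ∧ q ≠ 4) ∧ (n = 4 → q ≠ 2) := by
  have h1 := h.exc
  simp only [Set.mem_insert_iff, Set.mem_singleton_iff, Prod.mk.injEq, not_or, not_and] at h1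
  have h2 := h.four
  obtain ⟨a, b, c, d, e⟩ := h1
  refine ⟨fun hn => ⟨?_, b hn⟩, fun hn => ⟨c hn, d hn⟩, fun hn => e hn⟩
  have := h2 hn
  have := a hn
  omega

variable {F : Type u} [Field F] [Finite F]

theorem card_field (F : Type u) [Field F] [Finite F] : ∃ (p k : ℕ), p.Prime ∧ 0 < k ∧ Nat.card F = p ^ k ∧ CharP F p := by
  have : Fintype F := Fintype.ofFinite F
  obtain ⟨p, hp⟩ := CharP.exists F
  obtain ⟨k, hpp, hk⟩ := FiniteField.card F p
  exact ⟨p, k, hpp, k.pos, by rw [Nat.card_eq_fintype_card, hk], hp⟩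

/-- **`SL(n, F)` has no perfect central extension of prime order.** -/
theorem noPCov_SL {n : ℕ} (h : Ok n (Nat.card F)) {r : ℕ} (hr : r.Prime) : NoPCov r (SpecialLinearGroup (Fin n) F) := by
  obtain ⟨p, k, hp, hk, hcard, hchar⟩ := card_field F
  have hn := h.two
  obtain ⟨h2, h3, h4⟩ := h.ne
  by_cases hne : r = p
  · subst hne
    by_cases h2' : r = 2
    · subst h2'
      refine EvenA.noPCov_SL_two hn ?_
      -- `q = 2 ^ k`
      have hk1 : k = 1 ∨ k = 2 ∨ 3 ≤ k := by omega
      rcases hk1 with rfl | rfl | hk1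
      · rw [pow_one] at hcard
        right; right
        refine ⟨?_, hcard⟩
        rw [hcard] at h2 h3 h4
        by_contra hlt
        have : n = 2 ∨ n = 3 ∨ n = 4 := by omega
        rcases this with rfl | rfl | rfl
        · exact absurd (h2 rfl).1 (by norm_num)
        · exact (h3 rfl).1 rfl
        · exact h4 rfl rfl
      · have hc4 : Nat.card F = 4 := by rw [hcard]; norm_num
        left
        refine ⟨?_, by omega⟩
        rw [hc4] at h2 h3
        by_contra hlt
        have : n = 2 ∨ n = 3 := by omega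
        rcases this with rfl | rfl
        · exact absurd (h2 rfl).1 (by norm_num)
        · exact (h3 rfl).2 rfl
      · right; left
        rw [hcard]
        calc 4 < 2 ^ 3 := by norm_num
          _ ≤ 2 ^ k := Nat.pow_le_pow_right (by norm_num) hk1
    · by_cases hn2 : n = 2
      · subst hn2
        refine OddTwo.noPCov_SL_two_char hp h2' ?_
        have hp3 : 3 ≤ r := by
          have := hp.two_le
          omega
        by_cases hk1 : k = 1
        · left; rw [hcard, hk1, pow_one]
        · right
          have hk2 : 2 ≤ k := by omega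
          have h9 := (h2 rfl).2
          rw [hcard] at h9 ⊢
          by_cases hr3 : r = 3
          · subst hr3
            have hk3 : 3 ≤ k := by
              by_contra hlt
              have : k = 2 := by omega
              subst this
              exact h9 (by norm_num)
            calc 13 < 3 ^ 3 := by norm_num
              _ ≤ 3 ^ k := Nat.pow_le_pow_right (by norm_num) hk3
          · have hr5 : 5 ≤ r := by
              have h4 : r ≠ 4 := by
                rintro rfl
                exact absurd hp (by norm_num)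
              omega
            calc 13 < 5 ^ 2 := by norm_num
              _ ≤ r ^ 2 := Nat.pow_le_pow_left hr5 2
              _ ≤ r ^ k := Nat.pow_le_pow_right (by omega) hk2
      · obtain ⟨m, rfl⟩ : ∃ m, n = m + 1 := ⟨n - 1, by omega⟩
        exact OddThree.noPCov_SL_char (by omega) hp h2'
  · obtain ⟨m, rfl⟩ : ∃ m, n = m + 1 := ⟨n - 1, by omega⟩
    exact CrossA.noPCov_SL_cross m p hr hne

/-- `SL(n, F)` is perfect. -/
theorem perfect_SL {n : ℕ} (h : Ok n (Nat.card F)) : commutator (SpecialLinearGroup (Fin n) F) = ⊤ := by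
  by_cases hn : n = 2
  · subst hn
    have : Fintype F := Fintype.ofFinite F
    refine TwoFusion.SLTwoFacts.commutator_eq_top ?_
    rw [← Nat.card_eq_fintype_card]
    have := h.four rfl
    omega
  · refine LieClassical.SLGen.commutator_eq_top ?_
    rw [Fintype.card_fin]
    have := h.two
    omega

/-- **`SL(n, F)` has trivial Schur multiplier.** -/
theorem hasTrivial_SL {n : ℕ} (h : Ok n (Nat.card F)) :
    Cfsg.HasCyclicSchurMultiplier (SpecialLinearGroup (Fin n) F) 1 :=
  hasTrivial (perfect_SL h) fun _ hr => noPCov_SL h hr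

/-- The centre of `SL(n, F)` is cyclic of order `gcd (n, q - 1)`. -/
theorem nonempty_center {n : ℕ} (hn : 1 ≤ n) :
    Nonempty (Subgroup.center (SpecialLinearGroup (Fin n) F) ≃* Multiplicative (ZMod (Nat.gcd n (Nat.card F - 1)))) := by
  have : Fintype F := Fintype.ofFinite F
  have hc := EvenA.card_center_SL (K := F) hn
  rw [← Nat.card_eq_fintype_card] at hc
  have hcyc : IsCyclic (Subgroup.center (SpecialLinearGroup (Fin n) F)) := by
    have : NeZero n := ⟨by omega⟩
    have : IsCyclic (rootsOfUnity n F) := inferInstance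
    have e := Matrix.SpecialLinearGroup.center_equiv_rootsOfUnity' (n := Fin n) (R := F) ⟨0, by omega⟩
    rw [Fintype.card_fin] at e
    exact isCyclic_of_surjective e.symm.toMonoidHom e.symm.surjective
  have : NeZero (Nat.gcd n (Nat.card F - 1)) := ⟨(Nat.gcd_pos_of_pos_left _ hn).ne'⟩
  have h1 : Nat.card (Multiplicative (ZMod (Nat.gcd n (Nat.card F - 1)))) = Nat.gcd n (Nat.card F - 1) :=
    Nat.card_zmod _
  exact ⟨mulEquivOfCyclicCardEq (by rw [hc, h1])⟩

/-- **The Schur multiplier of `PSL(n, F)`** is cyclic of order `gcd (n, q - 1)`, with the usual exceptions. -/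
theorem hasMultiplier_PSL {n : ℕ} (h : Ok n (Nat.card F)) :
    Cfsg.HasCyclicSchurMultiplier (ProjectiveSpecialLinearGroup (Fin n) F) (Nat.gcd n (Nat.card F - 1)) := by
  obtain ⟨e⟩ := nonempty_center (F := F) (n := n) (by have := h.two; omega)
  refine CoverMult.hasSchurMultiplier_of_cover (perfect_SL h) (hasTrivial_SL h)
    (π := QuotientGroup.mk' (Subgroup.center (SpecialLinearGroup (Fin n) F))) (QuotientGroup.mk'_surjective _)
    (by rw [QuotientGroup.ker_mk']) ((MulEquiv.subgroupCongr (QuotientGroup.ker_mk' _)).trans e)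

end Cfsg.Agent.H60.MultA
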