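import Mathlib
import Cfsg.Agent.H716.CopRow
import Cfsg.Agent.H967.CopSz
import Cfsg.Agent.ChevalleyStructure.TwF4.TorusFix
import Cfsg.Agent.ChevalleyStructure.TwF4.OrderCls

/-!
# `TRow 2` for the groups `²F₄(q)`

A coprime automorphism is a field automorphism `σ` up to an isomorphism; `e = T (t^(2e), t^(2e), t^2, t)`-type torus
element which centralises the involution `x_{p₁}(1) x_{p₄}(1)`, `t` a generator of the multiplicative group.
-/

set_option autoImplicit false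

namespace Cfsg.Agent.H60.TRowTwF4

open Cfsg Cfsg.Lie Cfsg.Agent.H716.CopRow Cfsg.Agent.H967.CopMat Cfsg.Agent.H967.CopRow Cfsg.Agent.H967.CopSz
open Cfsg.Agent.ChevalleyStructure Cfsg.Agent.ChevalleyStructure.TwF4.Torus
  Cfsg.Agent.ChevalleyStructure.TwF4.TwGen Cfsg.Agent.ChevalleyStructure.TwF4.TorusFix
  Cfsg.Agent.ChevalleyStructure.TwF4.Tables
open Cfsg.Agent.ChevalleyStructure.TwF4.Rel hiding cm

variable {K : Type*} [Field K]

/-- check: the two root elements commute and are involutions -/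
theorem chk_sq : chkWord [(33, 0, 0), (24, 0, 0), (33, 0, 0), (24, 0, 0)] [] = true := by decide +kernel

theorem u_sq [CharP K 2] : (X 33 1 * X 24 1 : GL chevF4.Idx K) * (X 33 1 * X 24 1) = 1 := by
  have h := W_eq_of_chkWord _ _ chk_sq (1 : K) 1
  have e1 : W (wordK (1 : K) 1 [(33, 0, 0), (24, 0, 0), (33, 0, 0), (24, 0, 0)]) =
      (X 33 1 * X 24 1) * (X 33 1 * X 24 1) := by
    simp [wordK, W_cons, mul_assoc]
  rw [e1] at h
  rw [h]
  simp [wordK]

theorem u_ne [CharP K 2] (a : Kˣ) (ha : a ≠ 1) : (X 33 1 * X 24 1 : GL chevF4.Idx K) ≠ 1 := by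
  intro h
  have h1 : (X 33 1 : GL chevF4.Idx K) = X 24 1 := by
    rw [mul_eq_one_iff_eq_inv, X_inv] at h
    exact h
  have h2 := T_conj_X (![1, 1, a⁻¹, 1] : Fin 4 → Kˣ) (r := 33) (by norm_num) (1 : K)
  have h3 := T_conj_X (![1, 1, a⁻¹, 1] : Fin 4 → Kˣ) (r := 24) (by norm_num) (1 : K)
  rw [h1, h3, chi33, chi24] at h2
  simp only [mul_one] at h2
  have h4 : (X 24 (a : K) : GL chevF4.Idx K) = X 24 1 := by
    rw [← h1]
    simpa using h2
  have h5 := TwF4.OrderCls.X_inj ⟨le_rfl, by norm_num⟩ h4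
  exact ha (Units.ext h5)

/-- the action of an automorphism of the field on a torus element -/
theorem map_T (σ : K ≃+* K) (c : Fin 4 → Kˣ) :
    Matrix.GeneralLinearGroup.map (σ : K →+* K) (T c) = T (fun i => Units.map (σ : K →* K) (c i)) := by
  apply Units.ext
  ext i j
  rw [map_apply, coe_T, coe_T]
  by_cases hij : i = j
  · subst hij
    rw [Matrix.diagonal_apply_eq, Matrix.diagonal_apply_eq]
    rcases i with i | s
    · rw [chiIdx_inl, chiIdx_inl]; simp
    · rw [chiIdx_inr, chiIdx_inr, chi_def, chi_def]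
      simp
  · rw [Matrix.diagonal_apply_ne _ hij, Matrix.diagonal_apply_ne _ hij, map_zero]

/-- the elements `e` and `u` -/
theorem exists_eu [Fintype K] {m : ℕ} (hm : 1 ≤ m) (hK : Fintype.card K = 2 ^ (2 * m + 1)) (σ : K ≃+* K)
    (hσ : σ ≠ 1) : ∃ e u : ↥(twistedF4 K (2 ^ m)), Commute e u ∧ 2 ∣ orderOf u ∧
      (orderOf e).Coprime (orderOf u) ∧ fieldAut (stab_f4 (K := K) (2 ^ m)) σ e ∈ Subgroup.zpowers e ∧
      fieldAut (stab_f4 (K := K) (2 ^ m)) σ e ≠ e := by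
  classical
  have : CharP K 2 := F4Fixed.charP_two hK
  obtain ⟨g, hg⟩ := IsCyclic.exists_generator (α := Kˣ)
  have hg1 : g ≠ 1 := by
    rintro rfl
    apply hσ
    ext x
    by_cases hx : x = 0
    · rw [hx, map_zero]; rfl
    · obtain ⟨k, hk⟩ := hg (Units.mk0 x hx)
      have : x = 1 := by
        have := congrArg Units.val hk
        simpa using this.symm
      rw [this, map_one]; rfl
  -- the torus element
  have hemem : T (tc (2 ^ m) (g ^ 2) g) ∈ twistedF4 K (2 ^ m) := (T_mem_iff hK _).2 ⟨_, _, rfl⟩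
  have humem : (X 33 1 * X 24 1 : GL chevF4.Idx K) ∈ twistedF4 K (2 ^ m) := by
    have := pair_mem (K := K) (2 ^ m) 1
    rwa [one_pow] at this
  have hpow : ∀ k : ℤ, T (tc (2 ^ m) (g ^ 2) g) ^ k = T (tc (2 ^ m) ((g ^ k) ^ 2) (g ^ k)) := by
    intro k
    rw [← map_zpow]
    congr 1
    funext i
    fin_cases i
    · show (g ^ 2 ^ m) ^ k = (g ^ k) ^ 2 ^ m
      rw [← zpow_natCast, ← zpow_natCast, ← zpow_mul, ← zpow_mul, mul_comm]
    · show ((g ^ 2) ^ 2 ^ m) ^ k = ((g ^ k) ^ 2) ^ 2 ^ m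
      rw [← pow_mul, ← pow_mul, ← zpow_natCast, ← zpow_natCast, ← zpow_mul, ← zpow_mul, mul_comm]
    · show (g ^ 2) ^ k = (g ^ k) ^ 2
      rw [← zpow_natCast, ← zpow_natCast, ← zpow_mul, ← zpow_mul, mul_comm]
    · rfl
  have hsig : Matrix.GeneralLinearGroup.map (σ : K →+* K) (T (tc (2 ^ m) (g ^ 2) g)) =
      T (tc (2 ^ m) ((Units.map (σ : K →* K) g) ^ 2) (Units.map (σ : K →* K) g)) := by
    rw [map_T]
    congr 1
    funext i
    fin_cases i
    · show Units.map (σ : K →* K) (g ^ 2 ^ m) = _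
      rw [map_pow]; rfl
    · show Units.map (σ : K →* K) ((g ^ 2) ^ 2 ^ m) = _
      rw [map_pow, map_pow]; rfl
    · show Units.map (σ : K →* K) (g ^ 2) = _
      rw [map_pow]; rfl
    · rfl
  have h24 : chi (tc (2 ^ m) (g ^ 2) g) 24 = 1 := by rw [chi_tc_24, inv_mul_cancel]
  have h33 : chi (tc (2 ^ m) (g ^ 2) g) 33 = 1 := by rw [chi_tc_33, h24, one_pow]
  have hu2 : orderOf (⟨_, humem⟩ : ↥(twistedF4 K (2 ^ m))) = 2 := by
    have : Fact (Nat.Prime 2) := ⟨Nat.prime_two⟩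
    refine orderOf_eq_prime ?_ ?_
    · rw [pow_two]
      exact Subtype.ext u_sq
    · intro h
      exact u_ne g hg1 (congrArg Subtype.val h)
  refine ⟨⟨_, hemem⟩, ⟨_, humem⟩, ?_, ?_, ?_, ?_, ?_⟩
  · apply Subtype.ext
    show T (tc (2 ^ m) (g ^ 2) g) * (X 33 1 * X 24 1) = (X 33 1 * X 24 1) * T (tc (2 ^ m) (g ^ 2) g)
    have h1 := T_conj_X (tc (2 ^ m) (g ^ 2) g) (r := 33) (by norm_num) (1 : K)
    have h2 := T_conj_X (tc (2 ^ m) (g ^ 2) g) (r := 24) (by norm_num) (1 : K)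
    rw [h33] at h1
    rw [h24] at h2
    simp only [Units.val_one, mul_one] at h1 h2
    rw [mul_inv_eq_iff_eq_mul] at h1 h2
    rw [← mul_assoc, h1, mul_assoc, h2, mul_assoc]
  · rw [hu2]
  · rw [hu2]
    have h1 : (⟨_, hemem⟩ : ↥(twistedF4 K (2 ^ m))) ^ (Fintype.card K - 1) = 1 := by
      apply Subtype.ext
      show T (tc (2 ^ m) (g ^ 2) g) ^ (Fintype.card K - 1) = 1
      have h2 := hpow ((Fintype.card K - 1 : ℕ) : ℤ)
      have h3 : g ^ (Fintype.card K - 1) = 1 := by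
        rw [← Fintype.card_units]
        exact pow_card_eq_one
      rw [zpow_natCast, zpow_natCast, h3] at h2
      rw [h2]
      have h4 : tc (2 ^ m) ((1 : Kˣ) ^ 2) 1 = 1 := by
        funext i
        fin_cases i <;> simp [tc]
      rw [h4, map_one]
    have h2 : (orderOf (⟨_, hemem⟩ : ↥(twistedF4 K (2 ^ m)))) ∣ Fintype.card K - 1 :=
      orderOf_dvd_of_pow_eq_one h1
    refine Nat.Coprime.coprime_dvd_left h2 ?_
    rw [hK, Nat.coprime_comm, Nat.prime_two.coprime_iff_not_dvd]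
    have h3 : 2 ∣ 2 ^ (2 * m + 1) := dvd_pow_self 2 (by omega)
    have h4 : 0 < 2 ^ (2 * m + 1) := by positivity
    omega
  · obtain ⟨k, hk⟩ := hg (Units.map (σ : K →* K) g)
    refine ⟨k, Subtype.ext ?_⟩
    show T (tc (2 ^ m) (g ^ 2) g) ^ k = _
    rw [coe_fieldAut, hsig, hpow]
    have hk' : g ^ k = Units.map (σ : K →* K) g := hk
    rw [hk']
  · intro h
    apply hσ
    have h1 := congrArg Subtype.val h
    rw [coe_fieldAut] at h1
    have h2 : T (tc (2 ^ m) ((Units.map (σ : K →* K) g) ^ 2) (Units.map (σ : K →* K) g)) =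
        T (tc (2 ^ m) (g ^ 2) g) := hsig.symm.trans h1
    have h3 := congrFun (T_injective h2) 3
    have h4 : σ (g : K) = g := congrArg Units.val h3
    ext x
    by_cases hx : x = 0
    · rw [hx, map_zero]; rfl
    · obtain ⟨k, hk⟩ := hg (Units.mk0 x hx)
      have h5 : x = (g : K) ^ k := by
        have := congrArg Units.val hk
        simpa using this.symm
      rw [h5, map_zpow₀, h4]; rfl

/-- **The row of `²F₄(q)`.** -/
theorem tRow_tf4 {K : Type*} [Group K] [Finite K] [IsSimpleGroup K] (h : Cfsg.Lie.Iso2F4 K) :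
    Cfsg.Agent.H716.CopRow.TRow 2 K := by
  obtain ⟨F, _, _, m, hm, hF, ⟨e⟩⟩ := h
  intro p hp hpK α hα
  obtain ⟨e', σ, h1, h2⟩ := (row_tf4 hm hF).exists_equiv_one e α
    (by rw [hα]; exact (hp.coprime_iff_not_dvd).2 hpK)
  have hσ : σ ≠ 1 := by
    rintro rfl
    rw [orderOf_one, hα] at h2
    exact hp.one_lt.ne h2
  obtain ⟨x, u, hc, hu, hcop, hz, hne⟩ := exists_eu hm hF σ hσ
  have key : ∀ y, α (e'.symm y) = e'.symm (fieldAut (row_tf4 hm hF).stab σ y) := by
    intro y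
    apply e'.injective
    rw [h1, e'.apply_symm_apply, e'.apply_symm_apply]
  refine ⟨e'.symm x, e'.symm u, hc.map e'.symm, by rwa [MulEquiv.orderOf_eq],
    by rwa [MulEquiv.orderOf_eq, MulEquiv.orderOf_eq], ?_, ?_⟩
  · rw [key]
    obtain ⟨k, hk⟩ := hz
    refine ⟨k, ?_⟩
    show e'.symm x ^ k = _
    rw [← map_zpow]
    exact congrArg e'.symm hk
  · rw [key]
    exact fun h => hne (e'.symm.injective h)

end Cfsg.Agent.H60.TRowTwF4
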