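import Cfsg.Agent.H386.HalfTwo.Count
import Cfsg.Agent.H57.TTL28
import Cfsg.Agent.H57.TTOut
import Cfsg.Agent.S2602

/-!
# `(2+1/2)`-transitive groups (S3576): the rows `PSL₂(8)` (degree 28) and `PSL₂(11)` (degree 11)
(helper60, task of helper386)
-/

set_option autoImplicit false

namespace Cfsg.Agent.H60.HalfPsl

open MulAction Cfsg.Agent.H384.TwoTrans Cfsg.Agent.H386.HalfTwo Cfsg.Agent.H57 Cfsg.Agent.H488.ThreeHalf

universe u v

variable {G : Type u} {Ω : Type v} [Group G] [MulAction G Ω] {T : Subgroup G} {m : ℕ}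

theorem card_out {F : Type} [Field F] [Fintype F] {p f : ℕ} [Fact p.Prime] (hf : 1 ≤ f)
    (hF : Fintype.card F = p ^ f) (h4 : 4 ≤ p ^ f) :
    Nat.card (Cfsg.Out (Matrix.ProjectiveSpecialLinearGroup (Fin 2) F)) = Nat.gcd 2 (p ^ f - 1) * f := by
  obtain ⟨φ, hφ, -, hker⟩ := Cfsg.Agent.S2602.result (F := F) (p := p) (f := f) hf hF h4
  have h1 := Subgroup.card_mul_index φ.ker
  rw [Subgroup.index_ker, MonoidHom.range_eq_top.2 hφ, Subgroup.card_top, hker,
    Nat.card_congr Multiplicative.toAdd, Nat.card_zmod] at h1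
  exact h1.symm

/-- **The row `PSL₂(8)`, degree 28** -/
theorem psl2_8 (A : AS G Ω T) (H : Half G Ω m) {F : Type} [Field F] [Fintype F] (hF : Fintype.card F = 8)
    (e : Nonempty (T ≃* Matrix.ProjectiveSpecialLinearGroup (Fin 2) F)) (hn : Nat.card Ω = 28) :
    m = 1 ∨ IsMultiplyPretransitive G Ω 3 := by
  left
  obtain ⟨e⟩ := e
  have := A.finG
  have := A.finΩ
  have := A.faithful
  have := A.finT
  obtain ⟨hT, -, hcent⟩ := TTL28.psl_facts hF e
  have h2 : Fact (Nat.Prime 2) := ⟨Nat.prime_two⟩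
  have h4 := TTOut.AS.card_dvd A e
  rw [card_out (p := 2) (f := 3) (by norm_num) (by rw [hF]; norm_num) (by norm_num), hT] at h4
  norm_num at h4
  have hTd : Nat.card T ∣ Nat.card G := Subgroup.card_subgroup_dvd_card T
  rw [hT] at hTd
  -- an involution `u` and `P = C_T(u)`
  obtain ⟨u, hu⟩ := exists_prime_orderOf_dvd_card' (G := T) 2 (by rw [hT]; norm_num)
  obtain ⟨hP, hexp⟩ := hcent u hu
  set P := Subgroup.centralizer ({u} : Set T) with hPdef
  have hPe : ∀ x : P, x * x = 1 := by
    intro x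
    apply Subtype.ext
    exact hexp x (by
      have := Subgroup.mem_centralizer_iff.1 x.2 u rfl
      exact this)
  have hcomm : ∀ x y : P, x * y = y * x := by
    intro x y
    have h1 : (x * y)⁻¹ = x * y := inv_eq_of_mul_eq_one_right (hPe _)
    rw [mul_inv_rev, inv_eq_of_mul_eq_one_right (hPe x), inv_eq_of_mul_eq_one_right (hPe y)] at h1
    exact h1.symm
  -- a point with a nontrivial stabiliser in `P`
  have hex : ∃ x : Ω, Nat.card (orbit P x) ≠ 8 := by
    by_contra hcon
    push Not at hcon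
    have h5 := dvd_ncard_of_orbits (G := T) P (Set.univ : Set Ω) (fun _ _ _ _ => Set.mem_univ _) (l := 8)
      (fun x _ => hcon x)
    rw [Set.ncard_univ, hn] at h5
    omega
  obtain ⟨x, hx⟩ := hex
  have horb : Nat.card (orbit P x) * Nat.card (stabilizer P x) = 8 := by
    rw [← hP, ← Subgroup.index_mul_card (stabilizer P x), MulAction.index_stabilizer, Nat.card_coe_set_eq]
  have hst : Nat.card (stabilizer P x) ∣ 18 := by
    have h5 := A.card_mul x
    rw [hn, hT] at h5
    have h6 : Nat.card (stabilizer T x) = 18 := by omega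
    rw [← h6]
    let ψ : stabilizer P x →* stabilizer T x :=
      { toFun := fun y => ⟨y.1.1, y.2⟩
        map_one' := rfl
        map_mul' := fun _ _ => rfl }
    refine Subgroup.card_dvd_of_injective ψ ?_
    intro a b hab
    apply Subtype.ext
    apply Subtype.ext
    exact congrArg (fun y : stabilizer T x => (y : T)) hab
  have hst2 : Nat.card (stabilizer P x) ∣ 2 := by
    have h5 : Nat.card (stabilizer P x) ∣ Nat.gcd 8 18 := Nat.dvd_gcd (Dvd.intro_left _ horb) hst
    exact h5
  have hst' : Nat.card (stabilizer P x) = 2 := by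
    rcases (Nat.dvd_prime Nat.prime_two).1 hst2 with h5 | h5
    · rw [h5, mul_one] at horb
      exact absurd horb hx
    · exact h5
  have horb4 : Nat.card (orbit P x) = 4 := by
    rw [hst'] at horb
    omega
  obtain ⟨s, hs⟩ : ∃ s : stabilizer P x, s ≠ 1 := by
    have : Nontrivial (stabilizer P x) := Finite.one_lt_card_iff_nontrivial.1 (by omega)
    exact exists_ne 1
  have hfix : ∀ y ∈ orbit P x, ((s.1.1 : T) : G) • y = y := by
    rintro _ ⟨g, rfl⟩
    have h5 : s.1 • (g • x) = g • x := by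
      rw [← mul_smul, hcomm, mul_smul, s.2]
    exact h5
  have h3 : 2 < (orbit P x).ncard := by
    rw [← Nat.card_coe_set_eq, horb4]; norm_num
  obtain ⟨a, ha, b, hb, c, hc, hab, hac, hbc⟩ := (Set.two_lt_ncard (Set.toFinite _)).1 h3
  have hGG : Nat.card (GG G a b) = 2 := by
    have h5 := card_eq A.two hab
    rw [hn] at h5
    have hGd : Nat.card G = 1512 := by
      obtain ⟨k, hk⟩ := hTd
      have h6 := Nat.le_of_dvd (by norm_num) h4
      have h7 : 0 < Nat.card G := Nat.card_pos
      have h8 : 28 * (28 - 1) ∣ Nat.card G := by rw [h5]; exact Dvd.intro _ rfl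
      omega
    omega
  have hsG : ((s.1.1 : T) : G) ∈ GG G a b := mem_GG.2 ⟨hfix a ha, hfix b hb⟩
  have hs1 : ((s.1.1 : T) : G) ≠ 1 := by
    intro h
    apply hs
    apply Subtype.ext
    apply Subtype.ext
    apply Subtype.ext
    exact h
  have hall : ∀ g ∈ GG G a b, g • c = c := by
    have h5 : Subgroup.zpowers ((s.1.1 : T) : G) = GG G a b := by
      apply Subgroup.eq_of_le_of_card_ge
      · rw [Subgroup.zpowers_le]; exact hsG
      · rw [hGG]
        by_contra hlt
        have h6 : Nat.card (Subgroup.zpowers ((s.1.1 : T) : G)) = 1 := by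
          have : 0 < Nat.card (Subgroup.zpowers ((s.1.1 : T) : G)) := Nat.card_pos
          omega
        rw [Nat.card_zpowers, orderOf_eq_one_iff] at h6
        exact hs1 h6
    intro g hg
    rw [← h5] at hg
    have h6 : Subgroup.zpowers ((s.1.1 : T) : G) ≤ stabilizer G c := by
      rw [Subgroup.zpowers_le]
      exact hfix c hc
    exact h6 hg
  rw [← H.orb a b c hab hac.symm hbc.symm]
  have h7 : orbit (GG G a b) c = {c} := by
    ext y
    constructor
    · rintro ⟨g, rfl⟩
      exact hall g g.2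
    · rintro rfl
      exact mem_orbit_self _
  rw [h7]
  simp

/-- the elements of `T` are even permutations -/
theorem sign_eq (A : AS G Ω T) [Fintype Ω] [DecidableEq Ω] (t : T) :
    Equiv.Perm.sign (MulAction.toPermHom T Ω t) = 1 := by
  have hs := A.simple
  rcases hs.eq_bot_or_eq_top_of_normal (Equiv.Perm.sign.comp (MulAction.toPermHom T Ω)).ker inferInstance with h | h
  · exfalso
    apply A.nonab
    refine ⟨⟨fun x y => ?_⟩⟩
    apply (MonoidHom.ker_eq_bot_iff _).1 h
    rw [map_mul, map_mul, mul_comm]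
  · have h1 : t ∈ (Equiv.Perm.sign.comp (MulAction.toPermHom T Ω)).ker := h ▸ Subgroup.mem_top t
    exact h1

/-- an even involution on 11 points has 7 or 3 fixed points -/
theorem fix_even (A : AS G Ω T) (hn : Nat.card Ω = 11) (t : T) (ht : orderOf t = 2) :
    {x : Ω | (t : G) • x = x}.ncard = 7 ∨ {x : Ω | (t : G) • x = x}.ncard = 3 := by
  classical
  have := A.finΩ
  have := A.faithfulT
  have : Fintype Ω := Fintype.ofFinite Ω
  have hs := sign_eq A t
  set σ := MulAction.toPermHom T Ω t with hσ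
  have hσ2 : orderOf σ = 2 := by
    rw [hσ, orderOf_injective _ MulAction.toPerm_injective, ht]
  obtain ⟨k, hk⟩ := Equiv.Perm.cycleType_prime_order (σ := σ) (by rw [hσ2]; exact Nat.prime_two)
  rw [hσ2] at hk
  have h1 := Equiv.Perm.card_fixedPoints σ
  have h2 := Equiv.Perm.sum_cycleType_le σ
  rw [Equiv.Perm.sign_of_cycleType] at hs
  rw [hk, Multiset.sum_replicate, smul_eq_mul] at h1 h2 hs
  rw [Multiset.card_replicate] at hs
  rw [← Nat.card_eq_fintype_card, hn] at h2
  rw [← Nat.card_eq_fintype_card (α := Ω), hn, ← Nat.card_eq_fintype_card] at h1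
  have h3 : Nat.card (Function.fixedPoints σ) = {x : Ω | (t : G) • x = x}.ncard := by
    rw [← Nat.card_coe_set_eq]
    rfl
  rw [h3] at h1
  have h4 : Even ((k + 1) * 2 + (k + 1)) := by
    by_contra hodd
    rw [Nat.not_even_iff_odd] at hodd
    rw [Odd.neg_one_pow hodd] at hs
    exact absurd hs (by decide)
  rw [Nat.even_iff] at h4
  omega

/-- **The row `PSL₂(11)`, degree 11** -/
theorem psl2_11 (A : AS G Ω T) (H : Half G Ω m) {F : Type} [Field F] [Fintype F] (hF : Fintype.card F = 11)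
    (e : Nonempty (T ≃* Matrix.ProjectiveSpecialLinearGroup (Fin 2) F)) (hn : Nat.card Ω = 11) :
    m = 1 ∨ IsMultiplyPretransitive G Ω 3 := by
  classical
  left
  obtain ⟨e⟩ := e
  have := A.finG
  have := A.finΩ
  have := A.faithful
  have := A.finT
  have := A.nontrivialΩ
  have hT : Nat.card T = 660 := by
    have h1 := Cfsg.Agent.ClassicalGeometry.PSL2Basic.card_PSL2_odd (F := F) (by rw [hF]; decide)
    rw [hF, ← Nat.card_congr e.toEquiv] at h1
    omega
  have h11 : Fact (Nat.Prime 11) := ⟨by norm_num⟩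
  have h2 : Fact (Nat.Prime 2) := ⟨Nat.prime_two⟩
  have h4 := TTOut.AS.card_dvd A e
  rw [card_out (p := 11) (f := 1) (by norm_num) (by rw [hF]; norm_num) (by norm_num), hT] at h4
  norm_num at h4
  have hGG : ∀ a b : Ω, a ≠ b → Nat.card (GG G a b) ∣ 12 := by
    intro a b hab
    have h5 := card_eq A.two hab
    rw [hn] at h5
    rw [h5, show 1320 = 11 * (11 - 1) * 12 by norm_num] at h4
    exact Nat.dvd_of_mul_dvd_mul_left (by norm_num) h4
  have hm9 : m ∣ 9 := by
    have := H.dvd
    rwa [hn] at this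
  obtain ⟨a, b, hab⟩ := exists_pair_ne Ω
  have hm12 : m ∣ 12 := (H.dvd_GG (by omega) hab).trans (hGG a b hab)
  have hm3 : m ∣ 3 := by
    have : m ∣ Nat.gcd 9 12 := Nat.dvd_gcd hm9 hm12
    exact this
  rcases (Nat.dvd_prime Nat.prime_three).1 hm3 with h | h
  · exact h
  exfalso
  -- the involutions of `T` have 7 fixed points
  have hseven : ∀ t : T, orderOf t = 2 → {x : Ω | (t : G) • x = x}.ncard = 7 := by
    intro t ht
    rcases fix_even A hn t ht with h5 | h5
    · exact h5
    exfalso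
    obtain ⟨x, y, z, hxy, hxz, hyz, hset⟩ := Set.ncard_eq_three.1 h5
    have hmem : ∀ w : Ω, (t : G) • w = w ↔ w = x ∨ w = y ∨ w = z := by
      intro w
      have : w ∈ {x : Ω | (t : G) • x = x} ↔ w ∈ ({x, y, z} : Set Ω) := by rw [hset]
      simpa using this
    have hx := (hmem x).2 (Or.inl rfl)
    have hy := (hmem y).2 (Or.inr (Or.inl rfl))
    -- a point `c` outside of `x`, `y` and the orbit of `z`
    have hoz := H.orb x y z hxy hxz.symm hyz.symm
    obtain ⟨c, hc⟩ : ∃ c : Ω, c ∉ ({x, y} ∪ orbit (GG G x y) z : Set Ω) := by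
      by_contra hcon
      push Not at hcon
      have h6 : ({x, y} ∪ orbit (GG G x y) z : Set Ω) = Set.univ := Set.eq_univ_of_forall hcon
      have h7 := Set.ncard_union_le ({x, y} : Set Ω) (orbit (GG G x y) z)
      rw [h6, Set.ncard_univ, hn, Set.ncard_pair hxy, ← Nat.card_coe_set_eq, hoz] at h7
      omega
    have hcx : c ≠ x := fun h => hc (Or.inl (Or.inl h))
    have hcy : c ≠ y := fun h => hc (Or.inl (Or.inr h))
    have hP : IsPGroup 2 (Subgroup.zpowers (t : G)) := by
      apply IsPGroup.of_card (n := 1)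
      rw [Nat.card_zpowers, Subgroup.orderOf_coe, ht, pow_one]
    obtain ⟨d, hd, hdf⟩ := H.exists_fix hxy hcx hcy Nat.prime_two (by rw [h]; norm_num) hP
      (by rw [Subgroup.zpowers_le]; exact mem_GG.2 ⟨hx, hy⟩)
    have hdt := hdf t (Subgroup.mem_zpowers _)
    obtain ⟨g, hg⟩ := hd
    have hg' : (g : G) • c = d := hg
    have hgx := mem_GG.1 g.2
    rcases (hmem d).1 hdt with h6 | h6 | h6
    · apply hcx
      exact smul_left_cancel (g : G) ((hg'.trans h6).trans hgx.1.symm)
    · apply hcy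
      exact smul_left_cancel (g : G) ((hg'.trans h6).trans hgx.2.symm)
    · apply hc
      right
      refine ⟨g⁻¹, ?_⟩
      show ((g⁻¹ : GG G x y) : G) • z = c
      rw [Subgroup.coe_inv, inv_smul_eq_iff, ← h6, hg']
  -- the count
  let C : Set G := {g | g ∈ T ∧ orderOf g = 2}
  have hC1 : ∀ t ∈ C, ∀ g : G, g * t * g⁻¹ ∈ C := by
    rintro t ⟨h5, h6⟩ g
    refine ⟨A.normal.conj_mem _ h5 g, ?_⟩
    rw [← h6, ← MulAut.conj_apply]
    exact MulEquiv.orderOf_eq (MulAut.conj g) t
  have hC2 : ∀ t ∈ C, {x : Ω | t • x = x}.ncard = 7 := by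
    rintro t ⟨h5, h6⟩
    exact hseven ⟨t, h5⟩ (by rw [Subgroup.orderOf_mk]; exact h6)
  have hcount := fix_count (X := G) A.two' C hC1 hC2 hab
  rw [hn] at hcount
  have hi : {t : G | t ∈ C ∧ t • a = a ∧ t • b = b}.ncard ≤ 12 := by
    have h5 : {t : G | t ∈ C ∧ t • a = a ∧ t • b = b} ⊆ (GG G a b : Set G) := by
      rintro t ⟨-, h6, h7⟩
      exact mem_GG.2 ⟨h6, h7⟩
    have h6 := Set.ncard_le_ncard h5 (Set.toFinite _)
    have h7 := Nat.le_of_dvd (by norm_num) (hGG a b hab)
    have h8 : (GG G a b : Set G).ncard = Nat.card (GG G a b) := rfl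
    omega
  have hCpos : 0 < C.ncard := by
    obtain ⟨u, hu⟩ := exists_prime_orderOf_dvd_card' (G := T) 2 (by rw [hT]; norm_num)
    rw [Set.ncard_pos (Set.toFinite _)]
    exact ⟨u, u.2, by rw [Subgroup.orderOf_coe, hu]⟩
  omega

end Cfsg.Agent.H60.HalfPsl
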