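import Cfsg.Agent.H60.SixBase
import Cfsg.Agent.H374.SpFour
import Cfsg.Agent.S2475

/-!
# BLOCK 6, `q = 5 ^ m`: the simple section is not `PSL₂(v)`, `PSp₄(v)`, `5 ∤ v` (helper60, task of helper376)
-/

set_option autoImplicit false

namespace Cfsg.Agent.H60.Six5

open Cfsg.Agent.H376.Six Cfsg.Agent.H374.Quad

universe u

variable {q : ℕ}

theorem prime_eq_of_dvd_ap (h : Pow5 q) {u : ℕ} (hu : u.Prime) (h1 : ap q ∣ u) : ap q = u := by
  rcases (Nat.dvd_prime hu).1 h1 with h2 | h2
  · have := ap_ge h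
    omega
  · exact h2

theorem prime_eq_of_dvd_am (h : Pow5 q) {u : ℕ} (hu : u.Prime) (h1 : am q ∣ u) : am q = u := by
  rcases (Nat.dvd_prime hu).1 h1 with h2 | h2
  · have := am_ge h
    omega
  · exact h2

/-- `ap q ≠ am q` -/
theorem ap_ne_am (h : Pow5 q) : ap q ≠ am q := by
  intro h1
  obtain ⟨r, hr, h2⟩ := exists_ap h
  exact not_dvd_B_of h hr h2 ((h1 ▸ h2).trans (am_dvd_half (by have := h.le; omega) h.two))

/-- `c = ap` : `am` does not divide `(c ± 1) / 2` -/
theorem num_ap (h : Pow5 q) {c T : ℕ} (hc : c = ap q) (h1 : c = 2 * T + 1 ∨ 2 * T = c + 1) (h2 : am q ∣ T) : False := by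
  obtain ⟨i, hi⟩ := h2
  have h5 := h.le
  have ha := ap_ge h
  have hi0 : 0 < i := by
    rcases Nat.eq_zero_or_pos i with h0 | h0
    · rw [h0, mul_zero] at hi
      omega
    · exact h0
  have hqq : q * q = q ^ 2 := by ring
  have h5q : 5 * q ≤ q ^ 2 := by nlinarith
  rcases ap_am_cases h with ⟨h3, h4⟩ | ⟨h25, h3, h4⟩
  · -- `ap - 1 = 3 am + (2 q - 1)`, `ap + 1 = 3 am + (2 q + 1)`
    rcases h1 with h1 | h1
    · have h6 : am q ∣ 2 * q - 1 := by
        have h7 : am q ∣ 3 * am q + (2 * q - 1) := by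
          have h8 : 3 * am q + (2 * q - 1) = 2 * T := by omega
          rw [h8, hi]
          exact Dvd.intro (2 * i) (by ring)
        exact (Nat.dvd_add_right (Dvd.intro_left _ rfl)).1 h7
      have h7 := Nat.le_of_dvd (by omega) h6
      have h8 : q < 8 := by
        by_contra hlt
        have : 8 * q ≤ q ^ 2 := by nlinarith
        omega
      rcases h.cases with rfl | h9
      · rw [show am 5 = 7 by decide] at h6
        omega
      · omega
    · have h6 : am q ∣ 2 * q + 1 := by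
        have h7 : am q ∣ 3 * am q + (2 * q + 1) := by
          have h8 : 3 * am q + (2 * q + 1) = 2 * T := by omega
          rw [h8, hi]
          exact Dvd.intro (2 * i) (by ring)
        exact (Nat.dvd_add_right (Dvd.intro_left _ rfl)).1 h7
      have h7 := Nat.le_of_dvd (by omega) h6
      have h8 : q < 9 := by
        by_contra hlt
        have : 9 * q ≤ q ^ 2 := by nlinarith
        omega
      rcases h.cases with rfl | h9
      · rw [show am 5 = 7 by decide] at h6
        omega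
      · omega
  · have h6 : am q ≤ T := by rw [hi]; exact Nat.le_mul_of_pos_right _ hi0
    have h7 : 25 * q ≤ q ^ 2 := by nlinarith
    omega

/-- `c = am` : `ap` does not divide `(c ± 1) / 2` -/
theorem num_am (h : Pow5 q) {c T : ℕ} (hc : c = am q) (h1 : c = 2 * T + 1 ∨ 2 * T = c + 1) (h2 : ap q ∣ T) : False := by
  obtain ⟨i, hi⟩ := h2
  have h5 := h.le
  have ha := am_ge h
  have hi0 : 0 < i := by
    rcases Nat.eq_zero_or_pos i with h0 | h0
    · rw [h0, mul_zero] at hi
      omega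
    · exact h0
  have hqq : q * q = q ^ 2 := by ring
  have h5q : 5 * q ≤ q ^ 2 := by nlinarith
  rcases ap_am_cases h with ⟨h3, h4⟩ | ⟨h25, h3, h4⟩
  · have h6 : ap q ≤ T := by rw [hi]; exact Nat.le_mul_of_pos_right _ hi0
    omega
  · have h25q : 25 * q ≤ q ^ 2 := by nlinarith
    rcases h1 with h1 | h1
    · -- `am - 1 = 3 ap - (2 q + 1)`
      have h6 : ap q ∣ 2 * q + 1 := by
        have h7 : ap q ∣ 2 * T + (2 * q + 1) := by
          have h8 : 2 * T + (2 * q + 1) = 3 * ap q := by omega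
          rw [h8]
          exact Dvd.intro_left _ rfl
        exact (Nat.dvd_add_right (by rw [hi]; exact Dvd.intro (2 * i) (by ring))).1 h7
      have h7 := Nat.le_of_dvd (by omega) h6
      omega
    · have h6 : ap q ∣ 2 * q - 1 := by
        have h7 : ap q ∣ 2 * T + (2 * q - 1) := by
          have h8 : 2 * T + (2 * q - 1) = 3 * ap q := by omega
          rw [h8]
          exact Dvd.intro_left _ rfl
        exact (Nat.dvd_add_right (by rw [hi]; exact Dvd.intro (2 * i) (by ring))).1 h7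
      have h7 := Nat.le_of_dvd (by omega) h6
      omega

/-- a power of `ap`, exponent at least two -/
theorem num_ap_sq (h : Pow5 q) {c T : ℕ} (hc : ap q ^ 2 ≤ c) (h1 : c ≤ 2 * T + 1)
    (h2 : T ∣ (q ^ 3 + 1) / 2) : False := by
  have hA := h.A
  have hB := h.B
  have h3 := Nat.le_of_dvd (by omega) h2
  have h4 : c ≤ q ^ 3 + 2 := by omega
  rcases h.cases with rfl | h5
  · rw [show ap 5 = 31 by decide] at hc
    omega
  · have h6 := three_ap (q := q) (by omega)
    have h7 : (q ^ 2 + q + 1) ^ 2 ≤ 9 * (q ^ 3 + 2) := by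
      calc (q ^ 2 + q + 1) ^ 2 ≤ (3 * ap q) ^ 2 := Nat.pow_le_pow_left h6 2
        _ = 9 * ap q ^ 2 := by ring
        _ ≤ 9 * (q ^ 3 + 2) := Nat.mul_le_mul_left _ (hc.trans h4)
    nlinarith [pow_pos (show 0 < q by omega) 3, Nat.mul_le_mul_right (q ^ 3) h5]

/-- a power of `am`, exponent at least two -/
theorem num_am_sq (h : Pow5 q) {c T : ℕ} (h11 : am q ^ 2 ∣ c) (hc0 : 0 < c) (h1 : c = 2 * T + 1 ∨ 2 * T = c + 1)
    (hT2 : ap q ∣ T) (hT3 : T ∣ (q ^ 3 - 1) / 2) : False := by
  have h12 := Nat.le_of_dvd hc0 h11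
  have h13 := Nat.le_of_dvd h.A_pos hT3
  have hA := h.A
  rcases h.cases with rfl | h14
  · rw [show am 5 = 7 by decide] at h11
    rw [show ap 5 = 31 by decide] at hT2
    norm_num at h13 h11
    omega
  · have h15 := three_am (q := q) (by omega)
    have h16 : (q ^ 2 - q + 1) ^ 2 ≤ 9 * q ^ 3 := by
      have h17 : am q ^ 2 ≤ q ^ 3 := h12.trans (by omega)
      calc (q ^ 2 - q + 1) ^ 2 ≤ (3 * am q) ^ 2 := Nat.pow_le_pow_left h15 2
        _ = 9 * am q ^ 2 := by ring
        _ ≤ 9 * q ^ 3 := Nat.mul_le_mul_left _ h17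
    obtain ⟨w, hw⟩ : ∃ w, q = w + 25 := ⟨q - 25, by omega⟩
    have h17 : q ^ 2 - q + 1 = w ^ 2 + 49 * w + 601 := by
      rw [hw, show (w + 25) ^ 2 = (w ^ 2 + 49 * w + 600) + (w + 25) by ring, Nat.add_sub_cancel]
    rw [h17, hw] at h16
    ring_nf at h16
    nlinarith [pow_nonneg (Nat.zero_le w) 3, pow_nonneg (Nat.zero_le w) 4]

set_option maxHeartbeats 800000 in
/-- `PSL₂(v)` -/
theorem psl_two {F : Type*} [Field F] [Fintype F] (h5 : ¬ 5 ∣ Fintype.card F) (h4 : 4 ≤ Fintype.card F)
    (h : E5 q (Matrix.ProjectiveSpecialLinearGroup (Fin 2) F)) : False := by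
  have hP := pow5 h.pow
  have hq5 := hP.le
  have hA := hP.A
  have hB := hP.B
  obtain ⟨l, hc⟩ := CharP.exists F
  obtain ⟨k, hp, hcard⟩ := FiniteField.card F l
  have := Fact.mk hp
  have hspec := Cfsg.Agent.S2475.result (F := F) l h4
  have hk : 0 < (k : ℕ) := k.pos
  have hl5 : l ≠ 5 := by
    rintro rfl
    exact h5 (hcard ▸ dvd_pow_self 5 hk.ne')
  have hcardS : ∀ r : ℕ, r.Prime → r ∣ Nat.card (Matrix.ProjectiveSpecialLinearGroup (Fin 2) F) →
      ∃ x : Matrix.ProjectiveSpecialLinearGroup (Fin 2) F, orderOf x = r := by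
    intro r hr hd
    have := Fact.mk hr
    exact exists_prime_orderOf_dvd_card' r hd
  set c := Fintype.card F with hcdef
  have key : ∀ m : ℕ, (∃ x : Matrix.ProjectiveSpecialLinearGroup (Fin 2) F, orderOf x = m) ↔
      (m ∣ l ∨ m ∣ (c - 1) / Nat.gcd 2 (c - 1) ∨ m ∣ (c + 1) / Nat.gcd 2 (c - 1)) := by
    intro m
    have h6 : m ∈ Set.range (orderOf : Matrix.ProjectiveSpecialLinearGroup (Fin 2) F → ℕ) ↔
        (m ∣ l ∨ m ∣ (c - 1) / Nat.gcd 2 (c - 1) ∨ m ∣ (c + 1) / Nat.gcd 2 (c - 1)) := by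
      rw [hspec]; exact Iff.rfl
    exact h6
  -- the torus numbers
  obtain ⟨Tm, Tp, hTm, hTp, hT⟩ : ∃ Tm Tp, (c - 1) / Nat.gcd 2 (c - 1) = Tm ∧ (c + 1) / Nat.gcd 2 (c - 1) = Tp ∧
      ((c = 2 * Tm + 1 ∧ Tp = Tm + 1) ∨ (l = 2 ∧ c = Tm + 1 ∧ Tp = Tm + 2)) := by
    refine ⟨_, _, rfl, rfl, ?_⟩
    rcases Nat.even_or_odd c with he | ho
    · right
      rw [Cfsg.Agent.H374.Quad.gcd_of_even he (by omega), Nat.div_one, Nat.div_one]
      refine ⟨?_, by omega, by omega⟩
      rw [hcard] at he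
      have h6 : 2 ∣ l := Nat.prime_two.dvd_of_dvd_pow (even_iff_two_dvd.1 he)
      exact ((Nat.prime_dvd_prime_iff_eq Nat.prime_two hp).1 h6).symm
    · left
      rw [Cfsg.Agent.H374.Quad.gcd_of_odd ho]
      rw [Nat.odd_iff] at ho
      constructor <;> omega
  rw [hTm, hTp] at key
  have hTm1 : Ub q Tm := h.ub' ((key Tm).2 (Or.inr (Or.inl dvd_rfl)))
  have hTp1 : Ub q Tp := h.ub' ((key Tp).2 (Or.inr (Or.inr dvd_rfl)))
  rcases h.five with ⟨hap, ham, -⟩ | h25
  · have hap' := (key _).1 hap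
    have ham' := (key _).1 ham
    rcases hap' with h6 | h6
    · -- `ap` is the characteristic
      have h7 := prime_eq_of_dvd_ap hP hp h6
      have hodd := ap_odd (q := q) (by omega)
      have hl2 : l ≠ 2 := by
        have := ap_ge hP
        omega
      have hT' : c = 2 * Tm + 1 ∧ Tp = Tm + 1 := by
        rcases hT with h8 | h8
        · exact h8
        · exact absurd h8.1 hl2
      have h9 : ∃ T, (c = 2 * T + 1 ∨ 2 * T = c + 1) ∧ am q ∣ T ∧ Ub q T := by
        rcases ham' with h8 | h8 | h8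
        · exact absurd (h7.trans (prime_eq_of_dvd_am hP hp h8).symm) (ap_ne_am hP)
        · exact ⟨Tm, by omega, h8, hTm1⟩
        · exact ⟨Tp, by omega, h8, hTp1⟩
      obtain ⟨T, hT1, hT2, hT3⟩ := h9
      rcases Nat.lt_or_ge (k : ℕ) 2 with h10 | h10
      · have hk1 : (k : ℕ) = 1 := by omega
        exact num_ap hP (by rw [hcard, hk1, pow_one, h7]) hT1 hT2
      · refine num_ap_sq hP ?_ (show c ≤ 2 * T + 1 by omega) (dvd_B' hP hT2 hT3)
        rw [hcard, h7]
        exact Nat.pow_le_pow_right hp.pos h10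
    · rcases ham' with h7 | h7
      · -- `am` is the characteristic
        have h8 := prime_eq_of_dvd_am hP hp h7
        have hl2 : l ≠ 2 := by
          have := am_ge hP
          omega
        have hT' : c = 2 * Tm + 1 ∧ Tp = Tm + 1 := by
          rcases hT with h8 | h8
          · exact h8
          · exact absurd h8.1 hl2
        have h9 : ∃ T, (c = 2 * T + 1 ∨ 2 * T = c + 1) ∧ ap q ∣ T ∧ Ub q T := by
          rcases h6 with h8 | h8
          · exact ⟨Tm, by omega, h8, hTm1⟩
          · exact ⟨Tp, by omega, h8, hTp1⟩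
        obtain ⟨T, hT1, hT2, hT3⟩ := h9
        rcases Nat.lt_or_ge (k : ℕ) 2 with h10 | h10
        · have hk1 : (k : ℕ) = 1 := by omega
          exact num_am hP (by rw [hcard, hk1, pow_one, h8]) hT1 hT2
        · refine num_am_sq hP ?_ (by omega) hT1 hT2 (dvd_A' hP hT2 hT3)
          rw [hcard, h8]
          exact pow_dvd_pow _ h10
      · rcases h6 with h6 | h6 <;> rcases h7 with h7 | h7
        · exact not_both hP h6 h7 hTm1
        · have h8 := near hP (dvd_A' hP h6 hTm1) (dvd_B' hP h7 hTp1) h6 h7 (by omega) (by omega)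
          refine h5 ?_
          have h9 : c = q ^ 3 := by
            rcases hT with h9 | h9
            · omega
            · exfalso; omega
          rw [h9]
          exact hP.dvd.trans (dvd_pow_self q (by norm_num))
        · have h8 := near hP (dvd_A' hP h6 hTp1) (dvd_B' hP h7 hTm1) h6 h7 (by omega) (by omega)
          omega
        · exact not_both hP h6 h7 hTp1
  · have h25' := (key _).1 h25
    rcases h25' with h6 | h6 | h6
    · exact hl5 ((Nat.prime_dvd_prime_iff_eq (by norm_num) hp).1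
        ((by norm_num : (5 : ℕ) ∣ 25).trans h6)).symm
    · have h7 := eq_25 hP h6 hTm1
      rcases hT with h8 | h8
      · -- `c = 51`
        have h9 : c = 51 := by omega
        have h10 : 3 ∣ l ^ (k : ℕ) := by rw [← hcard, h9]; norm_num
        have h11 : 17 ∣ l ^ (k : ℕ) := by rw [← hcard, h9]; norm_num
        have h12 := (Nat.prime_dvd_prime_iff_eq Nat.prime_three hp).1 (Nat.prime_three.dvd_of_dvd_pow h10)
        have h13 := (Nat.prime_dvd_prime_iff_eq (by norm_num) hp).1
          ((by norm_num : Nat.Prime 17).dvd_of_dvd_pow h11)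
        omega
      · have h9 : c = 26 := by omega
        have h11 : 13 ∣ l ^ (k : ℕ) := by rw [← hcard, h9]; norm_num
        have h13 := (Nat.prime_dvd_prime_iff_eq (by norm_num) hp).1
          ((by norm_num : Nat.Prime 13).dvd_of_dvd_pow h11)
        omega
    · have h7 := eq_25 hP h6 hTp1
      rcases hT with h8 | h8
      · -- `c = 49`
        have h9 : c = 49 := by omega
        have h10 : 7 ∣ l ^ (k : ℕ) := by rw [← hcard, h9]; norm_num
        have h12 := (Nat.prime_dvd_prime_iff_eq (by norm_num) hp).1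
          ((by norm_num : Nat.Prime 7).dvd_of_dvd_pow h10)
        refine no_small h fun r hr hd => ?_
        rcases (key r).1 (hcardS r hr hd) with h13 | h13 | h13
        · rw [← h12] at h13
          exact h13.trans (by norm_num)
        · rw [show Tm = 24 by omega] at h13
          have h14 : r ∣ 6 ^ 3 := h13.trans (by norm_num)
          exact (hr.dvd_of_dvd_pow h14).trans (by norm_num)
        · rw [h7] at h13
          have h14 : r ∣ 5 ^ 2 := h13.trans (by norm_num)
          exact (hr.dvd_of_dvd_pow h14).trans (by norm_num)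
      · have h9 : c = 24 := by omega
        have h10 : 3 ∣ l ^ (k : ℕ) := by rw [← hcard, h9]; norm_num
        have h12 := (Nat.prime_dvd_prime_iff_eq Nat.prime_three hp).1 (Nat.prime_three.dvd_of_dvd_pow h10)
        omega

/-- the numerics of `PSp₄(v)` when `ap` is divisible by the characteristic -/
theorem num_sp_ap (h : Pow5 q) {u c a : ℕ} (hu : 7 ≤ u) (huc : u ≤ c) (hc : c = 2 * a + 1)
    (h1 : u * (2 * a) ∣ (q ^ 3 - 1) / 2) (h2 : u * (2 * (a + 1)) ∣ (q ^ 3 - 1) / 2)
    (h3 : 2 * a * (a + 1) + 1 ∣ (q ^ 3 + 1) / 2) (h4 : am q ∣ 2 * a * (a + 1) + 1) (h5 : ap q ≤ c * (c + 1)) :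
    False := by
  have hA := h.A
  have hB := h.B
  have hA0 := h.A_pos
  set A := (q ^ 3 - 1) / 2 with hAdef
  set w := 2 * a * (a + 1) with hw
  -- `u w ∣ A`
  have h6 : u * w ∣ A := by
    obtain ⟨i, hi⟩ := h1
    have h7 : a + 1 ∣ i := by
      have h8 : u * 2 * (a + 1) ∣ u * 2 * (a * i) := by
        have h9 : u * 2 * (a * i) = A := by rw [hi]; ring
        rw [h9]
        calc u * 2 * (a + 1) = u * (2 * (a + 1)) := by ring
          _ ∣ A := h2
      have h9 := Nat.dvd_of_mul_dvd_mul_left (by positivity) h8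
      exact (Nat.coprime_self_add_left.2 (Nat.coprime_one_left _) : Nat.Coprime (a + 1) a).dvd_of_dvd_mul_left h9
    obtain ⟨j, hj⟩ := h7
    exact ⟨j, by rw [hi, hj, hw]; ring⟩
  obtain ⟨i, hi⟩ := h6
  obtain ⟨j, hj⟩ := h3
  have ha : 3 ≤ a := by omega
  have hw0 : 0 < w := by positivity
  have hi0 : 0 < i := by
    rcases Nat.eq_zero_or_pos i with h0 | h0
    · rw [h0, mul_zero] at hi; omega
    · exact h0
  have h7 : w * j + j = u * w * i + 1 := by
    rw [← hi, ← hB, hj]; ring
  -- `w + 1 ≤ j`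
  have h8 : w + 1 ≤ j := by
    have h9 : j < u * i := by
      by_contra hlt
      have h10 : w * (u * i) ≤ w * j := Nat.mul_le_mul_left _ (by omega)
      have h11 : w * (u * i) = u * w * i := by ring
      have h12 : 7 ≤ u * i := by nlinarith
      omega
    obtain ⟨e, he⟩ := Nat.exists_eq_add_of_lt h9
    have h10 : u * w * i = w * j + w * e + w := by
      calc u * w * i = w * (u * i) := by ring
        _ = w * (j + e + 1) := by rw [he]
        _ = w * j + w * e + w := by ring
    omega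
  have h9 : (w + 1) * (w + 1) ≤ (q ^ 3 + 1) / 2 := by
    rw [hj]
    exact Nat.mul_le_mul_left _ h8
  have h10 := ap_mul_am_le h (TA := ap q) (TB := w + 1) (by have := ap_ge h; omega) (by omega) dvd_rfl h4
  -- `c (c + 1) ≤ (16 / 7) (w + 1)`
  have h11 : 7 * (c * (c + 1)) ≤ 16 * (w + 1) := by
    rw [hw, hc]
    nlinarith
  have h12 : 7 * (q ^ 4 + q ^ 2 + 1) ≤ 24 * (q ^ 3 + 1) := by
    calc 7 * (q ^ 4 + q ^ 2 + 1) ≤ 7 * (3 * (ap q * (w + 1))) := Nat.mul_le_mul_left _ h10
      _ ≤ 7 * (3 * (c * (c + 1) * (w + 1))) := by gcongr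
      _ = 3 * (7 * (c * (c + 1))) * (w + 1) := by ring
      _ ≤ 3 * (16 * (w + 1)) * (w + 1) := by gcongr
      _ = 48 * ((w + 1) * (w + 1)) := by ring
      _ ≤ 48 * ((q ^ 3 + 1) / 2) := Nat.mul_le_mul_left _ h9
      _ = 24 * (q ^ 3 + 1) := by omega
  have h13 : 5 * q ^ 3 ≤ q ^ 4 := by
    calc 5 * q ^ 3 ≤ q * q ^ 3 := Nat.mul_le_mul_right _ h.le
      _ = q ^ 4 := by ring
  omega

/-- the numerics of `PSp₄(v)` when `am` is divisible by the characteristic -/
theorem num_sp_am (h : Pow5 q) {u c a : ℕ} (hu : 7 ≤ u) (huc : u ≤ c) (hc : c = 2 * a + 1)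
    (h1 : u * (2 * a) ∣ (q ^ 3 + 1) / 2) (h2 : u * (2 * (a + 1)) ∣ (q ^ 3 + 1) / 2)
    (h3 : 2 * a * (a + 1) + 1 ∣ (q ^ 3 - 1) / 2) (h4 : ap q ∣ 2 * a * (a + 1) + 1) (h5 : am q ≤ c * (c + 1)) :
    False := by
  have hA := h.A
  have hB := h.B
  have hA0 := h.A_pos
  set A := (q ^ 3 - 1) / 2 with hAdef
  set B := (q ^ 3 + 1) / 2 with hBdef
  set w := 2 * a * (a + 1) with hw
  have h6 : u * w ∣ B := by
    obtain ⟨i, hi⟩ := h1
    have h7 : a + 1 ∣ i := by
      have h8 : u * 2 * (a + 1) ∣ u * 2 * (a * i) := by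
        have h9 : u * 2 * (a * i) = B := by rw [hi]; ring
        rw [h9]
        calc u * 2 * (a + 1) = u * (2 * (a + 1)) := by ring
          _ ∣ B := h2
      have h9 := Nat.dvd_of_mul_dvd_mul_left (by positivity) h8
      exact (Nat.coprime_self_add_left.2 (Nat.coprime_one_left _) : Nat.Coprime (a + 1) a).dvd_of_dvd_mul_left h9
    obtain ⟨j, hj⟩ := h7
    exact ⟨j, by rw [hi, hj, hw]; ring⟩
  obtain ⟨j, hj⟩ := h6
  obtain ⟨i, hi⟩ := h3
  have ha : 3 ≤ a := by omega
  have hw0 : 0 < w := by positivity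
  have h7 : u * w * j = w * i + i + 1 := by
    rw [← hj, hB, hi]; ring
  have h8 : w ≤ i + 1 := by
    have h9 : i < u * j := by
      by_contra hlt
      have h10 : w * (u * j) ≤ w * i := Nat.mul_le_mul_left _ (by omega)
      have h11 : w * (u * j) = u * w * j := by ring
      omega
    obtain ⟨e, he⟩ := Nat.exists_eq_add_of_lt h9
    have h10 : u * w * j = w * i + w * e + w := by
      calc u * w * j = w * (u * j) := by ring
        _ = w * (i + e + 1) := by rw [he]
        _ = w * i + w * e + w := by ring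
    omega
  have h9 : (w + 1) * w ≤ A + (w + 1) := by
    calc (w + 1) * w ≤ (w + 1) * (i + 1) := Nat.mul_le_mul_left _ h8
      _ = A + (w + 1) := by rw [hi]; ring
  have h10 := ap_mul_am_le h (TA := w + 1) (TB := am q) (by omega) (by have := am_ge h; omega) h4 dvd_rfl
  have h24 : 24 ≤ w := by rw [hw]; nlinarith
  have h11 : 7 * (c * (c + 1)) ≤ 16 * (w + 1) := by
    rw [hw, hc]
    nlinarith
  -- `(w + 1)² ≤ (25 / 23) (A + ...)`
  have h14 : 23 * ((w + 1) * (w + 1)) ≤ 25 * A := by nlinarith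
  have h12 : 7 * 23 * (q ^ 4 + q ^ 2 + 1) ≤ 600 * (q ^ 3) := by
    calc 7 * 23 * (q ^ 4 + q ^ 2 + 1) ≤ 7 * 23 * (3 * ((w + 1) * am q)) := Nat.mul_le_mul_left _ h10
      _ ≤ 7 * 23 * (3 * ((w + 1) * (c * (c + 1)))) := by gcongr
      _ = 23 * 3 * (7 * (c * (c + 1))) * (w + 1) := by ring
      _ ≤ 23 * 3 * (16 * (w + 1)) * (w + 1) := by gcongr
      _ = 48 * (23 * ((w + 1) * (w + 1))) := by ring
      _ ≤ 48 * (25 * A) := Nat.mul_le_mul_left _ h14
      _ ≤ 600 * q ^ 3 := by omega
  have h13 : 5 * q ^ 3 ≤ q ^ 4 := by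
    calc 5 * q ^ 3 ≤ q * q ^ 3 := Nat.mul_le_mul_right _ h.le
      _ = q ^ 4 := by ring
  omega

theorem le_prod {c l N : ℕ} (hl : 0 < l) (hlc : l ≤ c) (hc : 3 ≤ c) (g : ℕ)
    (h : N ∣ l * (c - 1) ∨ N ∣ l * (c + 1) ∨ N ∣ (c ^ 2 - 1) / g ∨ N ∣ (c ^ 2 + 1) / g)
    (h1 : 0 < (c ^ 2 - 1) / g) (h2 : 0 < (c ^ 2 + 1) / g) : N ≤ c * (c + 1) := by
  have hcc : c * c = c ^ 2 := by ring
  have hcc' : c * (c + 1) = c ^ 2 + c := by ring
  rcases h with h | h | h | h
  · have h3 := Nat.le_of_dvd (Nat.mul_pos hl (by omega)) h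
    have h4 : l * (c - 1) ≤ c * (c + 1) := Nat.mul_le_mul hlc (by omega)
    omega
  · have h3 := Nat.le_of_dvd (Nat.mul_pos hl (by omega)) h
    have h4 : l * (c + 1) ≤ c * (c + 1) := Nat.mul_le_mul hlc le_rfl
    omega
  · have h3 := Nat.le_of_dvd h1 h
    have h4 := Nat.div_le_self (c ^ 2 - 1) g
    omega
  · have h3 := Nat.le_of_dvd h2 h
    have h4 := Nat.div_le_self (c ^ 2 + 1) g
    omega

set_option maxHeartbeats 800000 in
/-- `PSp₄(v)` -/
theorem psp_two {F : Type*} [Field F] [Fintype F] (h5 : ¬ 5 ∣ Fintype.card F) (h3 : 3 ≤ Fintype.card F)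
    (h : E5 q (Cfsg.PSp 2 F)) : False := by
  have hP := pow5 h.pow
  have hq5 := hP.le
  have hA := hP.A
  have hB := hP.B
  obtain ⟨k, hp, hcard⟩ := FiniteField.card F (ringChar F)
  have hrange := Cfsg.Agent.H374.SpFour.mem_range_iff (F := F) h3
  have key : ∀ m : ℕ, (∃ x : Cfsg.PSp 2 F, orderOf x = m) ↔ Om (ringChar F) (Fintype.card F) m :=
    fun m => hrange m
  have hcardS : ∀ r : ℕ, r.Prime → r ∣ Nat.card (Cfsg.PSp 2 F) → ∃ x : Cfsg.PSp 2 F, orderOf x = r := by
    intro r hr hd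
    have := Fact.mk hr
    exact exists_prime_orderOf_dvd_card' r hd
  generalize ringChar F = l at *
  set c := Fintype.card F with hcdef
  have hk : 0 < (k : ℕ) := k.pos
  have hlc : l ∣ c := by rw [hcard]; exact dvd_pow_self l hk.ne'
  have hl5 : l ≠ 5 := by
    rintro rfl
    exact h5 hlc
  have hle : l ≤ c := Nat.le_of_dvd (by omega) hlc
  have hcc : c * c = c ^ 2 := by ring
  have h9 : 9 ≤ c ^ 2 := by nlinarith
  have hsq : c ^ 2 - 1 = (c - 1) * (c + 1) := by
    obtain ⟨e, he⟩ : ∃ e, c = e + 1 := ⟨c - 1, by omega⟩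
    rw [he, Nat.add_sub_cancel, show (e + 1) ^ 2 = e * (e + 1 + 1) + 1 by ring, Nat.add_sub_cancel]
  -- the torus numbers
  obtain ⟨Tm, Tp, hTm, hTp, hT⟩ : ∃ Tm Tp, (c ^ 2 - 1) / Nat.gcd 2 (c - 1) = Tm ∧
      (c ^ 2 + 1) / Nat.gcd 2 (c - 1) = Tp ∧
      ((c % 2 = 1 ∧ c ^ 2 = 2 * Tm + 1 ∧ Tp = Tm + 1) ∨ (c % 2 = 0 ∧ c ^ 2 = Tm + 1 ∧ Tp = Tm + 2)) := by
    refine ⟨_, _, rfl, rfl, ?_⟩
    rcases Nat.even_or_odd c with he | ho
    · right
      rw [Cfsg.Agent.H374.Quad.gcd_of_even he (by omega), Nat.div_one, Nat.div_one]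
      rw [Nat.even_iff] at he
      exact ⟨he, by omega, by omega⟩
    · left
      rw [Cfsg.Agent.H374.Quad.gcd_of_odd ho]
      rw [Nat.odd_iff] at ho
      have h6 : c ^ 2 % 2 = 1 := by rw [Nat.pow_mod, ho]
      refine ⟨ho, ?_, ?_⟩ <;> omega
  have hTm0 : 0 < Tm := by omega
  have hTp0 : 0 < Tp := by omega
  have key' : ∀ m : ℕ, (∃ x : Cfsg.PSp 2 F, orderOf x = m) ↔ (m ∣ l * (c - 1) ∨ m ∣ l * (c + 1) ∨ m ∣ Tm ∨
      m ∣ Tp ∨ (l = 3 ∧ m ∣ 9) ∨ (l = 2 ∧ m ∣ 4)) := by
    intro m
    rw [key m, Om, hTm, hTp]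
  have h1u : Ub q (l * (c - 1)) := h.ub' ((key' _).2 (Or.inl dvd_rfl))
  have h2u : Ub q (l * (c + 1)) := h.ub' ((key' _).2 (Or.inr (Or.inl dvd_rfl)))
  have hTmu : Ub q Tm := h.ub' ((key' _).2 (Or.inr (Or.inr (Or.inl dvd_rfl))))
  have hTpu : Ub q Tp := h.ub' ((key' _).2 (Or.inr (Or.inr (Or.inr (Or.inl dvd_rfl)))))
  have hTmd : Tm ∣ (c - 1) * (c + 1) := by
    rw [← hsq]
    rcases hT with ⟨-, h6, -⟩ | ⟨-, h6, -⟩
    · exact ⟨2, by omega⟩
    · exact ⟨1, by omega⟩
  -- an odd divisor of `c² - 1` divides `Tm`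
  have hodd : ∀ N : ℕ, Nat.Coprime 2 N → N ∣ (c - 1) * (c + 1) → N ∣ Tm := by
    intro N hN hd
    rw [← hsq] at hd
    rcases hT with ⟨-, h6, -⟩ | ⟨-, h6, -⟩
    · rw [show c ^ 2 - 1 = Tm * 2 by omega] at hd
      exact hN.symm.dvd_of_dvd_mul_right hd
    · rwa [show c ^ 2 - 1 = Tm by omega] at hd
  rcases h.five with ⟨hap, ham, -⟩ | h25
  · have hap' := (key' _).1 hap
    have ham' := (key' _).1 ham
    have hap2 : ap q ∣ l * (c - 1) ∨ ap q ∣ l * (c + 1) ∨ ap q ∣ Tm ∨ ap q ∣ Tp := by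
      rcases hap' with h6 | h6 | h6 | h6 | ⟨-, h6⟩ | ⟨-, h6⟩
      · exact Or.inl h6
      · exact Or.inr (Or.inl h6)
      · exact Or.inr (Or.inr (Or.inl h6))
      · exact Or.inr (Or.inr (Or.inr h6))
      · have := Nat.le_of_dvd (by norm_num) h6
        have := ap_ge hP
        omega
      · have := Nat.le_of_dvd (by norm_num) h6
        have := ap_ge hP
        omega
    have ham2 : am q ∣ l * (c - 1) ∨ am q ∣ l * (c + 1) ∨ am q ∣ Tm ∨ am q ∣ Tp := by
      rcases ham' with h6 | h6 | h6 | h6 | ⟨-, h6⟩ | ⟨-, h6⟩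
      · exact Or.inl h6
      · exact Or.inr (Or.inl h6)
      · exact Or.inr (Or.inr (Or.inl h6))
      · exact Or.inr (Or.inr (Or.inr h6))
      · exfalso
        obtain ⟨s, hs, hsa⟩ := exists_am hP
        have h7 : s ∣ 3 ^ 2 := hsa.trans h6
        exact (am_ne (by omega) hs hsa).2.1 ((Nat.prime_dvd_prime_iff_eq hs Nat.prime_three).1
          (hs.dvd_of_dvd_pow h7))
      · have := Nat.le_of_dvd (by norm_num) h6
        have := am_ge hP
        omega
    have hapB : ap q ≤ c * (c + 1) :=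
      le_prod (N := ap q) hp.pos hle h3 (Nat.gcd 2 (c - 1)) (by rw [hTm, hTp]; exact hap2)
        (by rw [hTm]; exact hTm0) (by rw [hTp]; exact hTp0)
    have hamB : am q ≤ c * (c + 1) :=
      le_prod (N := am q) hp.pos hle h3 (Nat.gcd 2 (c - 1)) (by rw [hTm, hTp]; exact ham2)
        (by rw [hTm]; exact hTm0) (by rw [hTp]; exact hTp0)
    by_cases hla : l ∣ ap q
    · -- the characteristic divides `ap`
      have h1A := dvd_A hP hp hla (dvd_mul_right l (c - 1)) h1u
      have h2A := dvd_A hP hp hla (dvd_mul_right l (c + 1)) h2u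
      obtain ⟨s, hs, hsa⟩ := exists_am hP
      have hno := not_dvd_A_of hP hs hsa
      have hl := ap_ne (q := q) (by omega) hp hla
      have hl7 : 7 ≤ l := by
        by_contra hlt
        have h6 : l < 7 := by omega
        have h7 := hp.two_le
        interval_cases l <;> first | omega | (exact absurd hp (by norm_num))
      have hc2 : c % 2 = 1 := by
        rcases Nat.mod_two_eq_zero_or_one c with h6 | h6
        · exfalso
          have h7 : 2 ∣ l ^ (k : ℕ) := by rw [← hcard]; omega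
          exact hl.1 ((Nat.prime_dvd_prime_iff_eq Nat.prime_two hp).1 (Nat.prime_two.dvd_of_dvd_pow h7)).symm
        · exact h6
      obtain ⟨-, h6, h7⟩ : c % 2 = 1 ∧ c ^ 2 = 2 * Tm + 1 ∧ Tp = Tm + 1 := by
        rcases hT with h6 | h6
        · exact h6
        · omega
      obtain ⟨a, ha⟩ : ∃ a, c = 2 * a + 1 := ⟨c / 2, by omega⟩
      have hTp' : Tp = 2 * a * (a + 1) + 1 := by
        have h8 : c ^ 2 = 2 * (2 * a * (a + 1)) + 1 := by rw [ha]; ring
        omega
      have hamT : am q ∣ Tp := by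
        rcases ham2 with h8 | h8 | h8 | h8
        · exact absurd ((hsa.trans h8).trans h1A) hno
        · exact absurd ((hsa.trans h8).trans h2A) hno
        · exfalso
          rcases hs.dvd_mul.1 ((hsa.trans h8).trans hTmd) with h10 | h10
          · exact hno ((h10.mul_left l).trans h1A)
          · exact hno ((h10.mul_left l).trans h2A)
        · exact h8
      refine num_sp_ap hP hl7 hle ha ?_ ?_ ?_ ?_ hapB
      · rw [show 2 * a = c - 1 by omega]; exact h1A
      · rw [show 2 * (a + 1) = c + 1 by omega]; exact h2A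
      · rw [← hTp']; exact dvd_B' hP hamT hTpu
      · rw [← hTp']; exact hamT
    · by_cases hlm : l ∣ am q
      · have h1B := dvd_B hP hp hlm (dvd_mul_right l (c - 1)) h1u
        have h2B := dvd_B hP hp hlm (dvd_mul_right l (c + 1)) h2u
        obtain ⟨s, hs, hsa⟩ := exists_ap hP
        have hno := not_dvd_B_of hP hs hsa
        have hl := am_ne (q := q) (by omega) hp hlm
        have hl7 : 7 ≤ l := by
          by_contra hlt
          have h6 : l < 7 := by omega
          have h7 := hp.two_le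
          interval_cases l <;> first | omega | (exact absurd hp (by norm_num))
        have hc2 : c % 2 = 1 := by
          rcases Nat.mod_two_eq_zero_or_one c with h6 | h6
          · exfalso
            have h7 : 2 ∣ l ^ (k : ℕ) := by rw [← hcard]; omega
            exact hl.1 ((Nat.prime_dvd_prime_iff_eq Nat.prime_two hp).1 (Nat.prime_two.dvd_of_dvd_pow h7)).symm
          · exact h6
        obtain ⟨-, h6, h7⟩ : c % 2 = 1 ∧ c ^ 2 = 2 * Tm + 1 ∧ Tp = Tm + 1 := by
          rcases hT with h6 | h6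
          · exact h6
          · omega
        obtain ⟨a, ha⟩ : ∃ a, c = 2 * a + 1 := ⟨c / 2, by omega⟩
        have hTp' : Tp = 2 * a * (a + 1) + 1 := by
          have h8 : c ^ 2 = 2 * (2 * a * (a + 1)) + 1 := by rw [ha]; ring
          omega
        have hapT : ap q ∣ Tp := by
          rcases hap2 with h8 | h8 | h8 | h8
          · exact absurd ((hsa.trans h8).trans h1B) hno
          · exact absurd ((hsa.trans h8).trans h2B) hno
          · exfalso
            rcases hs.dvd_mul.1 ((hsa.trans h8).trans hTmd) with h10 | h10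
            · exact hno ((h10.mul_left l).trans h1B)
            · exact hno ((h10.mul_left l).trans h2B)
          · exact h8
        refine num_sp_am hP hl7 hle ha ?_ ?_ ?_ ?_ hamB
        · rw [show 2 * a = c - 1 by omega]; exact h1B
        · rw [show 2 * (a + 1) = c + 1 by omega]; exact h2B
        · rw [← hTp']; exact dvd_A' hP hapT hTpu
        · rw [← hTp']; exact hapT
      · -- the characteristic divides neither
        have hca := ((Nat.Prime.coprime_iff_not_dvd hp).2 hla).symm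
        have hcm := ((Nat.Prime.coprime_iff_not_dvd hp).2 hlm).symm
        have h6 : ap q ∣ Tm ∨ ap q ∣ Tp := by
          rcases hap2 with h6 | h6 | h6 | h6
          · exact Or.inl (hodd _ (ap_odd (by omega)) ((hca.dvd_of_dvd_mul_left h6).mul_right _))
          · exact Or.inl (hodd _ (ap_odd (by omega)) ((hca.dvd_of_dvd_mul_left h6).mul_left _))
          · exact Or.inl h6
          · exact Or.inr h6
        have h7 : am q ∣ Tm ∨ am q ∣ Tp := by
          rcases ham2 with h6 | h6 | h6 | h6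
          · exact Or.inl (hodd _ (am_odd (by omega)) ((hcm.dvd_of_dvd_mul_left h6).mul_right _))
          · exact Or.inl (hodd _ (am_odd (by omega)) ((hcm.dvd_of_dvd_mul_left h6).mul_left _))
          · exact Or.inl h6
          · exact Or.inr h6
        rcases h6 with h6 | h6 <;> rcases h7 with h7 | h7
        · exact not_both hP h6 h7 hTmu
        · have h8 := near hP (dvd_A' hP h6 hTmu) (dvd_B' hP h7 hTpu) h6 h7 (by omega) (by omega)
          refine h5 ?_
          have h10 : c ^ 2 = q ^ 3 := by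
            rcases hT with h10 | h10
            · omega
            · exfalso; omega
          have h11 : 5 ∣ c ^ 2 := by
            rw [h10]
            exact hP.dvd.trans (dvd_pow_self q (by norm_num))
          exact (by norm_num : Nat.Prime 5).dvd_of_dvd_pow h11
        · have h8 := near hP (dvd_A' hP h6 hTpu) (dvd_B' hP h7 hTmu) h6 h7 (by omega) (by omega)
          omega
        · exact not_both hP h6 h7 hTpu
  · have h25' := (key' _).1 h25
    have hcop : Nat.Coprime 25 l := by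
      have h6 : Nat.Coprime 5 l := (Nat.coprime_primes (by norm_num) hp).2 (Ne.symm hl5)
      exact Nat.Coprime.pow_left 2 h6
    have hbd : ∀ n : ℕ, 7 < n → 50 < n ^ 2 := by
      intro n hn
      nlinarith
    have hTm25 : 25 ∣ Tm → False := by
      intro h6
      have h7 := eq_25 hP h6 hTmu
      have h8 : c ≤ 7 ∨ c = 8 := by
        by_contra hlt
        have : 80 < c ^ 2 := by nlinarith [show 9 ≤ c by omega]
        omega
      have h10 : c ≤ 8 := by omega
      interval_cases c <;> omega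
    rcases h25' with h6 | h6 | h6 | h6 | ⟨-, h6⟩ | ⟨-, h6⟩
    · exact hTm25 (hodd 25 (by norm_num) ((hcop.dvd_of_dvd_mul_left h6).mul_right _))
    · exact hTm25 (hodd 25 (by norm_num) ((hcop.dvd_of_dvd_mul_left h6).mul_left _))
    · exact hTm25 h6
    · have h7 := eq_25 hP h6 hTpu
      have h8 : c ≤ 7 := by
        by_contra hlt
        have := hbd c (by omega)
        omega
      have hc7 : c = 7 := by
        have h10 : c ^ 2 = 49 ∨ c ^ 2 = 24 := by omega
        rcases h10 with h10 | h10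
        · nlinarith
        · exfalso
          interval_cases c <;> omega
      have hl7 : l = 7 := by
        rcases (Nat.dvd_prime (by norm_num : Nat.Prime 7)).1 (hc7 ▸ hlc) with h10 | h10
        · exact absurd h10 hp.one_lt.ne'
        · exact h10
      have hTm24 : Tm = 24 := by
        rw [hc7] at hT
        omega
      refine no_small h fun r hr hd => ?_
      rcases (key' r).1 (hcardS r hr hd) with h13 | h13 | h13 | h13 | ⟨h13, -⟩ | ⟨h13, -⟩
      · rw [hl7, hc7] at h13
        exact h13.trans (by norm_num)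
      · rw [hl7, hc7] at h13
        have h14 : r ∣ 14 ^ 3 := h13.trans (by norm_num)
        exact (hr.dvd_of_dvd_pow h14).trans (by norm_num)
      · rw [hTm24] at h13
        have h14 : r ∣ 6 ^ 3 := h13.trans (by norm_num)
        exact (hr.dvd_of_dvd_pow h14).trans (by norm_num)
      · rw [h7] at h13
        have h14 : r ∣ 5 ^ 2 := h13.trans (by norm_num)
        exact (hr.dvd_of_dvd_pow h14).trans (by norm_num)
      · omega
      · omega
    · omega
    · omega

end Cfsg.Agent.H60.Six5
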