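import Cfsg.Agent.H60.SixBase
import Cfsg.Agent.S2238
import Cfsg.Agent.S0324
import Cfsg.Agent.S1159
import Cfsg.Agent.OddCyclic.ClaimC.SzIso

/-!
# BLOCK 6, `q = 5 ^ m`: the simple section is not a Suzuki or Ree group (helper60, task of helper376)
-/

set_option autoImplicit false

namespace Cfsg.Agent.H60.Six5

open Cfsg.Agent.H376.Six

universe u

variable {q : ℕ}

/-! ## numbers -/

theorem odd_cases (h : Pow5 q) {TA TB : ℕ} (hA : TA % 2 = 1) (hB : TB % 2 = 1) (h1 : ap q ∣ TA) (h2 : am q ∣ TB) :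
    (TA = ap q ∧ TB = am q) ∨ q ^ 4 + q ^ 2 + 1 ≤ TA * TB := by
  rw [← ap_mul_am (by have := h.le; omega) h.three]
  obtain ⟨i, hi⟩ := h1
  obtain ⟨j, hj⟩ := h2
  have hi2 : i % 2 = 1 := by
    rcases Nat.mod_two_eq_zero_or_one i with h3 | h3
    · rw [hi, Nat.mul_mod, h3] at hA; simp at hA
    · exact h3
  have hj2 : j % 2 = 1 := by
    rcases Nat.mod_two_eq_zero_or_one j with h3 | h3
    · rw [hj, Nat.mul_mod, h3] at hB; simp at hB
    · exact h3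
  by_cases h3 : i = 1 ∧ j = 1
  · left
    rw [hi, hj, h3.1, h3.2, mul_one, mul_one]
    exact ⟨rfl, rfl⟩
  · right
    have h4 : 3 ≤ i * j := by
      rcases Nat.lt_or_ge i 2 with h5 | h5
      · have h6 : i = 1 := by omega
        have h7 : j ≠ 1 := fun h8 => h3 ⟨h6, h8⟩
        rw [h6, one_mul]
        omega
      · calc 3 ≤ i * 1 := by omega
          _ ≤ i * j := Nat.mul_le_mul_left _ (by omega)
    calc 3 * (ap q * am q) ≤ i * j * (ap q * am q) := Nat.mul_le_mul_right _ h4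
      _ = TA * TB := by rw [hi, hj]; ring

/-- the two numbers are far from each other -/
theorem gap (h : Pow5 q) {D : ℕ} (h1 : ap q ≤ am q + D) (h2 : am q ≤ ap q + D) : 3 * q ^ 2 ≤ 5 * D := by
  have h5 := h.le
  rcases ap_am_cases h with ⟨h3, h4⟩ | ⟨h25, h3, h4⟩
  · omega
  · have h6 : 25 * q ≤ q ^ 2 := by nlinarith
    omega

theorem sz_big {s N : ℕ} (h : Pow5 q) (h1 : q ^ 4 + q ^ 2 + 1 ≤ N)
    (h2 : 2 * N ≤ (2 * s + 2) * (q ^ 3 + 1) + 2 * (2 * s ^ 2 + 2 * s + 1))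
    (h3 : 4 * s ^ 4 + 2 * s ≤ N + 4 * s ^ 3 + 1) : False := by
  have h5 := h.le
  rcases Nat.lt_or_ge (3 * q) (4 * s) with h4 | h4
  · -- `s` large
    have h6 : 27 * q ^ 3 ≤ (4 * s - 1) ^ 3 := by
      calc 27 * q ^ 3 = (3 * q) ^ 3 := by ring
        _ ≤ (4 * s - 1) ^ 3 := Nat.pow_le_pow_left (by omega) 3
    obtain ⟨w, hw⟩ : ∃ w, s = w + 4 := ⟨s - 4, by omega⟩
    have h7 : (4 * s - 1) ^ 3 = (4 * w + 15) ^ 3 := by rw [show 4 * s - 1 = 4 * w + 15 by omega]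
    rw [h7] at h6
    have h8 : 27 * (2 * (4 * s ^ 4 + 2 * s)) ≤ 27 * (2 * (4 * s ^ 3 + 1)) + ((2 * s + 2) * ((4 * w + 15) ^ 3 + 27) +
        27 * (2 * (2 * s ^ 2 + 2 * s + 1))) := by
      have h9 : (2 * s + 2) * (27 * (q ^ 3 + 1)) ≤ (2 * s + 2) * ((4 * w + 15) ^ 3 + 27) :=
        Nat.mul_le_mul_left _ (by omega)
      have h10 : 27 * ((2 * s + 2) * (q ^ 3 + 1)) = (2 * s + 2) * (27 * (q ^ 3 + 1)) := by ring
      omega
    rw [hw] at h8
    ring_nf at h8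
    nlinarith [pow_nonneg (Nat.zero_le w) 3, pow_nonneg (Nat.zero_le w) 4, pow_nonneg (Nat.zero_le w) 2]
  · -- `s` small
    obtain ⟨w, hw⟩ : ∃ w, q = w + 5 := ⟨q - 5, by omega⟩
    have h6 : 4 * (q ^ 4 + q ^ 2 + 1) ≤ (4 * s + 4) * (q ^ 3 + 1) + 4 * (2 * s ^ 2 + 2 * s + 1) := by
      have : 2 * ((2 * s + 2) * (q ^ 3 + 1)) = (4 * s + 4) * (q ^ 3 + 1) := by ring
      omega
    have h7 : (4 * s + 4) * (q ^ 3 + 1) ≤ (3 * q + 4) * (q ^ 3 + 1) := Nat.mul_le_mul_right _ (by omega)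
    have h8 : 16 * s ^ 2 ≤ 9 * q ^ 2 := by
      calc 16 * s ^ 2 = (4 * s) ^ 2 := by ring
        _ ≤ (3 * q) ^ 2 := Nat.pow_le_pow_left h4 2
        _ = 9 * q ^ 2 := by ring
    have h9 : 8 * (q ^ 4 + q ^ 2 + 1) ≤ 2 * ((3 * q + 4) * (q ^ 3 + 1)) + (9 * q ^ 2 + 12 * q + 8) := by omega
    rw [hw] at h9
    ring_nf at h9
    nlinarith [pow_nonneg (Nat.zero_le w) 3, pow_nonneg (Nat.zero_le w) 4, pow_nonneg (Nat.zero_le w) 2]

/-- the pairs `{v - 1, v + 1 ± r}` -/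
theorem sz_num {s TA TB : ℕ} (h : Pow5 q) (hs : 2 ≤ s) (hTA : TA ∣ (q ^ 3 - 1) / 2) (hTB : TB ∣ (q ^ 3 + 1) / 2)
    (h1 : ap q ∣ TA) (h2 : am q ∣ TB)
    (hc : (TA + 1 = 2 * s ^ 2 ∧ (TB = 2 * s ^ 2 + 2 * s + 1 ∨ TB + 2 * s = 2 * s ^ 2 + 1)) ∨
      (TB + 1 = 2 * s ^ 2 ∧ (TA = 2 * s ^ 2 + 2 * s + 1 ∨ TA + 2 * s = 2 * s ^ 2 + 1))) : False := by
  have hA := h.A
  have hB := h.B
  have hA0 := h.A_pos
  have hss : 2 * s ≤ s ^ 2 := by nlinarith
  have hev : (2 * s ^ 2) % 2 = 0 := by omega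
  have hTA1 : 1 < TA := by
    have := Nat.le_of_dvd (Nat.pos_of_dvd_of_pos hTA hA0) h1
    have := ap_ge h
    omega
  -- the upper bound
  have hub : 2 * (TA * TB) ≤ (2 * s + 2) * (q ^ 3 + 1) + 2 * (2 * s ^ 2 + 2 * s + 1) := by
    have hq3 : 2 * ((q ^ 3 + 1) / 2) = q ^ 3 + 1 := by omega
    have hgen : ∀ D, D ≤ 2 * s + 2 → (TB = TA + D ∨ TA = TB + D) → D ≠ 1 → TA ≤ 2 * s ^ 2 + 2 * s + 1 →
        2 * (TA * TB) ≤ (2 * s + 2) * (q ^ 3 + 1) + 2 * (2 * s ^ 2 + 2 * s + 1) := by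
      intro D hD hcase hD1 hle
      have hDB : D * (q ^ 3 + 1) ≤ (2 * s + 2) * (q ^ 3 + 1) := Nat.mul_le_mul_right _ hD
      have hDB2 : 2 * (D * ((q ^ 3 + 1) / 2)) = D * (q ^ 3 + 1) := by
        calc 2 * (D * ((q ^ 3 + 1) / 2)) = D * (2 * ((q ^ 3 + 1) / 2)) := by ring
          _ = D * (q ^ 3 + 1) := by rw [hq3]
      have hDA : D * ((q ^ 3 - 1) / 2) ≤ D * ((q ^ 3 + 1) / 2) := Nat.mul_le_mul_left _ (by omega)
      rcases hcase with h3 | h3
      · rcases size_up hB hTA hTA1 hTB h3 with h4 | h4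
        · exact absurd h4.1 hD1
        · omega
      · have h4 := size_down hB hTA hTB h3
        omega
    rcases hc with ⟨h3, h4 | h4⟩ | ⟨h3, h4 | h4⟩
    · exact hgen (2 * s + 2) le_rfl (Or.inl (by omega)) (by omega) (by omega)
    · exact hgen (2 * s - 2) (by omega) (Or.inr (by omega)) (by omega) (by omega)
    · exact hgen (2 * s + 2) le_rfl (Or.inr (by omega)) (by omega) (by omega)
    · exact hgen (2 * s - 2) (by omega) (Or.inl (by omega)) (by omega) (by omega)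
  rcases odd_cases h (by omega) (by omega) h1 h2 with ⟨h3, h4⟩ | h3
  · -- equality
    have h5 := gap h (D := 2 * s + 2) (by omega) (by omega)
    have h6 : 2 * s ^ 2 ≤ q ^ 2 + q + 2 := by
      have h7 := Nat.le_of_dvd (by positivity) (ap_dvd (q := q) (by have := h.le; omega))
      have h8 := Nat.le_of_dvd (by positivity) (am_dvd (q := q) (by have := h.le; omega))
      have h9 : q ^ 2 - q + 1 ≤ q ^ 2 + q + 1 := by omega
      omega
    have h7 := h.le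
    have h8 : 5 * q ≤ q ^ 2 := by nlinarith
    have h9 : 13 * q ≤ 10 * s := by omega
    have h10 : 169 * q ^ 2 ≤ 100 * s ^ 2 := by
      calc 169 * q ^ 2 = (13 * q) ^ 2 := by ring
        _ ≤ (10 * s) ^ 2 := Nat.pow_le_pow_left h9 2
        _ = 100 * s ^ 2 := by ring
    omega
  · refine sz_big (s := s) (N := TA * TB) h h3 hub ?_
    have h4 : 4 * s ^ 4 + 2 * s = 2 * s ^ 2 * (2 * s ^ 2 + 1) - 2 * s ^ 2 + 2 * s := by
      have : 2 * s ^ 2 * (2 * s ^ 2 + 1) = 4 * s ^ 4 + 2 * s ^ 2 := by ring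
      omega
    rcases hc with ⟨h5, h6 | h6⟩ | ⟨h5, h6 | h6⟩
    · zify at h5 h6 ⊢
      have h7 : (TA : ℤ) = 2 * s ^ 2 - 1 := by linarith
      rw [h7, h6]
      have : (0 : ℤ) ≤ s ^ 3 := by positivity
      have h8 : (2 : ℤ) ≤ s := by exact_mod_cast hs
      nlinarith
    · zify at h5 h6 ⊢
      have h7 : (TA : ℤ) = 2 * s ^ 2 - 1 := by linarith
      have h8 : (TB : ℤ) = 2 * s ^ 2 + 1 - 2 * s := by linarith
      rw [h7, h8]
      nlinarith
    · zify at h5 h6 ⊢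
      have h7 : (TB : ℤ) = 2 * s ^ 2 - 1 := by linarith
      rw [h7, h6]
      have : (0 : ℤ) ≤ s ^ 3 := by positivity
      have h8 : (2 : ℤ) ≤ s := by exact_mod_cast hs
      nlinarith
    · zify at h5 h6 ⊢
      have h7 : (TB : ℤ) = 2 * s ^ 2 - 1 := by linarith
      have h8 : (TA : ℤ) = 2 * s ^ 2 + 1 - 2 * s := by linarith
      rw [h7, h8]
      nlinarith

/-- the even case -/
theorem even_cases (h : Pow5 q) {TA TB : ℕ} (hA : TA % 2 = 0) (hA0 : 0 < TA) (hB : TB % 2 = 1) (h1 : ap q ∣ TA)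
    (h2 : am q ∣ TB) : (TA = 2 * ap q ∧ TB = am q) ∨ 4 * (q ^ 4 + q ^ 2 + 1) ≤ 3 * (TA * TB) := by
  rw [← ap_mul_am (by have := h.le; omega) h.three]
  have hodd := ap_odd (q := q) (by have := h.le; omega)
  obtain ⟨i, hi⟩ := h1
  obtain ⟨j, hj⟩ := h2
  have hi2 : i % 2 = 0 := by
    have h3 : 2 ∣ ap q * i := by rw [← hi]; omega
    have := hodd.dvd_of_dvd_mul_left h3
    omega
  have hj2 : j % 2 = 1 := by
    rcases Nat.mod_two_eq_zero_or_one j with h3 | h3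
    · rw [hj, Nat.mul_mod, h3] at hB; simp at hB
    · exact h3
  have hi0 : 0 < i := by
    rcases Nat.eq_zero_or_pos i with h0 | h0
    · rw [h0, mul_zero] at hi; omega
    · exact h0
  by_cases h3 : i = 2 ∧ j = 1
  · left
    rw [hi, hj, h3.1, h3.2, mul_one]
    exact ⟨by ring, rfl⟩
  · right
    have h4 : 4 ≤ i * j := by
      rcases Nat.lt_or_ge i 3 with h5 | h5
      · have h6 : i = 2 := by omega
        have h7 : j ≠ 1 := fun h8 => h3 ⟨h6, h8⟩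
        rw [h6]
        omega
      · calc 4 ≤ i * 1 := by omega
          _ ≤ i * j := Nat.mul_le_mul_left _ (by omega)
    calc 4 * (3 * (ap q * am q)) = 3 * (4 * (ap q * am q)) := by ring
      _ ≤ 3 * (i * j * (ap q * am q)) := Nat.mul_le_mul_left _ (Nat.mul_le_mul_right _ h4)
      _ = 3 * (TA * TB) := by rw [hi, hj]; ring

theorem seven_cases (h : Pow5 q) {TA TB : ℕ} (hA : ∀ i, i ∣ TA → i = 1 ∨ 7 ≤ i) (hB : ∀ i, i ∣ TB → i = 1 ∨ 7 ≤ i)
    (h1 : ap q ∣ TA) (h2 : am q ∣ TB) :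
    (TA = ap q ∧ TB = am q) ∨ 7 * (q ^ 4 + q ^ 2 + 1) ≤ 3 * (TA * TB) := by
  rw [← ap_mul_am (by have := h.le; omega) h.three]
  obtain ⟨i, hi⟩ := h1
  obtain ⟨j, hj⟩ := h2
  have hi2 := hA i (hi ▸ Dvd.intro_left _ rfl)
  have hj2 := hB j (hj ▸ Dvd.intro_left _ rfl)
  by_cases h3 : i = 1 ∧ j = 1
  · left
    rw [hi, hj, h3.1, h3.2, mul_one, mul_one]
    exact ⟨rfl, rfl⟩
  · right
    have h4 : 7 ≤ i * j := by
      rcases hi2 with h5 | h5
      · have h7 : j ≠ 1 := fun h8 => h3 ⟨h5, h8⟩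
        rw [h5, one_mul]
        omega
      · calc 7 ≤ i * 1 := by omega
          _ ≤ i * j := Nat.mul_le_mul_left _ (by omega)
    calc 7 * (3 * (ap q * am q)) = 3 * (7 * (ap q * am q)) := by ring
      _ ≤ 3 * (i * j * (ap q * am q)) := Nat.mul_le_mul_left _ (Nat.mul_le_mul_right _ h4)
      _ = 3 * (TA * TB) := by rw [hi, hj]; ring

theorem ree_big1 {s N : ℕ} (h : Pow5 q) (h1 : 7 * (q ^ 4 + q ^ 2 + 1) ≤ 3 * N)
    (h2 : 2 * N ≤ 6 * s * (q ^ 3 + 1) + 2 * (3 * s ^ 2 + 3 * s + 1)) (h3 : 9 * s ^ 4 + 1 ≤ N + 3 * s ^ 2) : False := by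
  have h5 := h.le
  rcases Nat.lt_or_ge (11 * q) (15 * s) with h4 | h4
  · have h6 : 1331 * q ^ 3 ≤ (15 * s - 1) ^ 3 := by
      calc 1331 * q ^ 3 = (11 * q) ^ 3 := by ring
        _ ≤ (15 * s - 1) ^ 3 := Nat.pow_le_pow_left (by omega) 3
    obtain ⟨w, hw⟩ : ∃ w, s = w + 4 := ⟨s - 4, by omega⟩
    rw [show 15 * s - 1 = 15 * w + 59 by omega] at h6
    have h8 : 1331 * (9 * s ^ 4 + 1) ≤ 1331 * (3 * s ^ 2) + (3 * s * ((15 * w + 59) ^ 3 + 1331) +
        1331 * (3 * s ^ 2 + 3 * s + 1)) := by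
      have h9 : 3 * s * (1331 * (q ^ 3 + 1)) ≤ 3 * s * ((15 * w + 59) ^ 3 + 1331) :=
        Nat.mul_le_mul_left _ (by omega)
      have h10 : 1331 * (6 * s * (q ^ 3 + 1)) = 2 * (3 * s * (1331 * (q ^ 3 + 1))) := by ring
      omega
    rw [hw] at h8
    ring_nf at h8
    nlinarith [pow_nonneg (Nat.zero_le w) 3, pow_nonneg (Nat.zero_le w) 4, pow_nonneg (Nat.zero_le w) 2]
  · obtain ⟨w, hw⟩ : ∃ w, q = w + 5 := ⟨q - 5, by omega⟩
    have h7 : 15 * s * (q ^ 3 + 1) ≤ 11 * q * (q ^ 3 + 1) := Nat.mul_le_mul_right _ h4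
    have h8 : 225 * s ^ 2 ≤ 121 * q ^ 2 := by
      calc 225 * s ^ 2 = (15 * s) ^ 2 := by ring
        _ ≤ (11 * q) ^ 2 := Nat.pow_le_pow_left h4 2
        _ = 121 * q ^ 2 := by ring
    have h10 : 6 * s * (q ^ 3 + 1) * 5 = 2 * (15 * s * (q ^ 3 + 1)) := by ring
    have h9 : 350 * (q ^ 4 + q ^ 2 + 1) ≤ 30 * (11 * q * (q ^ 3 + 1)) + (242 * q ^ 2 + 330 * q + 150) := by
      have h11 : 14 * (q ^ 4 + q ^ 2 + 1) ≤ 3 * (6 * s * (q ^ 3 + 1) + 2 * (3 * s ^ 2 + 3 * s + 1)) := by omega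
      have h12 : 70 * (q ^ 4 + q ^ 2 + 1) ≤ 6 * (15 * s * (q ^ 3 + 1)) + 30 * (3 * s ^ 2 + 3 * s + 1) := by omega
      omega
    rw [hw] at h9
    ring_nf at h9
    nlinarith [pow_nonneg (Nat.zero_le w) 3, pow_nonneg (Nat.zero_le w) 4, pow_nonneg (Nat.zero_le w) 2]

theorem ree_big2 {s N : ℕ} (h : Pow5 q) (h1 : 4 * (q ^ 4 + q ^ 2 + 1) ≤ 3 * N)
    (h2 : 2 * N ≤ 3 * s * (q ^ 3 + 1) + 2 * (3 * s ^ 2 + 3 * s + 1))
    (h3 : 9 * s ^ 4 + 6 * s ^ 2 + 1 ≤ 2 * N + 9 * s ^ 3 + 3 * s) : False := by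
  have h5 := h.le
  rcases Nat.lt_or_ge (5 * q) (6 * s) with h4 | h4
  · have h6 : 125 * q ^ 3 ≤ (6 * s - 1) ^ 3 := by
      calc 125 * q ^ 3 = (5 * q) ^ 3 := by ring
        _ ≤ (6 * s - 1) ^ 3 := Nat.pow_le_pow_left (by omega) 3
    obtain ⟨w, hw⟩ : ∃ w, s = w + 5 := ⟨s - 5, by omega⟩
    rw [show 6 * s - 1 = 6 * w + 29 by omega] at h6
    have h8 : 125 * (9 * s ^ 4 + 6 * s ^ 2 + 1) ≤ 125 * (9 * s ^ 3 + 3 * s) + (3 * s * ((6 * w + 29) ^ 3 + 125) +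
        250 * (3 * s ^ 2 + 3 * s + 1)) := by
      have h9 : 3 * s * (125 * (q ^ 3 + 1)) ≤ 3 * s * ((6 * w + 29) ^ 3 + 125) :=
        Nat.mul_le_mul_left _ (by omega)
      have h10 : 125 * (3 * s * (q ^ 3 + 1)) = 3 * s * (125 * (q ^ 3 + 1)) := by ring
      omega
    rw [hw] at h8
    ring_nf at h8
    nlinarith [pow_nonneg (Nat.zero_le w) 3, pow_nonneg (Nat.zero_le w) 4, pow_nonneg (Nat.zero_le w) 2]
  · obtain ⟨w, hw⟩ : ∃ w, q = w + 5 := ⟨q - 5, by omega⟩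
    have h7 : 6 * s * (q ^ 3 + 1) ≤ 5 * q * (q ^ 3 + 1) := Nat.mul_le_mul_right _ h4
    have h8 : 36 * s ^ 2 ≤ 25 * q ^ 2 := by
      calc 36 * s ^ 2 = (6 * s) ^ 2 := by ring
        _ ≤ (5 * q) ^ 2 := Nat.pow_le_pow_left h4 2
        _ = 25 * q ^ 2 := by ring
    have h10 : 2 * (3 * s * (q ^ 3 + 1)) = 6 * s * (q ^ 3 + 1) := by ring
    have h9 : 16 * (q ^ 4 + q ^ 2 + 1) ≤ 3 * (5 * q * (q ^ 3 + 1)) + (25 * q ^ 2 + 30 * q + 12) := by omega
    rw [hw] at h9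
    ring_nf at h9
    nlinarith [pow_nonneg (Nat.zero_le w) 3, pow_nonneg (Nat.zero_le w) 4, pow_nonneg (Nat.zero_le w) 2]

theorem ree_big3 {s N : ℕ} (h : Pow5 q) (hs : 3 ≤ s) (h1 : 4 * (q ^ 4 + q ^ 2 + 1) ≤ 3 * N)
    (h2 : 2 * N ≤ (3 * s + 2) * (q ^ 3 + 1) + 2 * (3 * s ^ 2))
    (h3 : 9 * s ^ 4 + 3 * s ≤ N + 9 * s ^ 3 + 1) : False := by
  rcases h.cases with rfl | h5
  · norm_num at h1 h2
    rcases Nat.lt_or_ge s 4 with h6 | h6
    · have h7 : s = 3 := by omega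
      subst h7
      omega
    · obtain ⟨w, hw⟩ : ∃ w, s = w + 4 := ⟨s - 4, by omega⟩
      rw [hw] at h2 h3
      ring_nf at h2 h3
      nlinarith [pow_nonneg (Nat.zero_le w) 3, pow_nonneg (Nat.zero_le w) 4, pow_nonneg (Nat.zero_le w) 2]
  · rcases Nat.lt_or_ge (4 * q) (5 * s) with h4 | h4
    · have h6 : 64 * q ^ 3 ≤ (5 * s - 1) ^ 3 := by
        calc 64 * q ^ 3 = (4 * q) ^ 3 := by ring
          _ ≤ (5 * s - 1) ^ 3 := Nat.pow_le_pow_left (by omega) 3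
      obtain ⟨w, hw⟩ : ∃ w, s = w + 20 := ⟨s - 20, by omega⟩
      rw [show 5 * s - 1 = 5 * w + 99 by omega] at h6
      have h8 : 128 * (9 * s ^ 4 + 3 * s) ≤ 128 * (9 * s ^ 3 + 1) + ((3 * s + 2) * ((5 * w + 99) ^ 3 + 64) +
          128 * (3 * s ^ 2)) := by
        have h9 : (3 * s + 2) * (64 * (q ^ 3 + 1)) ≤ (3 * s + 2) * ((5 * w + 99) ^ 3 + 64) :=
          Nat.mul_le_mul_left _ (by omega)
        have h10 : 64 * ((3 * s + 2) * (q ^ 3 + 1)) = (3 * s + 2) * (64 * (q ^ 3 + 1)) := by ring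
        omega
      rw [hw] at h8
      ring_nf at h8
      nlinarith [pow_nonneg (Nat.zero_le w) 3, pow_nonneg (Nat.zero_le w) 4, pow_nonneg (Nat.zero_le w) 2]
    · obtain ⟨w, hw⟩ : ∃ w, q = w + 25 := ⟨q - 25, by omega⟩
      have h7 : (15 * s + 10) * (q ^ 3 + 1) ≤ (12 * q + 10) * (q ^ 3 + 1) := Nat.mul_le_mul_right _ (by omega)
      have h8 : 25 * s ^ 2 ≤ 16 * q ^ 2 := by
        calc 25 * s ^ 2 = (5 * s) ^ 2 := by ring
          _ ≤ (4 * q) ^ 2 := Nat.pow_le_pow_left h4 2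
          _ = 16 * q ^ 2 := by ring
      have h10 : 5 * ((3 * s + 2) * (q ^ 3 + 1)) = (15 * s + 10) * (q ^ 3 + 1) := by ring
      have h9 : 200 * (q ^ 4 + q ^ 2 + 1) ≤ 15 * ((12 * q + 10) * (q ^ 3 + 1)) + 288 * q ^ 2 := by omega
      rw [hw] at h9
      ring_nf at h9
      nlinarith [pow_nonneg (Nat.zero_le w) 3, pow_nonneg (Nat.zero_le w) 4, pow_nonneg (Nat.zero_le w) 2]

/-! ## Suzuki groups -/

theorem zmod_of_dvd {n k : ℕ} {a : ℕ} (h : n ∣ a) : ((a : ℕ) : ZMod n) = 0 := by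
  have _ := k
  exact (ZMod.natCast_eq_zero_iff a n).2 h

/-- no prime divisor of `am q` is in `{2, 5, 31, 41}` -/
theorem am_ne_31_41 {m : ℕ} (h : Pow5 q) (hm : q = 5 ^ m) {s : ℕ} (hs : s.Prime) (hsa : s ∣ am q)
    (hc : s = 2 ∨ s = 5 ∨ s = 31 ∨ s = 41) : False := by
  have h2 : 2 ≤ q := by have := h.le; omega
  have h3 := am_ne h2 hs hsa
  have h4 : s ∣ q ^ 3 + 1 := hsa.trans (am_dvd_cube h2)
  rcases hc with rfl | rfl | rfl | rfl
  · exact h3.1 rfl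
  · exact h3.2.2 h.dvd
  · have h5 : q ^ 3 % 31 = 1 := by
      rw [hm, ← pow_mul, mul_comm m 3, pow_mul, Nat.pow_mod]
      norm_num
    omega
  · have h5 : q ^ 20 % 41 = 1 := by
      rw [hm, ← pow_mul, mul_comm m 20, pow_mul, Nat.pow_mod]
      norm_num
    have h6 : q ^ 3 % 41 = 40 := by omega
    have h7 : q ^ 2 % 41 = 1 := by
      have h8 : q ^ 20 = (q ^ 3) ^ 6 * q ^ 2 := by ring
      rw [h8, Nat.mul_mod, Nat.pow_mod (q ^ 3) 6, h6] at h5
      norm_num at h5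
      omega
    have h8 : 41 ∣ q ^ 2 - 1 := by
      have : 1 ≤ q ^ 2 := Nat.one_le_pow _ _ (by omega)
      omega
    exact am_prime h2 hs hsa (h8.trans (sq_pm_dvd q).2)

/-- the primes dividing `|S|` are not all in `{2, 5, 31, 41}` -/
theorem no_32 {S : Type u} [Group S] (h : E5 q S)
    (hc : ∀ r : ℕ, r.Prime → r ∣ Nat.card S → r = 2 ∨ r = 5 ∨ r = 31 ∨ r = 41) : False := by
  have hP := pow5 h.pow
  have h2 : 2 ≤ q := by have := hP.le; omega
  obtain ⟨m, -, hm⟩ := h.pow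
  obtain ⟨s, hs, hsa⟩ := exists_am hP
  have hsn : ¬ s ∣ Nat.card S := fun hd => am_ne_31_41 hP hm hs hsa (hc s hs hd)
  have hmf : ∀ t : ℕ, t.Prime → t ∣ (q ^ 2 + 1) / 2 → t ∣ Nat.card S :=
    fun t ht htd => (h.mf s t hs ht hsa htd).resolve_left hsn
  have hev : 2 ∣ q ^ 2 + 1 := by
    have : q ^ 2 % 2 = 1 := by rw [Nat.pow_mod, hP.two]
    omega
  rcases Nat.even_or_odd m with he | ho
  · obtain ⟨t, ht, htd, ht7⟩ := exists_t hP
    have htd' : t ∣ q ^ 2 + 1 := htd.trans (Nat.div_dvd_of_dvd hev)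
    rcases hc t ht (hmf t ht htd) with rfl | rfl | rfl | rfl
    · exact ht7 (by norm_num)
    · exact ht7 (by norm_num)
    · have h5 : q ^ 3 % 31 = 1 := by
        rw [hm, ← pow_mul, mul_comm m 3, pow_mul, Nat.pow_mod]
        norm_num
      have h6 : q ^ 2 % 31 = 30 := by omega
      have h7 : (q ^ 2) ^ 3 = (q ^ 3) ^ 2 := by ring
      have h8 : (q ^ 2) ^ 3 % 31 = (q ^ 3) ^ 2 % 31 := by rw [h7]
      rw [Nat.pow_mod, h6, Nat.pow_mod (q ^ 3), h5] at h8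
      norm_num at h8
    · obtain ⟨e, he⟩ := he
      have h5 : (q ^ 2) ^ 5 % 41 = 1 := by
        rw [hm, he, show ((5 ^ (e + e)) ^ 2) ^ 5 = (5 ^ 20) ^ e by rw [← pow_mul, ← pow_mul, ← pow_mul]; congr 1; ring, Nat.pow_mod]
        norm_num
      have h6 : q ^ 2 % 41 = 40 := by omega
      rw [Nat.pow_mod, h6] at h5
      norm_num at h5
  · have h13 : 13 ∣ q ^ 2 + 1 := by
      obtain ⟨e, he⟩ := ho
      have h5 : q ^ 2 % 13 = 12 := by
        rw [hm, he, show (5 ^ (2 * e + 1)) ^ 2 = 5 ^ 2 * (5 ^ 4) ^ e by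
          rw [← pow_mul, ← pow_mul, ← pow_add]; congr 1; ring, Nat.mul_mod, Nat.pow_mod (5 ^ 4)]
        norm_num
      omega
    have h13' : 13 ∣ (q ^ 2 + 1) / 2 := by
      apply (by norm_num : Nat.Coprime 13 2).dvd_of_dvd_mul_left
      rwa [Nat.mul_div_cancel' hev]
    have := hc 13 (by norm_num) (hmf 13 (by norm_num) h13')
    omega

theorem sz' {F : Type*} [Field F] [Fintype F] {k : ℕ} (hk : 1 ≤ k) (hF : Fintype.card F = 2 ^ (2 * k + 1))
    {S : Type u} [Group S] (e : S ≃* ↥(Cfsg.Sz F k)) (h : E5 q S) : False := by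
  have hP := pow5 h.pow
  have hcard := Cfsg.Agent.S0324.result hk hF
  have hcardS : Nat.card S = Nat.card ↥(Cfsg.Sz F k) := Nat.card_congr e.toEquiv
  have hq5 := hP.le
  -- parameters
  set u := 2 ^ (2 * k + 1) with hu
  set t := 2 ^ (k + 1) with ht
  set s := 2 ^ k with hs
  have htu : t = 2 * s := by rw [ht, hs, pow_succ]; ring
  have hus : u = 2 * s ^ 2 := by rw [hu, hs, pow_succ, mul_comm 2 k, pow_mul]; ring
  have hs2 : 2 ≤ s := by
    calc 2 = 2 ^ 1 := by norm_num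
      _ ≤ 2 ^ k := Nat.pow_le_pow_right (by norm_num) hk
  have hss : 2 * s ≤ s ^ 2 := by nlinarith
  have hu0 : 8 ≤ u := by omega
  have hfin : Finite ↥(Cfsg.Sz F k) := Nat.finite_of_card_ne_zero (by
    rw [hcard]
    have h1 : 0 < u ^ 2 * (u ^ 2 + 1) * (u - 1) :=
      Nat.mul_pos (Nat.mul_pos (by positivity) (by positivity)) (by omega)
    omega)
  have hfinS : Finite S := Finite.of_equiv _ e.symm.toEquiv
  -- cyclic subgroups containing odd elements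
  have key : ∀ x : S, x ≠ 1 → ¬ 2 ∣ orderOf x →
      ∃ T, (T = u - 1 ∨ T = u + t + 1 ∨ T = u - t + 1) ∧ orderOf x ∣ T ∧ ∃ g : S, orderOf g = T := by
    intro x hx1 hx2
    have hx1' : e x ≠ 1 := fun h0 => hx1 (e.injective (h0.trans (map_one e).symm))
    obtain ⟨U, ⟨hU, hxU⟩, -⟩ := Cfsg.Agent.S2238.result hk hF (e x) hx1'
    rcases hU with ⟨P, rfl⟩ | ⟨hc, hN⟩
    · exfalso
      obtain ⟨j, hj⟩ := P.isPGroup' ⟨e x, hxU⟩
      have h3 : (e x) ^ 2 ^ j = 1 := congrArg Subtype.val hj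
      have h4 : orderOf (e x) ∣ 2 ^ j := orderOf_dvd_of_pow_eq_one h3
      rw [e.orderOf_eq] at h4
      obtain ⟨i, -, hi⟩ := (Nat.dvd_prime_pow Nat.prime_two).1 h4
      rcases Nat.eq_zero_or_pos i with h0 | h0
      · rw [h0, pow_zero] at hi
        exact hx1 (orderOf_eq_one_iff.1 hi)
      · exact hx2 (hi ▸ dvd_pow_self 2 h0.ne')
    · refine ⟨Nat.card U, ?_, ?_, ?_⟩
      · rcases hN with h | h | h
        · exact Or.inl h
        · exact Or.inr (Or.inl h)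
        · exact Or.inr (Or.inr h)
      · rw [← e.orderOf_eq x, ← Subgroup.orderOf_mk (e x) hxU]
        exact orderOf_dvd_natCard _
      · obtain ⟨y, hy⟩ := hc.exists_generator
        refine ⟨e.symm y, ?_⟩
        rw [e.symm.orderOf_eq, Subgroup.orderOf_coe]
        exact orderOf_eq_card_of_forall_mem_zpowers hy
  have key2 : ∀ N, 1 < N → Nat.Coprime 2 N → (∃ x : S, orderOf x = N) →
      ∃ T, (T = u - 1 ∨ T = u + t + 1 ∨ T = u - t + 1) ∧ N ∣ T ∧ Ub q T := by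
    rintro N hN hN2 ⟨x, hx⟩
    obtain ⟨T, hT1, hT2, hT3⟩ := key x (by rintro rfl; rw [orderOf_one] at hx; omega)
      (by rw [hx]; exact (Nat.Prime.coprime_iff_not_dvd Nat.prime_two).1 hN2)
    exact ⟨T, hT1, hx ▸ hT2, h.ub' hT3⟩
  -- `(u + t + 1) (u - t + 1) = u² + 1` is divisible by `5`
  have hprod : (u + t + 1) * (u - t + 1) = u ^ 2 + 1 := by
    obtain ⟨w, hw⟩ : ∃ w, u = w + t := ⟨u - t, by omega⟩
    rw [show u - t = w by omega]
    have h5 : (u : ℤ) = w + t := by exact_mod_cast hw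
    have h6 : (t : ℤ) * t = 2 * u := by rw [hus, htu]; push_cast; ring
    have h7 : ((u : ℤ) + t + 1) * (w + 1) = u ^ 2 + 1 := by
      have h8 : (w : ℤ) = u - t := by linarith
      rw [h8]
      linear_combination -h6
    exact_mod_cast h7
  have h5u : 5 ∣ u ^ 2 + 1 := by
    have h6 : u ^ 2 % 5 = 4 := by
      rw [hu, show (2 ^ (2 * k + 1)) ^ 2 = 2 ^ 2 * (2 ^ 4) ^ k by
        rw [← pow_mul, ← pow_mul, ← pow_add]; congr 1; ring, Nat.mul_mod, Nat.pow_mod (2 ^ 4)]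
      norm_num
    omega
  have h5T : 5 ∣ u + t + 1 ∨ 5 ∣ u - t + 1 := by
    rw [← hprod] at h5u
    exact (by norm_num : Nat.Prime 5).dvd_mul.1 h5u
  rcases h.five with ⟨hap, ham, -⟩ | h25
  · obtain ⟨TA, hTA, hA1, hA2⟩ := key2 _ (by have := ap_ge hP; omega) (ap_odd (by omega)) hap
    obtain ⟨TB, hTB, hB1, hB2⟩ := key2 _ (by have := am_ge hP; omega) (am_odd (by omega)) ham
    have hAd := dvd_A' hP hA1 hA2
    have hBd := dvd_B' hP hB1 hB2
    have hA5 : ¬ 5 ∣ TA := fun h6 => hP.not_dvd_A (h6.trans hAd)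
    have hB5 : ¬ 5 ∣ TB := fun h6 => hP.not_dvd_B (h6.trans hBd)
    by_cases hAB : TA = TB
    · exact not_both hP hA1 (hAB ▸ hB1) hA2
    · refine sz_num hP hs2 hAd hBd hA1 hB1 ?_
      rcases hTA with h6 | h6 | h6 <;> rcases hTB with h7 | h7 | h7
      · omega
      · left; omega
      · left; omega
      · right; omega
      · omega
      · exfalso
        rcases h5T with h8 | h8
        · exact hA5 (h6 ▸ h8)
        · exact hB5 (h7 ▸ h8)
      · right; omega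
      · exfalso
        rcases h5T with h8 | h8
        · exact hB5 (h7 ▸ h8)
        · exact hA5 (h6 ▸ h8)
      · omega
  · obtain ⟨T, hT, hT1, hT2⟩ := key2 25 (by norm_num) (by norm_num) h25
    have hT25 := eq_25 hP hT1 hT2
    have hs4 : s = 4 := by
      have h8 : s ≤ 5 := by
        by_contra hlt
        have h9 : 6 * s ≤ s ^ 2 := by nlinarith
        omega
      have h9 : s % 2 = 0 := by
        have : 2 ∣ s := by rw [hs]; exact dvd_pow_self 2 (by omega)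
        omega
      have h10 : s = 2 ∨ s = 4 := by omega
      rcases h10 with h10 | h10
      · exfalso
        rw [h10] at hus htu
        norm_num at hus htu
        omega
      · exact h10
    have hk2 : k = 2 := by
      have h9 : 2 ^ k = 2 ^ 2 := by rw [← hs, hs4]; norm_num
      exact Nat.pow_right_injective le_rfl h9
    have hu32 : u = 32 := by rw [hus, hs4]; norm_num
    refine no_32 h fun r hr hd => ?_
    rw [hcardS, hcard, hu32] at hd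
    have hd' : r ∣ 2 ^ 10 * (5 ^ 2 * 41) * 31 := by
      norm_num at hd ⊢
      exact hd
    rcases hr.dvd_mul.1 hd' with h9 | h9
    · rcases hr.dvd_mul.1 h9 with h10 | h10
      · exact Or.inl ((Nat.prime_dvd_prime_iff_eq hr Nat.prime_two).1 (hr.dvd_of_dvd_pow h10))
      · rcases hr.dvd_mul.1 h10 with h11 | h11
        · exact Or.inr (Or.inl ((Nat.prime_dvd_prime_iff_eq hr (by norm_num)).1 (hr.dvd_of_dvd_pow h11)))
        · exact Or.inr (Or.inr (Or.inr ((Nat.prime_dvd_prime_iff_eq hr (by norm_num)).1 h11)))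
    · exact Or.inr (Or.inr (Or.inl ((Nat.prime_dvd_prime_iff_eq hr (by norm_num)).1 h9)))

/-- **Suzuki groups** -/
theorem suzuki {S : Type*} [Group S] (hS : Cfsg.Lie.IsoSuzuki S) (h : E5 q S) : False := by
  obtain ⟨F, _, _, k, hk, hF, ⟨e⟩⟩ := hS
  obtain ⟨e'⟩ := Cfsg.Agent.OddCyclic.ClaimC.SzIso.iso hk hF
  exact sz' hk hF (e.trans e'.symm) h

/-! ## Ree groups -/

/-- the pair `{v + r + 1, v - r + 1}` -/
theorem ree_num1 {s TA TB : ℕ} (h : Pow5 q) (hs : 3 ≤ s) (hTA : TA ∣ (q ^ 3 - 1) / 2) (hTB : TB ∣ (q ^ 3 + 1) / 2)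
    (h3s : 3 ∣ s) (h1 : ap q ∣ TA) (h2 : am q ∣ TB)
    (hc : (TA = 3 * s ^ 2 + 3 * s + 1 ∧ TB + 3 * s = 3 * s ^ 2 + 1) ∨
      (TB = 3 * s ^ 2 + 3 * s + 1 ∧ TA + 3 * s = 3 * s ^ 2 + 1)) : False := by
  have hA := h.A
  have hB := h.B
  have hA0 := h.A_pos
  have hss : 3 * s ≤ s ^ 2 := by nlinarith
  have hTA1 : 1 < TA := by
    have := Nat.le_of_dvd (Nat.pos_of_dvd_of_pos hTA hA0) h1
    have := ap_ge h
    omega
  have hpar : s ^ 2 % 2 = s % 2 := by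
    rcases Nat.mod_two_eq_zero_or_one s with h0 | h0 <;> rw [Nat.pow_mod, h0]
  have hseven : ∀ T, (T = 3 * s ^ 2 + 3 * s + 1 ∨ T + 3 * s = 3 * s ^ 2 + 1) → ¬ 5 ∣ T → ∀ i, i ∣ T → i = 1 ∨ 7 ≤ i := by
    intro T hT hT5 i hi
    have hT2 : ¬ 2 ∣ T := by omega
    have hT3 : ¬ 3 ∣ T := by omega
    have hT0 : 0 < T := by omega
    have hi0 : 0 < i := Nat.pos_of_dvd_of_pos hi hT0
    by_contra hlt
    have h7 : i ≤ 6 := by omega
    have h8 : i ≠ 1 := by omega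
    have h10 : 2 ∣ i ∨ 3 ∣ i ∨ 5 ∣ i := by
      clear hi hlt
      interval_cases i
      · exact absurd rfl h8
      · exact Or.inl ⟨1, rfl⟩
      · exact Or.inr (Or.inl ⟨1, rfl⟩)
      · exact Or.inl ⟨2, rfl⟩
      · exact Or.inr (Or.inr ⟨1, rfl⟩)
      · exact Or.inl ⟨3, rfl⟩
    rcases h10 with h10 | h10 | h10
    · exact hT2 (h10.trans hi)
    · exact hT3 (h10.trans hi)
    · exact hT5 (h10.trans hi)
  have hA5 : ¬ 5 ∣ TA := fun h6 => h.not_dvd_A (h6.trans hTA)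
  have hB5 : ¬ 5 ∣ TB := fun h6 => h.not_dvd_B (h6.trans hTB)
  have hub : 2 * (TA * TB) ≤ 6 * s * (q ^ 3 + 1) + 2 * (3 * s ^ 2 + 3 * s + 1) := by
    have hq3 : 2 * ((q ^ 3 + 1) / 2) = q ^ 3 + 1 := by omega
    have hDB2 : 2 * (6 * s * ((q ^ 3 + 1) / 2)) = 6 * s * (q ^ 3 + 1) := by
      calc 2 * (6 * s * ((q ^ 3 + 1) / 2)) = 6 * s * (2 * ((q ^ 3 + 1) / 2)) := by ring
        _ = 6 * s * (q ^ 3 + 1) := by rw [hq3]
    have hDA : 6 * s * ((q ^ 3 - 1) / 2) ≤ 6 * s * ((q ^ 3 + 1) / 2) := Nat.mul_le_mul_left _ (by omega)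
    rcases hc with ⟨h3, h4⟩ | ⟨h3, h4⟩
    · have h5 := size_down (D := 6 * s) hB hTA hTB (by omega)
      omega
    · rcases size_up (D := 6 * s) hB hTA hTA1 hTB (by omega) with h5 | h5
      · omega
      · omega
  rcases seven_cases h (hseven TA (by omega) hA5) (hseven TB (by omega) hB5) h1 h2 with ⟨h3, h4⟩ | h3
  · have h5 := gap h (D := 6 * s) (by omega) (by omega)
    have h7 := h.le
    have h8 := Nat.le_of_dvd (by positivity) (ap_dvd (q := q) (by omega))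
    have h9 := Nat.le_of_dvd (by positivity) (am_dvd (q := q) (by omega))
    rcases h.cases with rfl | h10
    · rw [show ap 5 = 31 by decide] at h3
      rw [show am 5 = 7 by decide] at h4
      omega
    · have h11 : 25 * q ≤ q ^ 2 := by nlinarith
      have h12 : 5 * q ≤ 2 * s := by omega
      have h13 : 25 * q ^ 2 ≤ 4 * s ^ 2 := by
        calc 25 * q ^ 2 = (5 * q) ^ 2 := by ring
          _ ≤ (2 * s) ^ 2 := Nat.pow_le_pow_left h12 2
          _ = 4 * s ^ 2 := by ring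
      omega
  · refine ree_big1 (s := s) h h3 hub ?_
    rcases hc with ⟨h5, h6⟩ | ⟨h5, h6⟩
    · zify at h5 h6 ⊢
      have h8 : (TB : ℤ) = 3 * s ^ 2 + 1 - 3 * s := by linarith
      rw [h5, h8]
      nlinarith
    · zify at h5 h6 ⊢
      have h8 : (TA : ℤ) = 3 * s ^ 2 + 1 - 3 * s := by linarith
      rw [h5, h8]
      nlinarith

/-- the size lemma for `T_B = 2 T_A ± D` -/
theorem size_two {A B TA TB D : ℕ} (hB : B = A + 1) (hA : TA ∣ A) (hTB : TB ∣ B) (hD1 : 2 ≤ D)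
    (hD : TB = 2 * TA + D ∨ 2 * TA = TB + D) : TA * TB ≤ TB + D * B := by
  obtain ⟨i, hi⟩ := hA
  obtain ⟨j, hj⟩ := hTB
  have hj0 : 0 < j := Nat.pos_of_ne_zero (by rintro rfl; simp at hj; omega)
  rcases hD with hD | hD
  · have h1 : TA * (2 * j) + D * j = TA * i + 1 := by
      rw [← hi, ← hB, hj, hD]; ring
    have hDj : 2 ≤ D * j := by
      calc 2 ≤ D * 1 := by omega
        _ ≤ D * j := Nat.mul_le_mul_left _ hj0
    have h3 : 2 * j < i := by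
      by_contra hlt
      have h4 : TA * i ≤ TA * (2 * j) := Nat.mul_le_mul_left _ (by omega)
      omega
    obtain ⟨k, rfl⟩ := Nat.exists_eq_add_of_lt h3
    have h4 : TA ≤ D * j := by
      have h5 : TA * (2 * j + k + 1) = TA * (2 * j) + TA * k + TA := by ring
      omega
    calc TA * TB ≤ D * j * TB := Nat.mul_le_mul_right _ h4
      _ = D * B := by rw [hj]; ring
      _ ≤ TB + D * B := Nat.le_add_left _ _
  · have h1 : TA * (2 * j) = TA * i + 1 + D * j := by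
      have h2 : TA * (2 * j) = (2 * TA) * j := by ring
      rw [h2, hD, Nat.add_mul, ← hj, hB, hi]
    have h3 : i < 2 * j := by
      by_contra hlt
      have h4 : TA * (2 * j) ≤ TA * i := Nat.mul_le_mul_left _ (by omega)
      omega
    obtain ⟨k, hk⟩ := Nat.exists_eq_add_of_lt h3
    have h4 : TA ≤ 1 + D * j := by
      have h5 : TA * (2 * j) = TA * i + TA * k + TA := by rw [hk]; ring
      omega
    calc TA * TB ≤ (1 + D * j) * TB := Nat.mul_le_mul_right _ h4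
      _ = TB + D * (TB * j) := by ring
      _ = TB + D * B := by rw [← hj]

/-- the pairs `{(v + 1) / 2, v + 1 ± r}` -/
theorem ree_num2 {s TA TB : ℕ} (h : Pow5 q) (hs : 3 ≤ s) (hs2 : s % 2 = 1) (hTA : TA ∣ (q ^ 3 - 1) / 2)
    (hTB : TB ∣ (q ^ 3 + 1) / 2) (h1 : ap q ∣ TA) (h2 : am q ∣ TB) (hc : 2 * TA = 3 * s ^ 2 + 1)
    (hc2 : TB = 3 * s ^ 2 + 3 * s + 1 ∨ TB + 3 * s = 3 * s ^ 2 + 1) : False := by
  have hA := h.A
  have hB := h.B
  have hss : 3 * s ≤ s ^ 2 := by nlinarith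
  have hs8 : s ^ 2 % 8 = 1 := by
    have : s % 8 = 1 ∨ s % 8 = 3 ∨ s % 8 = 5 ∨ s % 8 = 7 := by omega
    rcases this with h0 | h0 | h0 | h0 <;> rw [Nat.pow_mod, h0]
  have hub : 2 * (TA * TB) ≤ 3 * s * (q ^ 3 + 1) + 2 * (3 * s ^ 2 + 3 * s + 1) := by
    have hq3 : 2 * ((q ^ 3 + 1) / 2) = q ^ 3 + 1 := by omega
    have hDB2 : 2 * (3 * s * ((q ^ 3 + 1) / 2)) = 3 * s * (q ^ 3 + 1) := by
      calc 2 * (3 * s * ((q ^ 3 + 1) / 2)) = 3 * s * (2 * ((q ^ 3 + 1) / 2)) := by ring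
        _ = 3 * s * (q ^ 3 + 1) := by rw [hq3]
    have h5 := size_two (D := 3 * s) hB hTA hTB (by omega) (by omega)
    omega
  rcases even_cases h (TA := TA) (TB := TB) (by omega) (by omega) (by omega) h1 h2 with ⟨h3, h4⟩ | h3
  · rcases ap_am_cases h with ⟨h5, h6⟩ | ⟨h25, h5, h6⟩
    · omega
    · have h7 : (3 * s) ^ 2 = (2 * q + 1) ^ 2 := by
        have h8 : (3 * s) ^ 2 = 9 * s ^ 2 := by ring
        have h9 : (2 * q + 1) ^ 2 = 4 * q ^ 2 + 4 * q + 1 := by ring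
        omega
      have h8 : 3 * s = 2 * q + 1 := Nat.pow_left_injective (by norm_num : 2 ≠ 0) h7
      have h9 : 25 * q ≤ q ^ 2 := by nlinarith
      omega
  · refine ree_big2 (s := s) h h3 hub ?_
    rcases hc2 with h6 | h6
    · zify at hc h6 ⊢
      have h7 : (2 : ℤ) * (TA * TB) = (3 * s ^ 2 + 1) * (3 * s ^ 2 + 3 * s + 1) := by
        rw [show (2 : ℤ) * (TA * TB) = (2 * TA) * TB by ring, hc, h6]
      rw [h7]
      nlinarith [pow_pos (show (0 : ℤ) < s by exact_mod_cast (show 0 < s by omega)) 3]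
    · zify at hc h6 ⊢
      have h8 : (TB : ℤ) = 3 * s ^ 2 + 1 - 3 * s := by linarith
      have h7 : (2 : ℤ) * (TA * TB) = (3 * s ^ 2 + 1) * (3 * s ^ 2 + 1 - 3 * s) := by
        rw [show (2 : ℤ) * (TA * TB) = (2 * TA) * TB by ring, hc, h8]
      rw [h7]
      nlinarith

/-- the pairs `{v - 1, v + 1 ± r}` -/
theorem ree_num3 {s TA TB : ℕ} (h : Pow5 q) (hs : 3 ≤ s) (hs2 : s % 2 = 1) (hTA : TA ∣ (q ^ 3 - 1) / 2)
    (hTB : TB ∣ (q ^ 3 + 1) / 2) (h1 : ap q ∣ TA) (h2 : am q ∣ TB) (hc : TA + 1 = 3 * s ^ 2)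
    (hc2 : TB = 3 * s ^ 2 + 3 * s + 1 ∨ TB + 3 * s = 3 * s ^ 2 + 1) : False := by
  have hA := h.A
  have hB := h.B
  have hss : 3 * s ≤ s ^ 2 := by nlinarith
  have hs8 : s ^ 2 % 8 = 1 := by
    have : s % 8 = 1 ∨ s % 8 = 3 ∨ s % 8 = 5 ∨ s % 8 = 7 := by omega
    rcases this with h0 | h0 | h0 | h0 <;> rw [Nat.pow_mod, h0]
  have hub : 2 * (TA * TB) ≤ (3 * s + 2) * (q ^ 3 + 1) + 2 * (3 * s ^ 2) := by
    have hq3 : 2 * ((q ^ 3 + 1) / 2) = q ^ 3 + 1 := by omega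
    have hDB2 : ∀ D, 2 * (D * ((q ^ 3 + 1) / 2)) = D * (q ^ 3 + 1) := by
      intro D
      calc 2 * (D * ((q ^ 3 + 1) / 2)) = D * (2 * ((q ^ 3 + 1) / 2)) := by ring
        _ = D * (q ^ 3 + 1) := by rw [hq3]
    have hDA : (3 * s - 2) * ((q ^ 3 - 1) / 2) ≤ (3 * s - 2) * ((q ^ 3 + 1) / 2) := Nat.mul_le_mul_left _ (by omega)
    have hDD : (3 * s - 2) * (q ^ 3 + 1) ≤ (3 * s + 2) * (q ^ 3 + 1) := Nat.mul_le_mul_right _ (by omega)
    have e1 := hDB2 (3 * s + 2)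
    have e2 := hDB2 (3 * s - 2)
    rcases hc2 with h4 | h4
    · rcases size_up (D := 3 * s + 2) hB hTA (by omega) hTB (by omega) with h5 | h5
      · omega
      · omega
    · have h5 := size_down (D := 3 * s - 2) hB hTA hTB (by omega)
      omega
  rcases even_cases h (TA := TA) (TB := TB) (by omega) (by omega) (by omega) h1 h2 with ⟨h3, h4⟩ | h3
  · rcases ap_am_cases h with ⟨h5, h6⟩ | ⟨h25, h5, h6⟩
    · omega
    · have h9 : 25 * q ≤ q ^ 2 := by nlinarith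
      have h10 : 19 * q ≤ 9 * s := by omega
      have h11 : 361 * q ^ 2 ≤ 81 * s ^ 2 := by
        calc 361 * q ^ 2 = (19 * q) ^ 2 := by ring
          _ ≤ (9 * s) ^ 2 := Nat.pow_le_pow_left h10 2
          _ = 81 * s ^ 2 := by ring
      omega
  · refine ree_big3 (s := s) h hs h3 hub ?_
    rcases hc2 with h6 | h6
    · zify at hc h6 ⊢
      have h8 : (TA : ℤ) = 3 * s ^ 2 - 1 := by linarith
      rw [h6, h8]
      nlinarith [pow_pos (show (0 : ℤ) < s by exact_mod_cast (show 0 < s by omega)) 3]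
    · zify at hc h6 ⊢
      have h8 : (TB : ℤ) = 3 * s ^ 2 + 1 - 3 * s := by linarith
      have h7 : (TA : ℤ) = 3 * s ^ 2 - 1 := by linarith
      rw [h7, h8]
      nlinarith

/-- **Small Ree groups** -/
theorem ree {S : Type*} [Group S] (hS : Cfsg.Lie.IsoRee S) (h : E5 q S) : False := by
  obtain ⟨K, _, _, k, hk, hK, ⟨e⟩⟩ := hS
  have hP := pow5 h.pow
  have hq5 := hP.le
  have hA := hP.A
  have hB := hP.B
  have hE : ∀ d, (∃ x : S, orderOf x = d) ↔ ∃ g : ↥(Cfsg.Lie.twistedG2 K (3 ^ k)), orderOf g = d := fun d =>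
    ⟨fun ⟨x, hx⟩ => ⟨e x, (e.orderOf_eq x).trans hx⟩, fun ⟨g, hg⟩ => ⟨e.symm g, (e.symm.orderOf_eq g).trans hg⟩⟩
  have h1 := fun d => (hE d).trans (Cfsg.Agent.S1159.result hk hK d)
  set v := 3 ^ (2 * k + 1) with hv
  set t := 3 ^ (k + 1) with ht
  set s := 3 ^ k with hs
  have hts : t = 3 * s := by rw [ht, hs, pow_succ]; ring
  have hvs : v = 3 * s ^ 2 := by rw [hv, hs, pow_succ, mul_comm 2 k, pow_mul]; ring
  have hs3 : 3 ≤ s := by
    calc 3 = 3 ^ 1 := by norm_num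
      _ ≤ 3 ^ k := Nat.pow_le_pow_right (by norm_num) hk
  have hs2 : s % 2 = 1 := by rw [hs, Nat.pow_mod]; norm_num
  have h3s : 3 ∣ s := by rw [hs]; exact dvd_pow_self 3 (by omega)
  have hss : 3 * s ≤ s ^ 2 := by nlinarith
  have hs8 : s ^ 2 % 8 = 1 := by
    have : s % 8 = 1 ∨ s % 8 = 3 ∨ s % 8 = 5 ∨ s % 8 = 7 := by omega
    rcases this with h0 | h0 | h0 | h0 <;> rw [Nat.pow_mod, h0]
  have hBodd : (q ^ 3 + 1) / 2 % 2 = 1 := by
    have h4 : q ^ 3 % 4 = 1 := by rw [Nat.pow_mod, hP.mod]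
    omega
  have u1 : Ub q (v - 1) := h.ub' ((h1 _).2 (Or.inr (Or.inr (Or.inl dvd_rfl))))
  have u2 : Ub q ((v + 1) / 2) := h.ub' ((h1 _).2 (Or.inr (Or.inr (Or.inr (Or.inl dvd_rfl)))))
  have u3 : Ub q (v - t + 1) := h.ub' ((h1 _).2 (Or.inr (Or.inr (Or.inr (Or.inr (Or.inl dvd_rfl))))))
  have u4 : Ub q (v + t + 1) := h.ub' ((h1 _).2 (Or.inr (Or.inr (Or.inr (Or.inr (Or.inr dvd_rfl))))))
  have hv5 : v % 5 = 3 ∨ v % 5 = 2 := by
    rw [hv, pow_succ, pow_mul]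
    rcases Nat.even_or_odd k with ⟨i, hi⟩ | ⟨i, hi⟩
    · left
      rw [hi, ← two_mul, pow_mul, Nat.mul_mod, Nat.pow_mod]
      norm_num
    · right
      rw [hi, pow_succ, pow_mul, Nat.mul_mod, Nat.mul_mod ((_ ^ 2) ^ i), Nat.pow_mod ((3 ^ 2) ^ 2)]
      norm_num
  rcases h.five with ⟨hap, ham, -⟩ | h25
  · have hamT : ∃ TB, (TB = 3 * s ^ 2 + 3 * s + 1 ∨ TB + 3 * s = 3 * s ^ 2 + 1) ∧ am q ∣ TB ∧ Ub q TB := by
      rcases (h1 _).1 ham with h2 | h2 | h2 | h2 | h2 | h2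
      · have := Nat.le_of_dvd (by norm_num) h2
        have := am_ge hP
        omega
      · exfalso
        obtain ⟨r, hr, hra⟩ := exists_am hP
        have h7 : r ∣ 3 ^ 2 := hra.trans h2
        exact (am_ne (by omega) hr hra).2.1 ((Nat.prime_dvd_prime_iff_eq hr Nat.prime_three).1
          (hr.dvd_of_dvd_pow h7))
      · exfalso
        obtain ⟨i, hi⟩ := dvd_B' hP h2 u1
        have h3 : (v - 1) % 2 = 0 := by omega
        rw [hi, Nat.mul_mod, h3] at hBodd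
        simp at hBodd
      · exfalso
        obtain ⟨i, hi⟩ := dvd_B' hP h2 u2
        have h3 : ((v + 1) / 2) % 2 = 0 := by omega
        rw [hi, Nat.mul_mod, h3] at hBodd
        simp at hBodd
      · exact ⟨v - t + 1, by omega, h2, u3⟩
      · exact ⟨v + t + 1, by omega, h2, u4⟩
    obtain ⟨TB, hTB, hB1, hB2⟩ := hamT
    have hBd := dvd_B' hP hB1 hB2
    rcases (h1 _).1 hap with h2 | h2 | h2 | h2 | h2 | h2
    · have := Nat.le_of_dvd (by norm_num) h2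
      have := ap_ge hP
      omega
    · have := Nat.le_of_dvd (by norm_num) h2
      have := ap_ge hP
      omega
    · exact ree_num3 hP hs3 hs2 (dvd_A' hP h2 u1) hBd h2 hB1 (by omega) hTB
    · exact ree_num2 hP hs3 hs2 (dvd_A' hP h2 u2) hBd h2 hB1 (by omega) hTB
    · by_cases hAB : v - t + 1 = TB
      · exact not_both hP h2 (hAB ▸ hB1) u3
      · exact ree_num1 hP hs3 (dvd_A' hP h2 u3) hBd h3s h2 hB1 (by omega)
    · by_cases hAB : v + t + 1 = TB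
      · exact not_both hP h2 (hAB ▸ hB1) u4
      · exact ree_num1 hP hs3 (dvd_A' hP h2 u4) hBd h3s h2 hB1 (by omega)
  · have hprod : 5 ∣ (v + t + 1) * (v - t + 1) → False := by
      intro h2
      have h3 : (v + t + 1) * (v - t + 1) + v = v * v + 1 := by
        obtain ⟨w, hw⟩ : ∃ w, v = w + t := ⟨v - t, by omega⟩
        rw [show v - t = w by omega]
        have h5 : (v : ℤ) = w + t := by exact_mod_cast hw
        have h6 : (t : ℤ) * t = 3 * v := by rw [hvs, hts]; push_cast; ring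
        have h7 : ((v : ℤ) + t + 1) * (w + 1) + v = v * v + 1 := by
          have h8 : (w : ℤ) = v - t := by linarith
          rw [h8]
          linear_combination -h6
        exact_mod_cast h7
      obtain ⟨i, hi⟩ := h2
      have h4 : v * v % 5 = 4 := by
        rcases hv5 with h5 | h5 <;> rw [Nat.mul_mod, h5]
      omega
    have h5d : ∀ N, 25 ∣ N → 5 ∣ N := fun N hN => (by norm_num : (5 : ℕ) ∣ 25).trans hN
    rcases (h1 _).1 h25 with h2 | h2 | h2 | h2 | h2 | h2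
    · omega
    · omega
    · have := h5d _ h2
      omega
    · have := h5d _ h2
      omega
    · exact hprod ((h5d _ h2).mul_left _)
    · exact hprod ((h5d _ h2).mul_right _)

end Cfsg.Agent.H60.Six5
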