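import Cfsg.Agent.H370.DP.Def2

/-!
# Solvable subgroups and the solvable sections of the quotients (helper60, task of helper370 for S3624 / S3451)
-/

set_option autoImplicit false

namespace Cfsg.Agent.H60.SolvLift

open Cfsg.Agent.H370.DP

theorem exists_solvable_lift {X Z : Type*} [Group X] [Finite X] [Group Z] (f : X →* Z) (hf : Function.Surjective f)
    (hZ : Group.IsSolvable Z) : ∃ H : Subgroup X, Group.IsSolvable H ∧ H.map f = ⊤ := by
  classical
  obtain ⟨H, hH, hmin⟩ := (wellFounded_lt (α := Subgroup X)).has_min {H : Subgroup X | H.map f = ⊤}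
    ⟨⊤, by
      show (⊤ : Subgroup X).map f = ⊤
      rw [← MonoidHom.range_eq_map]
      exact MonoidHom.range_eq_top.2 hf⟩
  change H.map f = ⊤ at hH
  refine ⟨H, ?_, hH⟩
  have hle : (f.comp H.subtype).ker ≤ frattini H := by
    unfold frattini Order.radical
    refine le_iInf₂ fun M hM => ?_
    by_contra hlt
    have h1 : M < M ⊔ (f.comp H.subtype).ker := lt_of_le_of_ne le_sup_left fun h => hlt (h ▸ le_sup_right)
    have h2 : M ⊔ (f.comp H.subtype).ker = ⊤ := hM.2 _ h1
    have h3 : (M.map H.subtype).map f = ⊤ := by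
      rw [Subgroup.map_map, eq_top_iff]
      intro z _
      obtain ⟨x, hx, rfl⟩ := (hH ▸ Subgroup.mem_top z : z ∈ H.map f)
      have h4 : (⟨x, hx⟩ : H) ∈ M ⊔ (f.comp H.subtype).ker := h2 ▸ Subgroup.mem_top _
      rw [Subgroup.mem_sup_of_normal_right] at h4
      obtain ⟨y, hy, w, hw, h5⟩ := h4
      refine ⟨y, hy, ?_⟩
      have h6 : (f.comp H.subtype) (y * w) = f x := by rw [h5]; rfl
      rw [map_mul, (MonoidHom.mem_ker).1 hw, mul_one] at h6
      exact h6
    refine hmin _ h3 ?_
    refine lt_of_le_of_ne (Subgroup.map_subtype_le M) fun h => hM.1 ?_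
    rw [eq_top_iff]
    intro x _
    have h4 : (x : X) ∈ M.map H.subtype := h.ge x.2
    obtain ⟨y, hy, h5⟩ := h4
    have h6 : y = x := Subtype.ext h5
    exact h6 ▸ hy
  have hfr : Group.IsSolvable (frattini H) := by
    have := frattini_nilpotent (G := H)
    infer_instance
  refine Group.isSolvable_of_ker_le_range (frattini H).subtype (f.comp H.subtype) ?_
  rw [Subgroup.range_subtype]
  exact hle

theorem dd_of_hom {X Z : Type*} [Group X] [Group Z] (g : X →* Z) (hg : Function.Surjective g) (B : Subgroup Z)
    (hB : B.Normal) (hs : Group.IsSolvable B) {r : ℕ} (hr : r ∣ Nat.card B) : DD X r := by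
  set e := QuotientGroup.quotientKerEquivOfSurjective g hg with he
  refine ⟨g.ker, inferInstance, B.comap e.toMonoidHom, hB.comap _, ?_, ?_⟩
  · have h1 : Function.Injective (e.toMonoidHom.subgroupComap B) := by
      intro a b hab
      apply Subtype.ext
      apply e.injective
      exact congrArg Subtype.val hab
    exact Group.isSolvable_of_isSolvable_injective h1
  · have h1 : Nat.card (B.comap e.toMonoidHom) = Nat.card B := by
      refine Nat.card_congr ⟨fun x => ⟨e x.1, x.2⟩, fun y => ⟨e.symm y.1, ?_⟩, fun x => ?_, fun y => ?_⟩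
      · rw [Subgroup.mem_comap]
        show e (e.symm y.1) ∈ B
        rw [MulEquiv.apply_symm_apply]
        exact y.2
      · exact Subtype.ext (e.symm_apply_apply x.1)
      · exact Subtype.ext (e.apply_symm_apply y.1)
    rw [h1]
    exact hr

theorem DD.of_surjective {X Y : Type*} [Group X] [Group Y] (f : X →* Y) (hf : Function.Surjective f) {r : ℕ}
    (h : DD Y r) : DD X r := by
  obtain ⟨A, hA, B, hB, hs, hr⟩ := h
  exact dd_of_hom ((QuotientGroup.mk' A).comp f) ((QuotientGroup.mk'_surjective A).comp hf) B hB hs hr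

/-- the number of elements of a subgroup, its image and its intersection with the kernel -/
theorem card_mul {X Z : Type*} [Group X] [Group Z] (g : X →* Z) (B : Subgroup X) :
    Nat.card B = Nat.card (B.map g) * Nat.card (B ⊓ g.ker : Subgroup X) := by
  have h1 := Subgroup.card_mul_index (g.subgroupMap B).ker
  rw [Subgroup.index_ker, MonoidHom.range_eq_top.2 (g.subgroupMap_surjective B), Subgroup.card_top] at h1
  rw [← h1, mul_comm]
  congr 1
  refine Nat.card_congr ⟨fun x => ⟨x.1.1, x.1.2, ?_⟩, fun y => ⟨⟨y.1, y.2.1⟩, ?_⟩, fun x => rfl, fun y => rfl⟩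
  · have h2 : g.subgroupMap B x.1 = 1 := x.2
    exact congrArg Subtype.val h2
  · show g.subgroupMap B ⟨y.1, y.2.1⟩ = 1
    exact Subtype.ext y.2.2

/-- minimal normal subgroups -/
theorem dd_cases {X : Type*} [Group X] [Finite X] {N : Subgroup X} (hN : N.Normal)
    (hmin : ∀ M : Subgroup X, M.Normal → M ≤ N → M ≠ ⊥ → M = N) {r : ℕ} (hr : r.Prime) (h : DD X r) :
    DD (X ⧸ N) r ∨ (Group.IsSolvable N ∧ r ∣ Nat.card N) := by
  obtain ⟨A, hA, B, hB, hs, hd⟩ := h
  set π := QuotientGroup.mk' A with hπ
  have hπs : Function.Surjective π := QuotientGroup.mk'_surjective A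
  have hNn : (N.map π).Normal := hN.map π hπs
  set ρ := QuotientGroup.mk' (N.map π) with hρ
  have hρs : Function.Surjective ρ := QuotientGroup.mk'_surjective _
  have hc := card_mul ρ B
  rw [QuotientGroup.ker_mk'] at hc
  rw [hc, hr.dvd_mul] at hd
  rcases hd with hd | hd
  · left
    have hle : N ≤ (ρ.comp π).ker := by
      intro x hx
      rw [MonoidHom.mem_ker, MonoidHom.comp_apply, hρ, QuotientGroup.mk'_apply, QuotientGroup.eq_one_iff]
      exact ⟨x, hx, rfl⟩
    refine dd_of_hom (QuotientGroup.lift N (ρ.comp π) hle) ?_ (B.map ρ) (hB.map ρ hρs) ?_ hd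
    · intro z
      obtain ⟨y, rfl⟩ := hρs z
      obtain ⟨x, rfl⟩ := hπs y
      exact ⟨(x : X ⧸ N), rfl⟩
    · exact Group.isSolvable_of_surjective (ρ.subgroupMap_surjective B)
  · right
    have hne : B ⊓ N.map π ≠ ⊥ := by
      intro h
      rw [h, Subgroup.card_bot] at hd
      exact hr.one_lt.ne' (Nat.dvd_one.1 hd)
    obtain ⟨b, hb1⟩ := Subgroup.ne_bot_iff_exists_ne_one.1 hne
    obtain ⟨b, hbB, x, hxN, hxb⟩ := b
    -- `N ≤ π⁻¹ B`
    have h1 : B.comap π ⊓ N = N := by
      refine hmin _ ?_ inf_le_right ?_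
      · have := hB.comap π
        infer_instance
      · intro h
        have h2 : x ∈ B.comap π ⊓ N := ⟨by show π x ∈ B; rw [hxb]; exact hbB, hxN⟩
        rw [h, Subgroup.mem_bot] at h2
        apply hb1
        apply Subtype.ext
        show b = 1
        rw [← hxb, h2, map_one]
    -- `N ∩ A = 1`
    have h2 : N ⊓ A = ⊥ := by
      by_contra hne2
      have h3 : N ⊓ A = N := hmin _ inferInstance inf_le_left hne2
      apply hb1
      apply Subtype.ext
      show b = 1
      rw [← hxb, hπ, QuotientGroup.mk'_apply, QuotientGroup.eq_one_iff]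
      exact (h3.ge hxN).2
    constructor
    · have hinj : Function.Injective ((π.subgroupComap B).comp (Subgroup.inclusion (inf_eq_right.1 h1))) := by
        rw [injective_iff_map_eq_one]
        intro y hy
        have h4 : π y.1 = 1 := congrArg Subtype.val hy
        rw [hπ, QuotientGroup.mk'_apply, QuotientGroup.eq_one_iff] at h4
        have h5 : y.1 ∈ N ⊓ A := ⟨y.2, h4⟩
        rw [h2, Subgroup.mem_bot] at h5
        exact Subtype.ext h5
      exact Group.isSolvable_of_isSolvable_injective hinj
    · have h3 : Nat.card (B ⊓ N.map π : Subgroup (X ⧸ A)) ∣ Nat.card (N.map π) :=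
        Subgroup.card_dvd_of_le inf_le_right
      exact (hd.trans h3).trans (Subgroup.card_map_dvd N π)

theorem exists_aux (n : ℕ) : ∀ (X : Type*) [Group X] [Finite X], Nat.card X = n →
    ∃ H : Subgroup X, Group.IsSolvable H ∧ ∀ r : ℕ, r.Prime → DD X r → r ∣ Nat.card H := by
  induction n using Nat.strong_induction_on with
  | _ n ih =>
    intro X _ _ hX
    by_cases hss : Subsingleton X
    · refine ⟨⊤, inferInstance, fun r hr h => ?_⟩
      obtain ⟨A, hA, B, hB, hs, hd⟩ := h
      exfalso
      have : Subsingleton (X ⧸ A) := inferInstance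
      have : Subsingleton B := inferInstance
      rw [Nat.card_of_subsingleton (1 : B)] at hd
      exact hr.one_lt.ne' (Nat.dvd_one.1 hd)
    · have hnt : Nontrivial X := not_subsingleton_iff_nontrivial.1 hss
      obtain ⟨N, ⟨hN, hN1⟩, hmin⟩ := (wellFounded_lt (α := Subgroup X)).has_min
        {N : Subgroup X | N.Normal ∧ N ≠ ⊥} ⟨⊤, inferInstance, top_ne_bot⟩
      have hmin' : ∀ M : Subgroup X, M.Normal → M ≤ N → M ≠ ⊥ → M = N := by
        intro M hM hMN hM1
        rcases lt_or_eq_of_le hMN with h | h
        · exact absurd h (hmin M ⟨hM, hM1⟩)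
        · exact h
      have hlt : Nat.card (X ⧸ N) < n := by
        have h1 := Subgroup.card_eq_card_quotient_mul_card_subgroup N
        have h2 : 1 < Nat.card N := (Subgroup.one_lt_card_iff_ne_bot N).2 hN1
        have h3 : 0 < Nat.card (X ⧸ N) := Nat.card_pos
        rw [← hX, h1]
        exact lt_mul_of_one_lt_right h3 h2
      obtain ⟨H', hs', hH'⟩ := ih _ hlt (X ⧸ N) rfl
      set P := H'.comap (QuotientGroup.mk' N) with hP
      set f : P →* H' := (QuotientGroup.mk' N).subgroupComap H' with hf
      have hfs : Function.Surjective f := by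
        rintro ⟨y, hy⟩
        obtain ⟨x, rfl⟩ := QuotientGroup.mk'_surjective N y
        exact ⟨⟨x, hy⟩, rfl⟩
      by_cases hNs : Group.IsSolvable N
      · refine ⟨P, ?_, fun r hr h => ?_⟩
        · have hle : N ≤ P := by
            intro x hx
            rw [hP, Subgroup.mem_comap, QuotientGroup.mk'_apply, (QuotientGroup.eq_one_iff x).2 hx]
            exact one_mem _
          refine Group.isSolvable_of_ker_le_range (Subgroup.inclusion hle) f ?_
          intro x hx
          have h1 : QuotientGroup.mk' N x.1 = 1 := congrArg Subtype.val hx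
          rw [QuotientGroup.mk'_apply, QuotientGroup.eq_one_iff] at h1
          exact ⟨⟨x.1, h1⟩, rfl⟩
        · rcases dd_cases hN hmin' hr h with h1 | h1
          · exact (hH' r hr h1).trans (Subgroup.card_dvd_of_surjective f hfs)
          · refine h1.2.trans (Subgroup.card_dvd_of_le ?_)
            intro x hx
            rw [hP, Subgroup.mem_comap, QuotientGroup.mk'_apply, (QuotientGroup.eq_one_iff x).2 hx]
            exact one_mem _
      · obtain ⟨H₁, hs₁, hH₁⟩ := exists_solvable_lift f hfs hs'
        refine ⟨H₁.map P.subtype, ?_, fun r hr h => ?_⟩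
        · exact Group.isSolvable_of_surjective (P.subtype.subgroupMap_surjective H₁)
        · rcases dd_cases hN hmin' hr h with h1 | h1
          · refine (hH' r hr h1).trans ?_
            have h2 : Nat.card (H₁.map P.subtype) = Nat.card H₁ :=
              (Nat.card_congr (H₁.equivMapOfInjective P.subtype P.subtype_injective).toEquiv).symm
            rw [h2]
            have h3 := Subgroup.card_map_dvd H₁ f
            rwa [hH₁, Subgroup.card_top] at h3
          · exact absurd h1.1 hNs

theorem exists_solvable_of_DD (X : Type*) [Group X] [Finite X] :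
    ∃ H : Subgroup X, Group.IsSolvable H ∧ ∀ r : ℕ, r.Prime → DD X r → r ∣ Nat.card H :=
  exists_aux _ X rfl

end Cfsg.Agent.H60.SolvLift
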