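import Cfsg.Agent.H379.P4.Defs
import Cfsg.Agent.H374.SpFour
import Cfsg.Agent.S2475
import Cfsg.Agent.S2238
import Cfsg.Agent.S0324
import Cfsg.Agent.S1159
import Cfsg.Agent.OddCyclic.ClaimC.SzIso

/-!
# S3591, the simple sections: `PSL₂`, `PSp₄`, Suzuki and Ree groups (helper60, task of helper379)
-/

set_option autoImplicit false

namespace Cfsg.Agent.H60.P4Two

open Cfsg.Agent.H379.P4 Cfsg.Agent.H374.Quad

universe u

variable {p q : ℕ}

/-- an element order divisible by `R` is `R` -/
theorem eq_R (hP : Par p q) {S : Type u} [Group S] (h : Hyp p q S) {t : ℕ} (ht : ∃ x : S, orderOf x = t)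
    (hd : R q ∣ t) : t = R q := by
  obtain ⟨r, hr, hrR⟩ := Nat.exists_prime_and_dvd (n := R q) (by have := hP.R_big; omega)
  obtain ⟨x, hx⟩ := ht
  refine Nat.dvd_antisymm ?_ hd
  rw [← hx]
  exact hP.om_coprime (h.om x) ⟨r, hr, hrR, hrR.trans (hx ▸ hd)⟩

/-- `R - 2` is not an element order, `q` odd -/
theorem not_sub_two (hP : Par p q) (hp : p ≠ 2) (hL : Lam p q (R q - 2)) : False := by
  have hb := hP.R_big
  have hodd := hP.R_odd
  have hps := hP.ps_le
  have hq := hP.big
  rcases hP.R_eq with ⟨-, -, h1, h2⟩ | ⟨h0, -⟩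
  · have hc : Nat.Coprime (R q - 2) (E q) := by
      have h3 : E q = (R q - 2) + 1 := by omega
      rw [h3]
      exact (Nat.coprime_self_add_right).2 (Nat.coprime_one_right _)
    have h3 : R q - 2 ∣ ps p := hc.dvd_of_dvd_mul_right hL
    have hpp : 0 < ps p := by
      unfold ps
      have := hP.prime.pos
      split_ifs <;> omega
    have h4 := Nat.le_of_dvd hpp h3
    have h5 : q * q ≤ 2 * q + 3 := by omega
    nlinarith
  · exact hp h0

/-- `R - 1` is not an element order, `q` even -/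
theorem not_sub_one (hP : Par p q) (hp : p = 2) (hL : Lam p q (R q - 1)) : False := by
  have hb := hP.R_big
  have hodd := hP.R_odd
  rcases hP.R_eq with ⟨h0, -⟩ | ⟨-, -, h1, h2⟩
  · exact h0 hp
  · have hc : Nat.Coprime (R q - 1) (E q) := by
      have h3 : R q - 1 = E q + 1 := by omega
      rw [h3]
      exact (Nat.coprime_self_add_left).2 (Nat.coprime_one_left _)
    have h3 : R q - 1 ∣ ps p := hc.dvd_of_dvd_mul_right hL
    subst hp
    have h4 := Nat.le_of_dvd (by decide) h3
    have h5 : ps 2 = 4 := by decide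
    omega

/-- `R + 1` is not an element order -/
theorem not_add_one (hP : Par p q) (hL : Lam p q (R q + 1)) : False := by
  have hb := hP.R_big
  have hps := hP.ps_le
  have hq := hP.big
  have hpp : 0 < ps p := by
    unfold ps
    have := hP.prime.pos
    split_ifs <;> omega
  rcases hP.R_eq with ⟨-, -, h1, h2⟩ | ⟨h0, -, h1, h2⟩
  · -- `R + 1 ∣ 2 ps`
    have h3 : R q + 1 ∣ 2 * ps p := by
      have h4 : ps p * (R q + 1) = ps p * E q + 2 * ps p := by
        rw [show R q + 1 = E q + 2 by omega]; ring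
      have h5 : R q + 1 ∣ ps p * (R q + 1) := Dvd.intro_left _ rfl
      rw [h4] at h5
      exact (Nat.dvd_add_right hL).1 h5
    have h4 := Nat.le_of_dvd (by omega) h3
    have h5 : q * q + 3 ≤ 4 * q := by omega
    nlinarith
  · have h3 : R q + 1 ∣ 3 * ps p := by
      have h4 : ps p * (R q + 1) = ps p * E q + 3 * ps p := by
        rw [show R q + 1 = E q + 3 by omega]; ring
      have h5 : R q + 1 ∣ ps p * (R q + 1) := Dvd.intro_left _ rfl
      rw [h4] at h5
      exact (Nat.dvd_add_right hL).1 h5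
    subst h0
    have h4 := Nat.le_of_dvd (by decide) h3
    have h5 : ps 2 = 4 := by decide
    omega

/-- `(R + 1) / 2` is not an element order, `R` prime -/
theorem not_half (hP : Par p q) (hR : (R q).Prime) {m : ℕ} (hm : 2 * m = R q + 1) (hL : Lam p q m) : False := by
  have hb := hP.R_big
  have hps := hP.ps_le
  have hq := hP.big
  have hmod := hP.R_mod_four
  have hpp : 0 < ps p := by
    unfold ps
    have := hP.prime.pos
    split_ifs <;> omega
  have hL2 : R q + 1 ∣ 2 * (ps p * E q) := by rw [← hm]; exact Nat.mul_dvd_mul_left 2 hL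
  rcases hP.R_eq with ⟨-, h0, h1, h2⟩ | ⟨h0, -, h1, h2⟩
  · have h3 : R q + 1 ∣ 4 * ps p := by
      have h4 : (2 * ps p) * (R q + 1) = 2 * (ps p * E q) + 4 * ps p := by
        rw [show R q + 1 = E q + 2 by omega]; ring
      have h5 : R q + 1 ∣ (2 * ps p) * (R q + 1) := Dvd.intro_left _ rfl
      rw [h4] at h5
      exact (Nat.dvd_add_right hL2).1 h5
    have h4 := Nat.le_of_dvd (by omega) h3
    have h5 : q * q + 3 ≤ 8 * q := by omega
    have h6 : q ≤ 7 := by nlinarith
    have h7 := hP.ne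
    have h8 : q = 7 := by omega
    subst h8
    have h9 : R 7 = 25 := by omega
    rw [h9] at hR
    norm_num at hR
  · have h3 : R q + 1 ∣ 6 * ps p := by
      have h4 : (2 * ps p) * (R q + 1) = 2 * (ps p * E q) + 6 * ps p := by
        rw [show R q + 1 = E q + 3 by omega]; ring
      have h5 : R q + 1 ∣ (2 * ps p) * (R q + 1) := Dvd.intro_left _ rfl
      rw [h4] at h5
      exact (Nat.dvd_add_right hL2).1 h5
    subst h0
    have h5 : ps 2 = 4 := by decide
    rw [h5] at h3
    have h4 := Nat.le_of_dvd (by norm_num) h3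
    have h6 : R q = 17 ∨ R q = 21 := by omega
    rcases h6 with h6 | h6 <;> rw [h6] at h3 <;> norm_num at h3

/-- **`PSL₂`** -/
theorem psl_two (hP : Par p q) {F : Type*} [Field F] [Fintype F] (h4 : 4 ≤ Fintype.card F)
    (h : Hyp p q (Matrix.ProjectiveSpecialLinearGroup (Fin 2) F)) : Fintype.card F = q ^ 2 := by
  obtain ⟨l, hc⟩ := CharP.exists F
  obtain ⟨k, hp, hcard⟩ := FiniteField.card F l
  have := Fact.mk hp
  have hspec := Cfsg.Agent.S2475.result (F := F) l h4
  have hbig := hP.R_big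
  have hodd := hP.R_odd
  have hmod := hP.R_mod_four
  have hk : 0 < (k : ℕ) := k.pos
  set c := Fintype.card F with hcdef
  have key : ∀ m : ℕ, (m ∣ l ∨ m ∣ (c - 1) / Nat.gcd 2 (c - 1) ∨ m ∣ (c + 1) / Nat.gcd 2 (c - 1)) →
      ∃ x : Matrix.ProjectiveSpecialLinearGroup (Fin 2) F, orderOf x = m := by
    intro m hm
    have h6 : m ∈ Set.range (orderOf : Matrix.ProjectiveSpecialLinearGroup (Fin 2) F → ℕ) := by
      rw [hspec]; exact hm
    exact h6
  have hex : R q ∣ l ∨ R q ∣ (c - 1) / Nat.gcd 2 (c - 1) ∨ R q ∣ (c + 1) / Nat.gcd 2 (c - 1) := by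
    have h6 : R q ∈ Set.range (orderOf : Matrix.ProjectiveSpecialLinearGroup (Fin 2) F → ℕ) := h.ex
    rw [hspec] at h6
    exact h6
  rcases Nat.even_or_odd c with he | ho
  · have hg : Nat.gcd 2 (c - 1) = 1 := by
      have : Nat.Coprime 2 (c - 1) := by
        rw [Nat.coprime_two_left, Nat.odd_iff]
        rw [Nat.even_iff] at he
        omega
      exact this
    have hl2 : l = 2 := by
      rw [hcard] at he
      have h6 : 2 ∣ l := Nat.prime_two.dvd_of_dvd_pow (even_iff_two_dvd.1 he)
      exact ((Nat.prime_dvd_prime_iff_eq Nat.prime_two hp).1 h6).symm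
    rw [hg, Nat.div_one, Nat.div_one] at hex
    rw [hg, Nat.div_one, Nat.div_one] at key
    have hc4 : c % 4 = 0 := by
      have h2 : 2 ≤ (k : ℕ) := by
        by_contra hlt
        have : (k : ℕ) = 1 := by omega
        rw [hcard, this, hl2] at h4
        norm_num at h4
      obtain ⟨j, hj⟩ := Nat.exists_eq_add_of_le h2
      rw [hcard, hl2, hj, pow_add]
      omega
    rcases hex with h6 | h6 | h6
    · exfalso
      rw [hl2] at h6
      have := Nat.le_of_dvd (by norm_num) h6
      omega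
    · exfalso
      have := eq_R hP h (key _ (Or.inr (Or.inl dvd_rfl))) h6
      omega
    · have h7 := eq_R hP h (key _ (Or.inr (Or.inr dvd_rfl))) h6
      rcases hP.R_eq with ⟨h0, -, h1, h2⟩ | ⟨h0, -, h1, h2⟩
      · exfalso
        refine not_sub_two hP h0 (h.lam hP (key (R q - 2) (Or.inr (Or.inl (by
          rw [show c - 1 = R q - 2 by omega])))) (Or.inl ?_))
        have h8 : Nat.Coprime (R q) (R q - 2) := by
          have h9 : Nat.Coprime ((R q - 2) + 2) (R q - 2) := by
            rw [Nat.coprime_self_add_left, Nat.coprime_two_left, Nat.odd_iff]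
            omega
          rwa [show R q - 2 + 2 = R q by omega] at h9
        exact h8
      · rw [pow_two]; omega
  · have hg : Nat.gcd 2 (c - 1) = 2 := by
      apply Nat.gcd_eq_left
      obtain ⟨j, hj⟩ := ho
      omega
    rw [Nat.odd_iff] at ho
    rw [hg] at hex key
    rcases hex with h6 | h6 | h6
    · exfalso
      have h7 : R q = l := by
        rcases (Nat.dvd_prime hp).1 h6 with h8 | h8
        · omega
        · exact h8
      rcases Nat.lt_or_ge (k : ℕ) 2 with h8 | h8
      · have hk1 : (k : ℕ) = 1 := by omega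
        have hcR : c = R q := by rw [hcard, hk1, pow_one, h7]
        refine not_half hP (h7 ▸ hp) (m := (c + 1) / 2) (by omega) (h.lam hP (key _ (Or.inr (Or.inr dvd_rfl)))
          (Or.inl ?_))
        rw [Nat.Prime.coprime_iff_not_dvd (h7 ▸ hp)]
        intro h9
        have := Nat.le_of_dvd (by omega) h9
        omega
      · have hcR : R q ^ 2 ≤ c := by
          rw [hcard, ← h7]
          exact Nat.pow_le_pow_right (by omega) h8
        have h9 : Lam p q ((c + 1) / 2) := by
          refine h.lam hP (key _ (Or.inr (Or.inr dvd_rfl))) (Or.inl ?_)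
          rw [Nat.Prime.coprime_iff_not_dvd (h7 ▸ hp)]
          intro h9
          have h10 : R q ∣ c + 1 := by
            have : (c + 1) = 2 * ((c + 1) / 2) := by omega
            rw [this]; exact h9.mul_left 2
          have h11 : R q ∣ c := by rw [hcard, h7]; exact dvd_pow_self l (by omega)
          have h12 := (Nat.dvd_add_right h11).1 h10
          have := Nat.le_of_dvd one_pos h12
          omega
        have h10 := hP.size h9
        have h11 : R q ^ 2 + 1 ≤ 2 * ((c + 1) / 2) := by omega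
        have h12 : (R q ^ 2 + 1) ^ 2 < 8 * R q ^ 3 := by
          calc (R q ^ 2 + 1) ^ 2 ≤ (2 * ((c + 1) / 2)) ^ 2 := Nat.pow_le_pow_left h11 2
            _ = 4 * ((c + 1) / 2) ^ 2 := by ring
            _ < 8 * R q ^ 3 := by omega
        have h13 : 17 * R q ^ 3 ≤ R q * R q ^ 3 := Nat.mul_le_mul_right _ hbig
        nlinarith
    · exfalso
      have h7 := eq_R hP h (key _ (Or.inr (Or.inl dvd_rfl))) h6
      refine not_add_one hP (h.lam hP (key _ (Or.inr (Or.inr (by
        rw [show (c + 1) / 2 = R q + 1 by omega])))) (Or.inl ?_))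
      exact (Nat.coprime_self_add_right).2 (Nat.coprime_one_right _)
    · have h7 := eq_R hP h (key _ (Or.inr (Or.inr dvd_rfl))) h6
      rcases hP.R_eq with ⟨h0, -, h1, h2⟩ | ⟨h0, -, h1, h2⟩
      · rw [pow_two]; omega
      · exfalso
        refine not_sub_one hP h0 (h.lam hP (key (R q - 1) (Or.inr (Or.inl (by
          rw [show (c - 1) / 2 = R q - 1 by omega])))) (Or.inl ?_))
        have h9 : Nat.Coprime ((R q - 1) + 1) (R q - 1) :=
          (Nat.coprime_self_add_left).2 (Nat.coprime_one_left _)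
        rwa [show R q - 1 + 1 = R q by omega] at h9

theorem sq_inj {a b : ℕ} (h : a * a = b * b) : a = b := by
  rcases Nat.lt_trichotomy a b with h1 | h1 | h1
  · exact absurd h (Nat.mul_self_lt_mul_self h1).ne
  · exact h1
  · exact absurd h (Nat.mul_self_lt_mul_self h1).ne'

/-- **`PSp₄`** -/
theorem psp_two (hP : Par p q) {F : Type*} [Field F] [Fintype F] (h3 : 3 ≤ Fintype.card F)
    (h : Hyp p q (Cfsg.PSp 2 F)) : Fintype.card F = q := by
  obtain ⟨k, hp, hcard⟩ := FiniteField.card F (ringChar F)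
  have hrange := Cfsg.Agent.H374.SpFour.mem_range_iff (F := F) h3
  have hbig := hP.R_big
  have hodd := hP.R_odd
  have hmod := hP.R_mod_four
  have hex : Om (ringChar F) (Fintype.card F) (R q) := (hrange _).1 h.ex
  have key : ∀ m : ℕ, Om (ringChar F) (Fintype.card F) m → ∃ x : Cfsg.PSp 2 F, orderOf x = m :=
    fun m hm => (hrange m).2 hm
  generalize ringChar F = l at *
  set c := Fintype.card F with hc
  have hk : 0 < (k : ℕ) := k.pos
  have hle : l ∣ c := by rw [hcard]; exact dvd_pow_self l hk.ne'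
  have hcop2 : Nat.Coprime (R q) (R q - 2) := by
    have h9 : Nat.Coprime ((R q - 2) + 2) (R q - 2) := by
      rw [Nat.coprime_self_add_left, Nat.coprime_two_left, Nat.odd_iff]
      omega
    rwa [show R q - 2 + 2 = R q by omega] at h9
  have hcop1 : Nat.Coprime (R q) (R q - 1) := by
    have h9 : Nat.Coprime ((R q - 1) + 1) (R q - 1) :=
      (Nat.coprime_self_add_left).2 (Nat.coprime_one_left _)
    rwa [show R q - 1 + 1 = R q by omega] at h9
  have hcc : c ≤ c * c := Nat.le_mul_self c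
  rcases hex with h6 | h6 | h6 | h6 | h6 | h6
  · exfalso
    have h7 := eq_R hP h (key _ (Or.inl dvd_rfl)) h6
    rcases Nat.even_or_odd c with he | ho
    · have hl2 : l = 2 := by
        rw [hcard] at he
        have h8 : 2 ∣ l := Nat.prime_two.dvd_of_dvd_pow (even_iff_two_dvd.1 he)
        exact ((Nat.prime_dvd_prime_iff_eq Nat.prime_two hp).1 h8).symm
      rw [hl2] at h7
      omega
    · rw [Nat.odd_iff] at ho
      have h8 : 2 ∣ l * (c - 1) := Dvd.dvd.mul_left (by omega) _
      omega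
  · exfalso
    have h7 := eq_R hP h (key _ (Or.inr (Or.inl dvd_rfl))) h6
    rcases Nat.even_or_odd c with he | ho
    · have hl2 : l = 2 := by
        rw [hcard] at he
        have h8 : 2 ∣ l := Nat.prime_two.dvd_of_dvd_pow (even_iff_two_dvd.1 he)
        exact ((Nat.prime_dvd_prime_iff_eq Nat.prime_two hp).1 h8).symm
      rw [hl2] at h7
      omega
    · rw [Nat.odd_iff] at ho
      have h8 : 2 ∣ l * (c + 1) := Dvd.dvd.mul_left (by omega) _
      omega
  · exfalso
    have h7 := eq_R hP h (key _ (Or.inr (Or.inr (Or.inl dvd_rfl)))) h6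
    rcases Nat.even_or_odd c with he | ho
    · have hg : Nat.gcd 2 (c - 1) = 1 := Cfsg.Agent.H374.Quad.gcd_of_even he (by omega)
      rw [hg, Nat.div_one, pow_two] at h7
      rw [Nat.even_iff] at he
      have h8 : c * c % 4 = 0 := by
        have : c % 4 = 0 ∨ c % 4 = 2 := by omega
        rcases this with h2 | h2 <;> rw [Nat.mul_mod, h2]
      omega
    · have hg : Nat.gcd 2 (c - 1) = 2 := Cfsg.Agent.H374.Quad.gcd_of_odd ho
      rw [hg, pow_two] at h7
      rw [Nat.odd_iff] at ho
      have h8 : c * c % 4 = 1 := by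
        have : c % 4 = 1 ∨ c % 4 = 3 := by omega
        rcases this with h2 | h2 <;> rw [Nat.mul_mod, h2]
      omega
  · have h7 := eq_R hP h (key _ (Or.inr (Or.inr (Or.inr (Or.inl dvd_rfl))))) h6
    rcases Nat.even_or_odd c with he | ho
    · have hg : Nat.gcd 2 (c - 1) = 1 := Cfsg.Agent.H374.Quad.gcd_of_even he (by omega)
      rw [hg, Nat.div_one, pow_two] at h7
      rcases hP.R_eq with ⟨h0, -, h1, h2⟩ | ⟨h0, -, h1, h2⟩
      · exfalso
        refine not_sub_two hP h0 (h.lam hP (key (R q - 2) (Or.inr (Or.inr (Or.inl (by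
          rw [hg, Nat.div_one, pow_two, show c * c - 1 = R q - 2 by omega]))))) (Or.inl hcop2))
      · exact sq_inj (by omega)
    · have hg : Nat.gcd 2 (c - 1) = 2 := Cfsg.Agent.H374.Quad.gcd_of_odd ho
      rw [hg, pow_two] at h7
      rw [Nat.odd_iff] at ho
      have h8 : c * c % 4 = 1 := by
        have : c % 4 = 1 ∨ c % 4 = 3 := by omega
        rcases this with h2 | h2 <;> rw [Nat.mul_mod, h2]
      rcases hP.R_eq with ⟨h0, -, h1, h2⟩ | ⟨h0, -, h1, h2⟩
      · exact sq_inj (by omega)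
      · exfalso
        refine not_sub_one hP h0 (h.lam hP (key (R q - 1) (Or.inr (Or.inr (Or.inl (by
          rw [hg, pow_two, show (c * c - 1) / 2 = R q - 1 by omega]))))) (Or.inl hcop1))
  · exfalso
    have := Nat.le_of_dvd (by norm_num) h6.2
    omega
  · exfalso
    have := Nat.le_of_dvd (by norm_num) h6.2
    omega

/-- `a ∣ r * b`-type reductions: the numbers of the Suzuki and Ree groups -/
theorem lam_odd_bound {p q : ℕ} (hP : Par p q) (hp : p ≠ 2) {N : ℕ} (hL : Lam p q N) : N ∣ ps p * (R q - 1) := by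
  rcases hP.R_eq with ⟨-, -, -, h2⟩ | ⟨h0, -⟩
  · have : R q - 1 = E q := by omega
    rw [this]; exact hL
  · exact absurd h0 hp

theorem lam_even_bound {p q : ℕ} (hP : Par p q) (hp : p = 2) {N : ℕ} (hL : Lam p q N) : N ∣ 4 * (R q - 2) := by
  rcases hP.R_eq with ⟨h0, -⟩ | ⟨-, -, -, h2⟩
  · exact absurd hp h0
  · have h1 : R q - 2 = E q := by omega
    have h3 : ps p = 4 := by rw [hp]; decide
    rw [h1, ← h3]; exact hL

theorem num_a {N c s : ℕ} (w : ℕ) (h : N ∣ s * c) (d : ℕ) (hd : c * d + w = N * N) (hN : 0 < N) : N ∣ s * w := by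
  have _ := hN
  have h1 : N ∣ s * c * d := h.mul_right d
  have h2 : N ∣ s * c * d + s * w := by
    have : s * c * d + s * w = s * N * N := by
      calc s * c * d + s * w = s * (c * d + w) := by ring
        _ = s * N * N := by rw [hd]; ring
    rw [this]
    exact Dvd.intro_left _ rfl
  exact (Nat.dvd_add_right h1).1 h2

/-- the arithmetic for the Suzuki groups -/
theorem num_sz (hP : Par p q) {u t : ℕ} (hut : t * t = 2 * u) (ht : 4 ≤ t) (hR : R q = u + t + 1 ∨ R q + t = u + 1)
    {k : ℕ} (htk : t = 2 ^ k) (hL : Lam p q (u - 1)) : False := by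
  have hb := hP.R_big
  have h2t : 2 * t ≤ u := by nlinarith
  rcases hP.R_eq with ⟨h0, -, h1, -⟩ | ⟨h0, -, h1, -⟩
  · -- `p` odd
    have h3 := lam_odd_bound hP h0 hL
    have h4 : u - 1 ∣ ps p * 1 := by
      obtain ⟨v, rfl⟩ : ∃ v, u = v + 1 := ⟨u - 1, by omega⟩
      rw [Nat.add_sub_cancel] at h3 ⊢
      obtain ⟨w, hw⟩ : ∃ w, v + 1 = w + t := ⟨v + 1 - t, by omega⟩
      have hprod : (v + 1 + t) * w + 1 = v * v := by
        have h5 : (v : ℤ) + 1 = w + t := by exact_mod_cast hw
        have h6 : (t : ℤ) * t = 2 * (v + 1) := by exact_mod_cast hut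
        have h7 : ((v : ℤ) + 1 + t) * w + 1 = v * v := by
          have h8 : (w : ℤ) = v + 1 - t := by linarith
          rw [h8]
          linear_combination -h6
        exact_mod_cast h7
      rcases hR with h5 | h5
      · exact num_a 1 h3 w (by rw [show R q - 1 = v + 1 + t by omega]; exact hprod) (by omega)
      · exact num_a 1 h3 (v + 1 + t) (by rw [show R q - 1 = w by omega, Nat.mul_comm]; exact hprod) (by omega)
    rw [mul_one] at h4
    have hpp : 0 < ps p := by
      unfold ps
      have := hP.prime.pos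
      split_ifs <;> omega
    have h5 : u - 1 ≤ q := (Nat.le_of_dvd hpp h4).trans hP.ps_le
    have h6 : (u - 1) * (u - 1) ≤ q * q := Nat.mul_le_mul h5 h5
    have h7 : q * q ≤ 2 * u + 2 * t + 1 := by omega
    obtain ⟨v, rfl⟩ : ∃ v, u = v + 1 := ⟨u - 1, by omega⟩
    rw [Nat.add_sub_cancel] at h6
    nlinarith
  · have h3 := lam_even_bound hP h0 hL
    have h4 : u - 1 ∣ 4 * t := by
      rcases hR with h5 | h5
      · have h6 : 4 * (R q - 2) = 4 * (u - 1) + 4 * t := by omega
        rw [h6] at h3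
        exact (Nat.dvd_add_right (Dvd.intro_left _ rfl)).1 h3
      · have h6 : 4 * (R q - 2) + 4 * t = 4 * (u - 1) := by omega
        have h7 : u - 1 ∣ 4 * (R q - 2) + 4 * t := by rw [h6]; exact Dvd.intro_left _ rfl
        exact (Nat.dvd_add_right h3).1 h7
    have h5 : Nat.Coprime (u - 1) 2 := by
      rw [Nat.coprime_two_right, Nat.odd_iff]
      have h8 : 4 ∣ t := by
        have : 2 ≤ k := by
          by_contra hlt
          have : k = 0 ∨ k = 1 := by omega
          rcases this with h9 | h9 <;> rw [htk, h9] at ht <;> norm_num at ht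
        rw [htk]
        exact (pow_dvd_pow 2 this)
      obtain ⟨w, rfl⟩ := h8
      have : 2 * u = 2 * (8 * (w * w)) := by rw [← hut]; ring
      omega
    have h6 : u - 1 ∣ 2 ^ (k + 2) := by
      rw [pow_add, ← htk, mul_comm]
      exact h4
    have h7 := (Nat.Coprime.pow_right (k + 2) h5).eq_one_of_dvd h6
    omega

/-- the arithmetic for the Ree groups -/
theorem num_ree (hP : Par p q) {u t : ℕ} (hut : t * t = 3 * u) (ht : 9 ≤ t) (hR : R q = u + t + 1 ∨ R q + t = u + 1)
    {k : ℕ} (htk : t = 3 ^ k) (hL : Lam p q (u - 1)) : False := by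
  have hb := hP.R_big
  have h2t : 3 * t ≤ u := by nlinarith
  rcases hP.R_eq with ⟨h0, -, h1, -⟩ | ⟨h0, -, h1, -⟩
  · -- `p` odd
    have h3 := lam_odd_bound hP h0 hL
    have h4 : u - 1 ∣ ps p * 2 := by
      obtain ⟨v, rfl⟩ : ∃ v, u = v + 1 := ⟨u - 1, by omega⟩
      rw [Nat.add_sub_cancel] at h3 ⊢
      obtain ⟨w, hw⟩ : ∃ w, v + 1 = w + t := ⟨v + 1 - t, by omega⟩
      have hprod : (v + 1 + t) * w + (v + 2) = v * v := by
        have h5 : (v : ℤ) + 1 = w + t := by exact_mod_cast hw
        have h6 : (t : ℤ) * t = 3 * (v + 1) := by exact_mod_cast hut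
        have h7 : ((v : ℤ) + 1 + t) * w + (v + 2) = v * v := by
          have h8 : (w : ℤ) = v + 1 - t := by linarith
          rw [h8]
          linear_combination -h6
        exact_mod_cast h7
      have h8 : v ∣ ps p * (v + 2) := by
        rcases hR with h5 | h5
        · exact num_a (v + 2) h3 w (by rw [show R q - 1 = v + 1 + t by omega]; exact hprod) (by omega)
        · exact num_a (v + 2) h3 (v + 1 + t) (by rw [show R q - 1 = w by omega, Nat.mul_comm w]; exact hprod)
            (by omega)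
      rw [Nat.mul_add] at h8
      exact (Nat.dvd_add_right (Dvd.intro_left _ rfl)).1 h8
    have hpp : 0 < ps p := by
      unfold ps
      have := hP.prime.pos
      split_ifs <;> omega
    have h5 : u - 1 ≤ q * 2 := (Nat.le_of_dvd (by omega) h4).trans (Nat.mul_le_mul_right 2 hP.ps_le)
    have h6 : (u - 1) * (u - 1) ≤ (q * 2) * (q * 2) := Nat.mul_le_mul h5 h5
    have h7 : q * q ≤ 2 * u + 2 * t + 1 := by omega
    obtain ⟨v, rfl⟩ : ∃ v, u = v + 1 := ⟨u - 1, by omega⟩
    rw [Nat.add_sub_cancel] at h6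
    nlinarith
  · have h3 := lam_even_bound hP h0 hL
    have h4 : u - 1 ∣ 4 * t := by
      rcases hR with h5 | h5
      · have h6 : 4 * (R q - 2) = 4 * (u - 1) + 4 * t := by omega
        rw [h6] at h3
        exact (Nat.dvd_add_right (Dvd.intro_left _ rfl)).1 h3
      · have h6 : 4 * (R q - 2) + 4 * t = 4 * (u - 1) := by omega
        have h7 : u - 1 ∣ 4 * (R q - 2) + 4 * t := by rw [h6]; exact Dvd.intro_left _ rfl
        exact (Nat.dvd_add_right h3).1 h7
    have h5 : Nat.Coprime (u - 1) 3 := by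
      rw [Nat.coprime_comm, Nat.Prime.coprime_iff_not_dvd Nat.prime_three]
      have h8 : 3 ∣ t := by
        have : k ≠ 0 := by
          rintro rfl
          rw [htk] at ht
          norm_num at ht
        rw [htk]
        exact dvd_pow_self 3 this
      obtain ⟨w, rfl⟩ := h8
      have : 3 * u = 3 * (3 * (w * w)) := by rw [← hut]; ring
      omega
    have h7 : u - 1 ∣ 4 := by
      refine Nat.Coprime.dvd_of_dvd_mul_right ?_ h4
      rw [htk]
      exact Nat.Coprime.pow_right k h5
    have := Nat.le_of_dvd (by norm_num) h7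
    omega

theorem sz' (hP : Par p q) {F : Type*} [Field F] [Fintype F] {k : ℕ} (hk : 1 ≤ k)
    (hF : Fintype.card F = 2 ^ (2 * k + 1)) (h : Hyp p q ↥(Cfsg.Sz F k)) : False := by
  have hcard := Cfsg.Agent.S0324.result hk hF
  have hb := hP.R_big
  have hodd := hP.R_odd
  have hmod := hP.R_mod_four
  set u := 2 ^ (2 * k + 1) with hu
  set t := 2 ^ (k + 1) with ht
  have htu : t * t = 2 * u := by
    rw [ht, hu, ← pow_add, ← pow_succ']
    congr 1
    omega
  have ht4 : 4 ≤ t := by
    calc 4 = 2 ^ 2 := by norm_num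
      _ ≤ 2 ^ (k + 1) := Nat.pow_le_pow_right (by norm_num) (by omega)
  have h2t : 2 * t ≤ u := by nlinarith
  have hu8 : u % 8 = 0 := by
    rw [hu, show 2 * k + 1 = 3 + (2 * k - 2) by omega, pow_add]
    norm_num
  have hfin : Finite ↥(Cfsg.Sz F k) := Nat.finite_of_card_ne_zero (by
    rw [hcard]
    have h1 : 0 < u ^ 2 * (u ^ 2 + 1) * (u - 1) :=
      Nat.mul_pos (Nat.mul_pos (by positivity) (by positivity)) (by omega)
    omega)
  -- cyclic subgroups containing odd elements
  have key : ∀ x : ↥(Cfsg.Sz F k), x ≠ 1 → ¬ 2 ∣ orderOf x →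
      ∃ T, (T = u - 1 ∨ T = u + t + 1 ∨ T = u - t + 1) ∧ orderOf x ∣ T ∧ ∃ g : ↥(Cfsg.Sz F k), orderOf g = T := by
    intro x hx1 hx2
    obtain ⟨U, ⟨hU, hxU⟩, -⟩ := Cfsg.Agent.S2238.result hk hF x hx1
    rcases hU with ⟨P, rfl⟩ | ⟨hc, hN⟩
    · exfalso
      obtain ⟨j, hj⟩ := P.isPGroup' ⟨x, hxU⟩
      have h3 : x ^ 2 ^ j = 1 := congrArg Subtype.val hj
      have h4 : orderOf x ∣ 2 ^ j := orderOf_dvd_of_pow_eq_one h3
      obtain ⟨i, -, hi⟩ := (Nat.dvd_prime_pow Nat.prime_two).1 h4
      rcases Nat.eq_zero_or_pos i with h0 | h0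
      · rw [h0, pow_zero] at hi
        exact hx1 (orderOf_eq_one_iff.1 hi)
      · exact hx2 (hi ▸ dvd_pow_self 2 h0.ne')
    · refine ⟨Nat.card U, ?_, ?_, ?_⟩
      · rcases hN with h | h | h
        · exact Or.inl h
        · exact Or.inr (Or.inl h)
        · exact Or.inr (Or.inr h)
      · rw [← Subgroup.orderOf_mk x hxU]
        exact orderOf_dvd_natCard _
      · obtain ⟨y, hy⟩ := hc.exists_generator
        refine ⟨y, ?_⟩
        rw [Subgroup.orderOf_coe]
        exact orderOf_eq_card_of_forall_mem_zpowers hy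
  -- `(u + t + 1) (u - t + 1) = u² + 1`
  have hprod : (u + t + 1) * (u - t + 1) = u ^ 2 + 1 := by
    obtain ⟨w, hw⟩ : ∃ w, u = w + t := ⟨u - t, by omega⟩
    rw [show u - t = w by omega]
    have h5 : (u : ℤ) = w + t := by exact_mod_cast hw
    have h6 : (t : ℤ) * t = 2 * u := by exact_mod_cast htu
    have h7 : ((u : ℤ) + t + 1) * (w + 1) = u ^ 2 + 1 := by
      have h8 : (w : ℤ) = u - t := by linarith
      rw [h8]
      linear_combination -h6
    exact_mod_cast h7
  obtain ⟨x, hx⟩ := h.ex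
  obtain ⟨T, hT, hxT, hgT⟩ := key x (by rintro rfl; rw [orderOf_one] at hx; omega) (by rw [hx]; omega)
  rw [hx] at hxT
  have hTR := eq_R hP h hgT hxT
  have hR : R q = u + t + 1 ∨ R q + t = u + 1 := by omega
  have hRu : R q ∣ u ^ 2 + 1 := by
    rw [← hprod]
    rcases hT with h1 | h1 | h1
    · exfalso; omega
    · rw [← hTR, h1]; exact Dvd.intro _ rfl
    · rw [← hTR, h1]; exact Dvd.intro_left _ rfl
  have hno : ∀ r : ℕ, r.Prime → r ∣ u - 1 → ¬ r ∣ u ^ 2 + 1 := by
    intro r hr h1 h2
    have h3 : r ∣ (u - 1) * (u + 1) := h1.mul_right _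
    have h4 : (u - 1) * (u + 1) + 2 = u ^ 2 + 1 := by
      obtain ⟨v, hv⟩ : ∃ v, u = v + 1 := ⟨u - 1, by omega⟩
      rw [hv, Nat.add_sub_cancel]; ring
    rw [← h4] at h2
    have h5 := (Nat.dvd_add_right h3).1 h2
    have h6 := (Nat.prime_dvd_prime_iff_eq hr Nat.prime_two).1 h5
    rw [h6] at h1
    omega
  -- the element of order `u - 1`
  obtain ⟨r, hr, hru⟩ := Nat.exists_prime_and_dvd (n := u - 1) (by omega)
  have hrc : r ∣ Nat.card ↥(Cfsg.Sz F k) := by
    rw [hcard]
    exact hru.mul_left _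
  have := Fact.mk hr
  obtain ⟨y, hy⟩ := exists_prime_orderOf_dvd_card' (G := ↥(Cfsg.Sz F k)) r hrc
  have hr2 : ¬ 2 ∣ r := by
    intro h2
    have h3 := (Nat.prime_dvd_prime_iff_eq Nat.prime_two hr).1 h2
    rw [← h3] at hru
    omega
  obtain ⟨T', hT', hyT, hgT'⟩ := key y (by rintro rfl; rw [orderOf_one] at hy; exact hr.one_lt.ne hy)
    (by rw [hy]; exact hr2)
  rw [hy] at hyT
  have hT'' : T' = u - 1 := by
    rcases hT' with h1 | h1 | h1
    · exact h1
    · exfalso
      refine hno r hr hru ?_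
      rw [← hprod, ← h1]
      exact hyT.mul_right _
    · exfalso
      refine hno r hr hru ?_
      rw [← hprod, ← h1]
      exact hyT.mul_left _
  refine num_sz hP htu ht4 hR ht (h.lam hP (hT'' ▸ hgT') (Or.inl ?_))
  apply Nat.coprime_of_dvd
  intro s hs h1 h2
  exact hno s hs h2 (h1.trans hRu)

/-- **Suzuki groups** -/
theorem suzuki (hP : Par p q) {S : Type u} [Group S] (hS : Cfsg.Lie.IsoSuzuki S) (h : Hyp p q S) : False := by
  obtain ⟨F, _, _, k, hk, hF, ⟨e⟩⟩ := hS
  obtain ⟨e'⟩ := Cfsg.Agent.OddCyclic.ClaimC.SzIso.iso hk hF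
  exact sz' hP hk hF (h.of_equiv (e.trans e'.symm))

/-- **Small Ree groups** -/
theorem ree (hP : Par p q) {S : Type u} [Group S] (hS : Cfsg.Lie.IsoRee S) (h : Hyp p q S) : False := by
  obtain ⟨K, _, _, k, hk, hK, ⟨e⟩⟩ := hS
  have h' := h.of_equiv e
  have h1 := fun d => Cfsg.Agent.S1159.result hk hK d
  have hb := hP.R_big
  have hodd := hP.R_odd
  set v := 3 ^ (2 * k + 1) with hv
  set t := 3 ^ (k + 1) with ht
  have htv : t * t = 3 * v := by
    rw [ht, hv, ← pow_add, ← pow_succ']
    congr 1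
    omega
  have ht9 : 9 ≤ t := by
    calc 9 = 3 ^ 2 := by norm_num
      _ ≤ 3 ^ (k + 1) := Nat.pow_le_pow_right (by norm_num) (by omega)
  have hvt : 3 * t ≤ v := by nlinarith
  have hv8 : v % 8 = 3 := by
    rw [hv, pow_succ, pow_mul, Nat.mul_mod, Nat.pow_mod]
    norm_num
  have hcases := (h1 (R q)).1 h'.ex
  have hR : R q = v + t + 1 ∨ R q + t = v + 1 := by
    rcases hcases with h2 | h2 | h2 | h2 | h2 | h2
    · have := Nat.le_of_dvd (by norm_num) h2; omega
    · have := Nat.le_of_dvd (by norm_num) h2; omega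
    · have := eq_R hP h' ((h1 _).2 (Or.inr (Or.inr (Or.inl dvd_rfl)))) h2; omega
    · have := eq_R hP h' ((h1 _).2 (Or.inr (Or.inr (Or.inr (Or.inl dvd_rfl))))) h2; omega
    · have := eq_R hP h' ((h1 _).2 (Or.inr (Or.inr (Or.inr (Or.inr (Or.inl dvd_rfl)))))) h2; omega
    · have := eq_R hP h' ((h1 _).2 (Or.inr (Or.inr (Or.inr (Or.inr (Or.inr dvd_rfl)))))) h2; omega
  refine num_ree hP htv ht9 hR ht (h'.lam hP ((h1 (v - 1)).2 (Or.inr (Or.inr (Or.inl dvd_rfl))))
    (Or.inr ⟨2, Nat.prime_two, hP.two, by omega⟩))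

end Cfsg.Agent.H60.P4Two
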