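import Mathlib
import Cfsg.Agent.H967.CopFix
import Cfsg.Agent.S1068
import Cfsg.Agent.S1059
import Cfsg.Agent.S0276
import Cfsg.Agent.H556.SLPair
import Cfsg.Agent.H399.Defs

/-!
# `²F₄(q)`, `G₂(q)`: a field automorphism fixing a subgroup of order 27, or an involution with centralizer of order
divisible by 9
-/

set_option autoImplicit false

namespace Cfsg.Agent.H60.Conf27

open Cfsg Cfsg.Lie Cfsg.Agent.H967.CopMat Cfsg.Agent.H967.CopRow Cfsg.Agent.H967.CopSz Cfsg.Agent.H967.CopFix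

/-- a nontrivial automorphism of order prime to `3` which fixes a subgroup of order `27` -/
def Aut27 (G : Type*) [Group G] : Prop :=
  ∃ (φ : MulAut G) (P : Subgroup G), Nat.card P = 27 ∧ (∀ x ∈ P, φ x = x) ∧ φ ≠ 1 ∧ ¬ 3 ∣ orderOf φ

theorem card_tf4_two : Nat.card ↥(twistedF4 (ZMod 2) 1) = 35942400 := by
  have h := Cfsg.Agent.S1068.result (K := ZMod 2) (m := 0) (by rw [ZMod.card]; rfl)
  simpa using h

theorem nine_dvd {m : ℕ} (h : 3 ∣ 2 * m + 1) : 9 ∣ 2 ^ (2 * m + 1) + 1 := by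
  obtain ⟨k, hk⟩ := h
  have hko : Odd k := by
    have : Odd (3 * k) := by rw [← hk]; exact ⟨m, rfl⟩
    exact (Nat.odd_mul.1 this).2
  rw [hk, pow_mul]
  have := hko.nat_add_dvd_pow_add_pow 8 1
  rw [one_pow] at this
  exact this

/-- **`²F₄(q)`.** -/
theorem tf4 {F : Type*} [Field F] [Fintype F] (m : ℕ) (hm : 1 ≤ m) (hF : Fintype.card F = 2 ^ (2 * m + 1))
    (h9 : ¬ 9 ∣ 2 ^ (2 * m + 1) + 1) : Aut27 ↥(twistedF4 F (2 ^ m)) := by
  classical
  have := two_prime
  have hc : CharP F 2 := charP_of_card Nat.prime_two hF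
  obtain ⟨τ, hτ⟩ := exists_ringAut 2 (2 * m + 1) hF
  have hR := row_tf4 hm hF
  let f : ZMod 2 →+* F := ZMod.castHom dvd_rfl F
  have e1 : twistedF4 (ZMod 2) (2 ^ m) = twistedF4 (ZMod 2) 1 :=
    twistedF4_congr (fun x => by
      fin_cases x
      · show (0 : ZMod 2) ^ 2 ^ m = 0 ^ 1
        rw [zero_pow (by positivity), pow_one]
      · show (1 : ZMod 2) ^ 2 ^ m = 1 ^ 1
        rw [one_pow, one_pow])
  have hle := words_f4 f (2 ^ m)
  rw [e1] at hle
  -- the embedding
  let j : ↥(twistedF4 (ZMod 2) 1) →* ↥(twistedF4 F (2 ^ m)) :=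
    { toFun := fun g => ⟨Matrix.GeneralLinearGroup.map f g.1, hle ⟨g.1, g.2, rfl⟩⟩
      map_one' := Subtype.ext (map_one _)
      map_mul' := fun a b => Subtype.ext (map_mul _ _ _) }
  have hj : Function.Injective j := fun a b hab =>
    Subtype.ext (map_injective f (congrArg Subtype.val hab))
  have hfix : ∀ g, fieldAut hR.stab τ (j g) = j g := by
    intro g
    refine ext_mat fun i k => ?_
    rw [fieldAut_apply]
    show τ (f ((g.1 : Matrix _ _ (ZMod 2)) i k)) = f ((g.1 : Matrix _ _ (ZMod 2)) i k)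
    have : (τ : F →+* F).comp f = f := Subsingleton.elim _ _
    exact congrArg (fun h : ZMod 2 →+* F => h ((g.1 : Matrix _ _ (ZMod 2)) i k)) this
  have : Fact (Nat.Prime 3) := ⟨Nat.prime_three⟩
  obtain ⟨P, hP⟩ := Sylow.exists_subgroup_card_pow_prime (G := ↥(twistedF4 (ZMod 2) 1)) 3 (n := 3)
    (by rw [card_tf4_two]; norm_num)
  have hord : orderOf (fieldAut hR.stab τ) = 2 * m + 1 := by rw [orderOf_injective _ hR.inj, hτ]
  refine ⟨fieldAut hR.stab τ, P.map j, ?_, ?_, ?_, ?_⟩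
  · rw [Subgroup.card_map_of_injective hj, hP]
    norm_num
  · rintro _ ⟨g, -, rfl⟩
    exact hfix g
  · intro h
    rw [h, orderOf_one] at hord
    omega
  · rw [hord]
    exact fun h => h9 (nine_dvd h)

/-! ### `G₂(q)` -/

section GTwo

open Cfsg.Agent.H967.CopChev Cfsg.Agent.ClassificationK.GTwoChev Matrix

theorem card_g2_two : Nat.card ↥(chevG2.group (ZMod 2)) = 12096 := by
  have h := Cfsg.Agent.S1059.result (F := ZMod 2) (q := 2) (ZMod.card 2)
  simpa using h

/-- field automorphisms of `G₂(2^f)` -/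
theorem g2_even {F : Type*} [Field F] [Fintype F] {f : ℕ} (hf : 2 ≤ f) (hF : Fintype.card F = 2 ^ f)
    (h9 : ¬ 9 ∣ Fintype.card F ^ 2 - 1) : Aut27 ↥(chevG2.group F) := by
  classical
  have := two_prime
  have hc : CharP F 2 := charP_of_card Nat.prime_two hF
  obtain ⟨τ, hτ⟩ := exists_ringAut 2 f hF
  have hinj := inj_group (D := chevG2) (by simp [Cfsg.Agent.ChevalleyStructure.Elts.InList]) (by decide) F
  let i : ZMod 2 →+* F := ZMod.castHom dvd_rfl F
  have hle := map_group_le chevG2 i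
  let j : ↥(chevG2.group (ZMod 2)) →* ↥(chevG2.group F) :=
    { toFun := fun g => ⟨Matrix.GeneralLinearGroup.map i g.1, hle ⟨g.1, g.2, rfl⟩⟩
      map_one' := Subtype.ext (map_one _)
      map_mul' := fun a b => Subtype.ext (map_mul _ _ _) }
  have hj : Function.Injective j := fun a b hab =>
    Subtype.ext (map_injective i (congrArg Subtype.val hab))
  have hfix : ∀ g, fieldAut (stab_group chevG2 F) τ (j g) = j g := by
    intro g
    refine ext_mat fun a k => ?_
    rw [fieldAut_apply]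
    show τ (i ((g.1 : Matrix _ _ (ZMod 2)) a k)) = i ((g.1 : Matrix _ _ (ZMod 2)) a k)
    have : (τ : F →+* F).comp i = i := Subsingleton.elim _ _
    exact congrArg (fun h : ZMod 2 →+* F => h ((g.1 : Matrix _ _ (ZMod 2)) a k)) this
  have : Fact (Nat.Prime 3) := ⟨Nat.prime_three⟩
  obtain ⟨P, hP⟩ := Sylow.exists_subgroup_card_pow_prime (G := ↥(chevG2.group (ZMod 2))) 3 (n := 3)
    (by rw [card_g2_two]; norm_num)
  have hord : orderOf (fieldAut (stab_group chevG2 F) τ) = f := by rw [orderOf_injective _ hinj, hτ]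
  refine ⟨fieldAut (stab_group chevG2 F) τ, P.map j, ?_, ?_, ?_, ?_⟩
  · rw [Subgroup.card_map_of_injective hj, hP]
    norm_num
  · rintro _ ⟨g, -, rfl⟩
    exact hfix g
  · intro h
    rw [h, orderOf_one] at hord
    omega
  · rw [hord]
    rintro ⟨k, rfl⟩
    apply h9
    rw [hF, ← pow_mul, show 3 * k * 2 = 6 * k by ring, pow_mul]
    have := Nat.sub_dvd_pow_sub_pow (2 ^ 6) 1 k
    rw [one_pow] at this
    exact (by norm_num : 9 ∣ 2 ^ 6 - 1).trans this

/-- the involution of `G₂(q)`, `q` odd -/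
theorem g2_odd {F : Type*} [Field F] [Fintype F] (h3 : ¬ 3 ∣ Fintype.card F) (h2 : (2 : F) ≠ 0) :
    ∃ x : ↥(chevG2.group F), x ≠ 1 ∧ ¬ 3 ∣ orderOf x ∧ 9 ∣ Nat.card (Subgroup.centralizer {x}) := by
  classical
  have hn := phi_neg_one_ne (F := F) h2
  have hi1 : Function.Injective (ph11 F) := H556.SLPair.injective_of_neg h2 _ hn
  have hi2 : Function.Injective (ph7 F) := H556.SLPair.injective_of_neg h2 _ (by rw [← phi_neg_one_eq]; exact hn)
  have hc1 : ∀ x y, ph11 F x * ph7 F y = ph7 F y * ph11 F x := fun x y => comm x y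
  have : Fact (Nat.Prime 3) := ⟨Nat.prime_three⟩
  have : Fact (Nat.Prime 2) := ⟨Nat.prime_two⟩
  have hsl : 3 ∣ Nat.card (SpecialLinearGroup (Fin 2) F) := by
    rw [S0276.card_sl_two rfl]
    refine Dvd.dvd.mul_left ?_ _
    have h0 : 1 ≤ Fintype.card F ^ 2 := Nat.one_le_pow _ _ Fintype.card_pos
    rw [← Nat.modEq_iff_dvd' h0]
    have h4 : Fintype.card F % 3 = 1 ∨ Fintype.card F % 3 = 2 := by omega
    rcases h4 with h4 | h4
    · exact (show Fintype.card F ≡ 1 [MOD 3] from h4).pow 2 |>.symm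
    · exact (show Fintype.card F ≡ 2 [MOD 3] from h4).pow 2 |>.symm
  obtain ⟨c, hc⟩ := exists_prime_orderOf_dvd_card' 3 hsl
  have ht2 : orderOf (ph11 F (-1)) = 2 := by
    refine orderOf_eq_prime ?_ hn
    rw [pow_two, ← map_mul, neg_mul_neg, one_mul, map_one]
  have hz : ∀ a b, ph11 F a * ph7 F b ∈ Subgroup.centralizer {ph11 F (-1)} := by
    intro a b
    rw [Subgroup.mem_centralizer_singleton_iff, mul_assoc, ← hc1, ← mul_assoc, ← mul_assoc, ← map_mul, ← map_mul,
      mul_neg, neg_mul, mul_one, one_mul]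
  let ψ : (Subgroup.zpowers c × Subgroup.zpowers c) →* Subgroup.centralizer {ph11 F (-1)} :=
    { toFun := fun p => ⟨ph11 F p.1.1 * ph7 F p.2.1, hz _ _⟩
      map_one' := by
        apply Subtype.ext
        show ph11 F 1 * ph7 F 1 = 1
        rw [map_one, map_one, one_mul]
      map_mul' := by
        rintro ⟨a, b⟩ ⟨a', b'⟩
        apply Subtype.ext
        show ph11 F (a * a') * ph7 F (b * b') = ph11 F a * ph7 F b * (ph11 F a' * ph7 F b')
        rw [map_mul, map_mul, mul_assoc, mul_assoc, ← mul_assoc (ph11 F (a' : SpecialLinearGroup (Fin 2) F)), hc1,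
          mul_assoc] }
  have hψ : Function.Injective ψ := by
    rw [injective_iff_map_eq_one]
    rintro ⟨a, b⟩ hab
    have h5 : ph11 F a * ph7 F b = 1 := congrArg Subtype.val hab
    have hx : ∀ z, (a : SpecialLinearGroup (Fin 2) F) * z = z * a := by
      intro z
      apply hi1
      rw [map_mul, map_mul]
      have e : ph11 F a = (ph7 F b)⁻¹ := eq_inv_of_mul_eq_one_left h5
      rw [e]
      have := hc1 z b
      rw [inv_mul_eq_iff_eq_mul, ← mul_assoc, ← this, mul_assoc, mul_inv_cancel, mul_one]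
    have h6 : (a : SpecialLinearGroup (Fin 2) F) ∈ Subgroup.center (SpecialLinearGroup (Fin 2) F) :=
      Subgroup.mem_center_iff.2 fun z => (hx z).symm
    obtain ⟨r, hr, hr'⟩ := Matrix.SpecialLinearGroup.mem_center_iff.1 h6
    have h7 : (a : SpecialLinearGroup (Fin 2) F) ^ 2 = 1 := by
      apply Subtype.ext
      rw [Matrix.SpecialLinearGroup.coe_pow, ← hr', ← map_pow, show r ^ 2 = 1 by simpa using hr, map_one]
      rfl
    have h8 : (a : SpecialLinearGroup (Fin 2) F) ^ 3 = 1 := by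
      obtain ⟨k, hk⟩ := a.2
      rw [← hk]
      show (c ^ k) ^ 3 = 1
      rw [← zpow_natCast, ← _root_.zpow_mul, mul_comm, _root_.zpow_mul, zpow_natCast, ← hc, pow_orderOf_eq_one, _root_.one_zpow]
    have h9 : (a : SpecialLinearGroup (Fin 2) F) = 1 := by
      rw [pow_succ, h7, one_mul] at h8
      exact h8
    rw [h9, map_one, one_mul] at h5
    have h10 : (b : SpecialLinearGroup (Fin 2) F) = 1 := hi2 (by rw [h5, map_one])
    exact Prod.ext (Subtype.ext h9) (Subtype.ext h10)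
  refine ⟨ph11 F (-1), hn, by rw [ht2]; norm_num, ?_⟩
  have h4 := Subgroup.card_dvd_of_injective ψ hψ
  rwa [Nat.card_prod, Nat.card_zpowers, hc] at h4

/-- **`G₂(q)`.** -/
theorem g2 {F : Type*} [Field F] [Fintype F] (h3 : ¬ 3 ∣ Fintype.card F) (hq : 3 ≤ Fintype.card F)
    (h9 : ¬ 9 ∣ Fintype.card F ^ 2 - 1) :
    (∃ x : ↥(Lie.chevG2.group F), x ≠ 1 ∧ ¬ 3 ∣ orderOf x ∧ 9 ∣ Nat.card (Subgroup.centralizer {x})) ∨
      Aut27 ↥(Lie.chevG2.group F) := by
  by_cases h2 : (2 : F) = 0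
  · right
    have hc : CharP F 2 := CharTwo.of_one_ne_zero_of_two_eq_zero one_ne_zero h2
    obtain ⟨n, -, hn⟩ := FiniteField.card F 2
    have hn2 : 2 ≤ (n : ℕ) := by
      by_contra h
      have h1 := n.pos
      have : (n : ℕ) = 1 := by omega
      rw [this] at hn
      omega
    exact g2_even hn2 hn h9
  · left
    exact g2_odd h3 h2

end GTwo

end Cfsg.Agent.H60.Conf27
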