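import Cfsg.Agent.H961.LinePSU3
import Cfsg.Agent.GTwoOdd.Core.HFiveB
import Cfsg.Agent.SmallSimple.S1000.PSLFacts

/-!
# `PSU₃(3)`: an element of order 8 normalising a Sylow 3-subgroup (helper60, for helper399)
-/

set_option autoImplicit false

namespace Cfsg.Agent.H60.Psu33

open Cfsg Matrix Cfsg.Agent.H961.LineChar Cfsg.Agent.LieRecognition.PSUThreeSylow
  Cfsg.Agent.H961.LinePSU3

variable {F : Type} [Field F] [Fintype F]

theorem charP_three (hF : Fintype.card F = 9) : CharP F 3 := by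
  obtain ⟨p, hp⟩ := CharP.exists F
  have hpp : p.Prime := CharP.char_is_prime F p
  obtain ⟨n, -, hn⟩ := FiniteField.card F p
  have : p ∣ 9 := by
    rw [← hF, hn]
    exact dvd_pow_self p n.2.ne'
  have h3 : p ∣ 3 ^ 2 := by norm_num; exact this
  have := (Nat.prime_dvd_prime_iff_eq hpp Nat.prime_three).1 (hpp.dvd_of_dvd_pow h3)
  rw [← this]
  exact hp

theorem center_eq_bot (hF : Fintype.card F = 9) : Subgroup.center (SU 3 F 3) = ⊥ := by
  have := charP_three hF
  rw [eq_bot_iff]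
  intro z hz
  have hs := GTwoOdd.Core.HFiveB.center_scalar (q := 3) (by rw [hF]; norm_num) (by decide) hz
  have hd : z.1.1.det = 1 := z.1.2
  rw [hs, det_smul, det_one, mul_one, Fintype.card_fin] at hd
  have h1 : z.1.1 0 0 = 1 := by
    have h : (z.1.1 0 0 - 1) ^ 3 = 0 := by
      have h3 : (3 : F) = 0 := by exact_mod_cast CharP.cast_eq_zero F 3
      linear_combination hd + (- (z.1.1 0 0) ^ 2 + z.1.1 0 0) * h3
    have := pow_eq_zero_iff (n := 3) (by norm_num) |>.1 h
    exact sub_eq_zero.1 this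
  rw [Subgroup.mem_bot]
  apply Subtype.ext
  apply Subtype.ext
  rw [hs, h1, one_smul]
  rfl

theorem psu33 (hF : Fintype.card F = 9) :
    ∃ (P : Subgroup (PSU 3 F 3)) (h : PSU 3 F 3), Nat.card P = 27 ∧
      h ∈ Subgroup.normalizer (P : Set (PSU 3 F 3)) ∧ orderOf h = 8 := by
  have hc := charP_three hF
  have hp3 : Fact (Nat.Prime 3) := ⟨Nat.prime_three⟩
  have h3 : (3 : F) = 0 := by exact_mod_cast CharP.cast_eq_zero F 3
  obtain ⟨σ, hs, hσ, T, T', h, hT⟩ := exists_T_all (F := F) (q := 3) (r := 3) (f := 1)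
    (by rw [hF]; norm_num) (by norm_num) (by norm_num)
  have hZ := center_eq_bot hF
  have hinj : Function.Injective (QuotientGroup.mk' (Subgroup.center (SU 3 F 3))) := by
    rw [← MonoidHom.ker_eq_bot_iff, QuotientGroup.ker_mk', hZ]
  have hcard : Nat.card (SU 3 F 3) = 6048 := by
    rw [← SmallSimple.PSLFacts.card_psu_three_three hF]
    exact Nat.card_congr (Equiv.ofBijective _ ⟨hinj, QuotientGroup.mk'_surjective _⟩)
  let ρ := rho F 3 h
  let U : Subgroup (SU 3 F 3) :=
    { carrier := {g | ρ g *ᵥ e1 F = e1 F}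
      one_mem' := by simp
      mul_mem' := by
        intro a b ha hb
        simp only [Set.mem_ofPred_eq] at ha hb ⊢
        rw [map_mul, ← Matrix.mulVec_mulVec, hb, ha]
      inv_mem' := by
        intro a ha
        simp only [Set.mem_ofPred_eq] at ha ⊢
        conv_lhs => rw [← ha]
        rw [Matrix.mulVec_mulVec, ← map_mul, inv_mul_cancel, map_one, Matrix.one_mulVec] }
  have hUmem : ∀ g, g ∈ U ↔ ρ g *ᵥ e1 F = e1 F := fun g => Iff.rfl
  have hUp : IsPGroup 3 U := by
    rintro ⟨g, hg⟩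
    refine ⟨2, ?_⟩
    apply Subtype.ext
    have h1 := unip (r := 3) _ (symm_mem hs h hT g) hg
    rw [← map_pow, MulEquiv.map_eq_one_iff] at h1
    exact Subtype.ext h1
  -- an element `i` of trace zero
  obtain ⟨i, hi0, hi⟩ : ∃ i : F, i ≠ 0 ∧ i + σ i = 0 := by
    by_contra hcon
    push Not at hcon
    have hsurj : ∀ x : F, x - σ x = 0 := by
      intro x
      by_contra hx
      apply hcon _ hx
      rw [map_sub, hσ]
      ring
    have hcube : ∀ x : F, x ^ 3 = x := fun x => by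
      rw [← hs]
      exact (sub_eq_zero.1 (hsurj x)).symm
    obtain ⟨γ, hγ⟩ := IsCyclic.exists_generator (α := Fˣ)
    have hord : orderOf γ = 8 := by
      rw [orderOf_eq_card_of_forall_mem_zpowers hγ, Nat.card_units, Nat.card_eq_fintype_card, hF]
    have h2 : γ ^ 2 = 1 := by
      have h1 : γ ^ 3 = γ := Units.ext (by rw [Units.val_pow_eq_pow_val]; exact hcube _)
      have : γ ^ 2 * γ = 1 * γ := by rw [← pow_succ, one_mul]; exact h1
      exact mul_right_cancel this
    have := orderOf_dvd_of_pow_eq_one h2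
    rw [hord] at this
    omega
  have hb : ∀ (c : F) (ε : Bool), (c * σ c + (if ε then i else 0)) + σ (c * σ c + (if ε then i else 0)) +
      c * σ c = 0 := by
    intro c ε
    rw [map_add, map_mul, hσ]
    cases ε
    · simp only [Bool.false_eq_true, if_false, map_zero]
      linear_combination (c * σ c) * h3
    · simp only [if_true]
      linear_combination (c * σ c) * h3 + hi
  have hex : ∀ x : F × Bool, ∃ g : U, ρ g.1 = umt (-σ x.1) (x.1 * σ x.1 + (if x.2 then i else 0)) x.1 := by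
    rintro ⟨c, ε⟩
    obtain ⟨g, hg⟩ := exists_of_mem hs h hT
      (k := ⟨umt (-σ c) (c * σ c + (if ε then i else 0)) c, det_umt _ _ _⟩) (umt_form hσ (hb c ε))
    refine ⟨⟨g, ?_⟩, hg⟩
    rw [hUmem]
    change rho F 3 h g *ᵥ e1 F = e1 F
    rw [hg]
    ext j
    fin_cases j <;> simp [umt, e1, Matrix.mulVec, dotProduct, Fin.sum_univ_three]
  choose f hf using hex
  have hfinj : Function.Injective f := by
    rintro ⟨c, ε⟩ ⟨c', ε'⟩ he
    have h1 := hf (c, ε)
    rw [he, hf (c', ε')] at h1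
    have h2 : c' = c := by
      have := congrFun (congrFun h1 1) 2
      simpa [umt] using this
    subst h2
    have h4 : (if ε' then i else 0) = (if ε then i else 0) := by
      have := congrFun (congrFun h1 0) 2
      simpa [umt] using this
    cases ε <;> cases ε' <;> simp_all
  have h18 : 18 ≤ Nat.card U := by
    have := Nat.card_le_card_of_injective f hfinj
    rw [Nat.card_prod, Nat.card_eq_fintype_card, hF] at this
    simpa using this
  have hU27 : Nat.card U = 27 := by
    obtain ⟨k, hk⟩ := IsPGroup.iff_card.1 hUp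
    have hd : 3 ^ k ∣ 6048 := by
      rw [← hk, ← hcard]
      exact Subgroup.card_subgroup_dvd_card U
    have hk3 : k ≤ 3 := by
      by_contra hlt
      have : 3 ^ 4 ∣ 6048 := (pow_dvd_pow 3 (by omega)).trans hd
      norm_num at this
    have hk3' : 3 ≤ k := by
      by_contra hlt
      have : 3 ^ k ≤ 3 ^ 2 := Nat.pow_le_pow_right (by norm_num) (by omega)
      omega
    have : k = 3 := le_antisymm hk3 hk3'
    rw [hk, this]
    norm_num
  -- the torus element
  obtain ⟨γ, hγ⟩ := IsCyclic.exists_generator (α := Fˣ)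
  have hord : orderOf γ = 8 := by
    rw [orderOf_eq_card_of_forall_mem_zpowers hγ, Nat.card_units, Nat.card_eq_fintype_card, hF]
  obtain ⟨D, hD, m, hDm⟩ := exists_d hσ γ
  obtain ⟨d, hd⟩ := exists_of_mem hs h hT hD
  have hd1 : ρ d *ᵥ e1 F = (γ : F) • e1 F := by
    change rho F 3 h d *ᵥ e1 F = _
    rw [hd, hDm]
    ext j
    fin_cases j <;> simp [dmat, e1, Matrix.mulVec, dotProduct, Fin.sum_univ_three]
  have hpow : ∀ n : ℕ, ρ (d ^ n) *ᵥ e1 F = ((γ ^ n : Fˣ) : F) • e1 F := by
    intro n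
    induction n with
    | zero => simp
    | succ n ih =>
      rw [pow_succ, map_mul, ← Matrix.mulVec_mulVec, hd1, Matrix.mulVec_smul, ih, smul_smul,
        pow_succ', Units.val_mul]
  have h8 : 8 ∣ orderOf d := by
    rw [← hord]
    apply orderOf_dvd_of_pow_eq_one
    have h1 := hpow (orderOf d)
    rw [pow_orderOf_eq_one, map_one, Matrix.one_mulVec] at h1
    have h2 := congrFun h1 0
    simp only [e1, Pi.smul_apply, smul_eq_mul, Matrix.cons_val_zero, mul_one] at h2
    exact Units.ext h2.symm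
  have hnorm : ∀ g : SU 3 F 3, (∃ c : F, c ≠ 0 ∧ ρ g *ᵥ e1 F = c • e1 F) → ∀ u ∈ U, g * u * g⁻¹ ∈ U := by
    rintro g ⟨c, hc0, hg⟩ u hu
    rw [hUmem] at hu ⊢
    have hgi : ρ g⁻¹ *ᵥ e1 F = c⁻¹ • e1 F := by
      have h1 : ρ g⁻¹ *ᵥ (ρ g *ᵥ e1 F) = e1 F := by
        rw [Matrix.mulVec_mulVec, ← map_mul, inv_mul_cancel, map_one, Matrix.one_mulVec]
      rw [hg, Matrix.mulVec_smul] at h1
      conv_rhs => rw [← h1]
      rw [smul_smul, inv_mul_cancel₀ hc0, one_smul]
    rw [map_mul, map_mul, ← Matrix.mulVec_mulVec, ← Matrix.mulVec_mulVec, hgi, Matrix.mulVec_smul, hu,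
      Matrix.mulVec_smul, hg, smul_smul, inv_mul_cancel₀ hc0, one_smul]
  have hdU : d ∈ Subgroup.normalizer (U : Set (SU 3 F 3)) := by
    rw [Subgroup.mem_normalizer_iff]
    intro u
    refine ⟨fun hu => hnorm d ⟨γ, γ.ne_zero, hd1⟩ u hu, fun hu => ?_⟩
    have hgi : ρ d⁻¹ *ᵥ e1 F = ((γ⁻¹ : Fˣ) : F) • e1 F := by
      have h1 : ρ d⁻¹ *ᵥ (ρ d *ᵥ e1 F) = e1 F := by
        rw [Matrix.mulVec_mulVec, ← map_mul, inv_mul_cancel, map_one, Matrix.one_mulVec]
      rw [hd1, Matrix.mulVec_smul] at h1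
      conv_rhs => rw [← h1]
      rw [smul_smul, ← Units.val_mul, inv_mul_cancel, Units.val_one, one_smul]
    have := hnorm d⁻¹ ⟨_, (γ⁻¹).ne_zero, hgi⟩ _ hu
    have he : d⁻¹ * (d * u * d⁻¹) * d⁻¹⁻¹ = u := by group
    rwa [he] at this
  set e := d ^ (orderOf d / 8) with hedef
  have he8 : orderOf e = 8 := orderOf_pow_orderOf_div (orderOf_pos d).ne' h8
  have heU : e ∈ Subgroup.normalizer (U : Set (SU 3 F 3)) := Subgroup.pow_mem _ hdU _
  refine ⟨U.map (QuotientGroup.mk' _), QuotientGroup.mk' _ e, ?_, ?_, ?_⟩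
  · rw [Subgroup.card_map_of_injective hinj, hU27]
  · exact Subgroup.le_normalizer_map _ (Subgroup.mem_map_of_mem _ heU)
  · rw [orderOf_injective _ hinj, he8]

end Cfsg.Agent.H60.Psu33
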