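import Mathlib

/-!
# Elements of prime order `p`, `p` exactly dividing `|G|` (helper60)

* `norm_arith` : `|N(⟨x⟩)| = |C(x)| e`, `e ∣ p - 1`, Sylow's congruence and `e ≠ 1` for `G` simple and not abelian (Burnside).
* `fix_const` : in a permutation representation all the elements of order `p` have the same number of fixed points.
* `dvd_fix` : if an element of order `p` without fixed points commutes with `u`, then `p` divides the number of fixed
  points of `u`.
-/

set_option autoImplicit false

namespace Cfsg.Agent.H60.SylTool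

open Subgroup

/-- Sylow arithmetic with Burnside's theorem -/
theorem norm_arith {G : Type*} [Group G] [Finite G] {x : G} {s : ℕ} (hs : s.Prime) (hx : orderOf x = s)
    (hsq : ¬ s * s ∣ Nat.card G) : ∃ e, e ∣ s - 1 ∧ Nat.card (centralizer ({x} : Set G)) * e ∣ Nat.card G ∧
      Nat.card G / (Nat.card (centralizer ({x} : Set G)) * e) % s = 1 % s ∧
      (IsSimpleGroup G → ¬ IsMulCommutative G → e ≠ 1) := by
  classical
  have : Fact s.Prime := ⟨hs⟩
  have hcz : Nat.card (zpowers x) = s := by rw [Nat.card_zpowers, hx]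
  have hidx : ¬ s ∣ (zpowers x).index := by
    intro h
    apply hsq
    rw [← Subgroup.card_mul_index (zpowers x), hcz]
    exact Nat.mul_dvd_mul_left s h
  have hP : IsPGroup s (zpowers x) := IsPGroup.of_card (n := 1) (by rw [hcz, pow_one])
  let P : Sylow s G := hP.toSylow hidx
  have hPx : (P : Subgroup G) = zpowers x := rfl
  let N := normalizer (zpowers x : Set G)
  let C := centralizer ({x} : Set G)
  have hCN : C ≤ N := by
    intro g hg
    rw [mem_centralizer_singleton_iff] at hg
    rw [Subgroup.mem_normalizer_iff]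
    intro h
    have hgc : Commute g x := hg
    have key : ∀ k : ℤ, g * x ^ k * g⁻¹ = x ^ k := fun k => by
      rw [(hgc.zpow_right k).eq, mul_inv_cancel_right]
    constructor
    · intro hh
      obtain ⟨k, rfl⟩ := mem_zpowers_iff.1 hh
      rw [key]
      exact hh
    · intro hh
      obtain ⟨k, hk⟩ := mem_zpowers_iff.1 hh
      have h1 : h = x ^ k := by
        rw [← key k] at hk
        have h2 : g * h * g⁻¹ = g * x ^ k * g⁻¹ := by rw [hk]
        simpa using h2
      rw [h1]
      exact zpow_mem (mem_zpowers x) k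
  -- N acts on ⟨x⟩
  have hNn : ((zpowers x).subgroupOf N).Normal := by
    have := Subgroup.normal_in_normalizer (H := zpowers x)
    exact this
  let Z := (zpowers x).subgroupOf N
  let φ : N →* MulAut Z := MulAut.conjNormal
  have hZc : Nat.card Z = s := by
    rw [Nat.card_congr (Subgroup.subgroupOfEquivOfLe (Subgroup.le_normalizer)).toEquiv, hcz]
  have hker : φ.ker = C.subgroupOf N := by
    ext g
    rw [MonoidHom.mem_ker, mem_subgroupOf, mem_centralizer_singleton_iff]
    constructor
    · intro h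
      have h1 : ((φ g ⟨⟨x, Subgroup.le_normalizer (mem_zpowers x)⟩, mem_zpowers x⟩ : Z) : N) =
          (⟨x, Subgroup.le_normalizer (mem_zpowers x)⟩ : N) := by rw [h]; rfl
      have h2 : (g : G) * x * (g : G)⁻¹ = x := congrArg Subtype.val h1
      calc (g : G) * x = g * x * (g : G)⁻¹ * g := by group
        _ = x * g := by rw [h2]
    · intro h
      apply MulEquiv.ext
      rintro ⟨⟨y, hyN⟩, hy⟩
      apply Subtype.ext
      apply Subtype.ext
      have hy' : y ∈ zpowers x := hy
      obtain ⟨k, rfl⟩ := mem_zpowers_iff.1 hy'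
      change (g : G) * x ^ k * (g : G)⁻¹ = x ^ k
      have hgc : Commute (g : G) x := h
      rw [(hgc.zpow_right k).eq, mul_inv_cancel_right]
  have hcyc : IsCyclic Z := isCyclic_of_prime_card hZc
  have hrange : Nat.card φ.range ∣ s - 1 := by
    have h4 : Nat.card φ.range ∣ Nat.card (MulAut Z) := Subgroup.card_subgroup_dvd_card _
    rwa [IsCyclic.card_mulAut, hZc, Nat.totient_prime hs] at h4
  have hNcard : Nat.card N = Nat.card C * Nat.card φ.range := by
    rw [← Nat.card_congr (Subgroup.subgroupOfEquivOfLe hCN).toEquiv, ← hker]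
    have h1 := Subgroup.card_mul_index φ.ker
    rw [Subgroup.index_ker] at h1
    exact h1.symm
  refine ⟨Nat.card φ.range, hrange, ?_, ?_, ?_⟩
  · rw [← hNcard]
    exact Subgroup.card_subgroup_dvd_card N
  · rw [← hNcard]
    have h1 : Nat.card (Sylow s G) ≡ 1 [MOD s] := card_sylow_modEq_one s G
    have h2 : Nat.card (Sylow s G) = N.index := by
      rw [Sylow.card_eq_index_normalizer P]
      rfl
    rw [h2] at h1
    have h3 : Nat.card G / Nat.card N = N.index := by
      rw [← Subgroup.card_mul_index N]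
      exact Nat.mul_div_cancel_left _ Nat.card_pos
    rw [h3]
    exact h1
  · intro hsimp hna h1
    rw [h1, mul_one] at hNcard
    have hCN' : C = N := Subgroup.eq_of_le_of_card_ge hCN (le_of_eq hNcard)
    have hle : normalizer ((P : Subgroup G) : Set G) ≤ centralizer ((P : Subgroup G) : Set G) := by
      intro g hg
      have hg' : g ∈ C := by rw [hCN']; exact hg
      rw [mem_centralizer_singleton_iff] at hg'
      rw [Subgroup.mem_centralizer_iff]
      rintro y hy
      have hy' : y ∈ zpowers x := hy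
      obtain ⟨k, rfl⟩ := mem_zpowers_iff.1 hy'
      have hgc : Commute g x := hg'
      exact ((hgc.zpow_right k).eq).symm
    have h2 := MonoidHom.ker_transferSylow_isComplement' P hle
    rcases hsimp.eq_bot_or_eq_top_of_normal (MonoidHom.transferSylow P hle).ker inferInstance with h3 | h3
    · rw [h3] at h2
      have h4 : (P : Subgroup G) = ⊤ := Subgroup.isComplement'_bot_left.1 h2
      apply hna
      rw [hPx] at h4
      refine ⟨⟨fun a b => ?_⟩⟩
      have ha : a ∈ zpowers x := h4 ▸ mem_top a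
      have hb : b ∈ zpowers x := h4 ▸ mem_top b
      obtain ⟨i, rfl⟩ := mem_zpowers_iff.1 ha
      obtain ⟨j, rfl⟩ := mem_zpowers_iff.1 hb
      rw [← zpow_add, ← zpow_add, add_comm]
    · rw [h3] at h2
      have h4 : (P : Subgroup G) = ⊥ := Subgroup.isComplement'_top_left.1 h2
      rw [hPx, zpowers_eq_bot] at h4
      rw [h4, orderOf_one] at hx
      exact hs.one_lt.ne hx

/-- two elements of order `p`, `p` exactly dividing `|G|`: one is conjugate to a power of the other one -/
theorem exists_conj_zpowers {G : Type*} [Group G] [Finite G] {p : ℕ} (hp : p.Prime) (hsq : ¬ p * p ∣ Nat.card G)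
    {x y : G} (hx : orderOf x = p) (hy : orderOf y = p) : ∃ g : G, g * x * g⁻¹ ∈ zpowers y := by
  have : Fact p.Prime := ⟨hp⟩
  have key : ∀ z : G, orderOf z = p → ∃ Q : Sylow p G, (Q : Subgroup G) = zpowers z := by
    intro z hz
    have hcz : Nat.card (zpowers z) = p := by rw [Nat.card_zpowers, hz]
    have hidx : ¬ p ∣ (zpowers z).index := by
      intro h
      apply hsq
      rw [← Subgroup.card_mul_index (zpowers z), hcz]
      exact Nat.mul_dvd_mul_left p h
    have hP : IsPGroup p (zpowers z) := IsPGroup.of_card (n := 1) (by rw [hcz, pow_one])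
    exact ⟨hP.toSylow hidx, rfl⟩
  obtain ⟨Q, hQ⟩ := key x hx
  obtain ⟨T, hT⟩ := key y hy
  obtain ⟨g, hg⟩ := MulAction.exists_smul_eq G Q T
  refine ⟨g, ?_⟩
  rw [← hT, ← hg, Sylow.coe_subgroup_smul, hQ]
  exact Subgroup.smul_mem_pointwise_smul x (MulAut.conj g) _ (mem_zpowers x)

section Perm

variable {G : Type*} [Group G] {Ω : Type*}

/-- the fixed points of a permutation -/
def fx (σ : Equiv.Perm Ω) : Set Ω := {i | σ i = i}

theorem fx_conj (σ τ : Equiv.Perm Ω) : Nat.card (fx (τ * σ * τ⁻¹)) = Nat.card (fx σ) := by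
  refine (Nat.card_congr (Equiv.subtypeEquiv τ fun i => ?_)).symm
  change σ i = i ↔ τ (σ (τ⁻¹ (τ i))) = τ i
  have h1 : τ⁻¹ (τ i) = i := τ.symm_apply_apply i
  rw [h1]
  exact τ.injective.eq_iff.symm

theorem fx_zpow_le {σ τ : Equiv.Perm Ω} (h : τ ∈ zpowers σ) : fx σ ⊆ fx τ := by
  intro i hi
  obtain ⟨k, rfl⟩ := mem_zpowers_iff.1 h
  have h1 : σ ∈ MulAction.stabilizer (Equiv.Perm Ω) i := hi
  exact (Subgroup.zpow_mem _ h1 k : σ ^ k ∈ MulAction.stabilizer (Equiv.Perm Ω) i)

/-- the elements of order `p` have the same number of fixed points -/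
theorem fix_const [Finite G] (ψ : G →* Equiv.Perm Ω) {p : ℕ} (hp : p.Prime) (hsq : ¬ p * p ∣ Nat.card G)
    {x y : G} (hx : orderOf x = p) (hy : orderOf y = p) : Nat.card (fx (ψ x)) = Nat.card (fx (ψ y)) := by
  obtain ⟨g, hg⟩ := exists_conj_zpowers hp hsq hx hy
  have h1 : orderOf (g * x * g⁻¹) = p := by
    rw [← hx]
    exact orderOf_injective (MulAut.conj g).toMonoidHom (MulAut.conj g).injective x
  have h2 : zpowers (g * x * g⁻¹) = zpowers y := by
    refine Subgroup.eq_of_le_of_card_ge (zpowers_le.2 hg) ?_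
    rw [Nat.card_zpowers, Nat.card_zpowers, h1, hy]
  have h3 : y ∈ zpowers (g * x * g⁻¹) := h2 ▸ mem_zpowers y
  have h4 : ψ (g * x * g⁻¹) ∈ zpowers (ψ y) := by
    obtain ⟨k, hk⟩ := mem_zpowers_iff.1 hg
    rw [← hk, map_zpow]
    exact zpow_mem (mem_zpowers _) k
  have h5 : ψ y ∈ zpowers (ψ (g * x * g⁻¹)) := by
    obtain ⟨k, hk⟩ := mem_zpowers_iff.1 h3
    rw [← hk, map_zpow]
    exact zpow_mem (mem_zpowers _) k
  have h6 : fx (ψ (g * x * g⁻¹)) = fx (ψ y) := Set.Subset.antisymm (fx_zpow_le h5) (fx_zpow_le h4)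
  rw [← h6, map_mul, map_mul, map_inv, fx_conj]

/-- `x` of order `p` without fixed points commutes with `u`: `p` divides the number of fixed points of `u` -/
theorem dvd_fix [Finite Ω] {p : ℕ} (hp : p.Prime) {σ τ : Equiv.Perm Ω} (hσ : σ ^ p = 1) (h0 : fx σ = ∅)
    (hc : σ * τ = τ * σ) : p ∣ Nat.card (fx τ) := by
  have : Fact p.Prime := ⟨hp⟩
  have hinv : ∀ ρ ∈ zpowers σ, ∀ i ∈ fx τ, ρ i ∈ fx τ := by
    intro ρ hρ i hi
    obtain ⟨k, rfl⟩ := mem_zpowers_iff.1 hρ
    have hcc : Commute (σ ^ k) τ := (show Commute σ τ from hc).zpow_left k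
    change τ ((σ ^ k) i) = (σ ^ k) i
    have h1 : (σ ^ k * τ) i = (τ * σ ^ k) i := by rw [hcc.eq]
    rw [Equiv.Perm.mul_apply, Equiv.Perm.mul_apply] at h1
    have hi' : τ i = i := hi
    rw [← h1, hi']
  let act : MulAction (zpowers σ) (fx τ) :=
    { smul := fun ρ i => ⟨(ρ : Equiv.Perm Ω) i, hinv ρ ρ.2 i i.2⟩
      one_smul := fun i => Subtype.ext rfl
      mul_smul := fun a b i => Subtype.ext rfl }
  have hP : IsPGroup p (zpowers σ) := by
    intro ρ
    refine ⟨1, ?_⟩
    obtain ⟨k, hk⟩ := mem_zpowers_iff.1 ρ.2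
    apply Subtype.ext
    rw [SubgroupClass.coe_pow, ← hk, pow_one, ← zpow_natCast, ← zpow_mul, mul_comm, zpow_mul, zpow_natCast, hσ,
      one_zpow]
    rfl
  have h1 := hP.card_modEq_card_fixedPoints (fx τ)
  have h2 : MulAction.fixedPoints (zpowers σ) (fx τ) = ∅ := by
    rw [Set.eq_empty_iff_forall_notMem]
    intro i hi
    have h3 := hi ⟨σ, mem_zpowers σ⟩
    have h4 : σ i = i := congrArg Subtype.val h3
    have h5 : (i : Ω) ∈ fx σ := h4
    rw [h0] at h5
    exact h5
  have h6 : Nat.card (MulAction.fixedPoints (zpowers σ) (fx τ)) = 0 := by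
    rw [h2]
    exact Nat.card_eq_zero.2 (Or.inl (by infer_instance))
  rw [h6] at h1
  exact (Nat.modEq_zero_iff_dvd).1 h1

end Perm

end Cfsg.Agent.H60.SylTool
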