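import Cfsg.Agent.H60.RealWE7b
import Cfsg.Agent.H60.RealWE7c
import Cfsg.Agent.H60.RealWE7d

/-!
# Every element of the Weyl group of type `E₇` is conjugate to its inverse (helper60)
-/

set_option autoImplicit false

namespace Cfsg.Agent.H60.RealWE7

open CoxeterSystem Cfsg.Agent.ChevalleyStructure.CoxeterGeom Cfsg.Agent.ChevalleyStructure.CoxeterWordCheck

/-- The Cartan matrix of type `E₇`. -/
def A7 (i j : Fin 7) : ℤ := (rowsE.getD i []).getD j 0

set_option backward.isDefEq.respectTransparency false in
theorem isCartan7 : IsCartan CoxeterMatrix.E₇ A7 := by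
  constructor <;> decide +kernel

theorem rowsE_eq : rows A7 = rowsE := by decide +kernel

/-- Conjugators of a representative into its inverse. -/
def real : List ℕ := [0, 0, 1, 12, 1, 21, 0, 13, 157, 21, 340853, 812, 102, 111, 83390, 23475134, 19, 5121982, 5326, 665, 10174, 1263, 340853, 0, 14, 1, 446, 3454, 340853, 0]

/-- Conjugates of the reflections by the simple reflections. -/
def rtab : List ℕ := [28672, 69812097089, 139622359175, 209548251651, 286758813956, 830188310853, 425304023430, 488673378754, 558597726408, 628407939981, 705499825098, 1241333936843, 350345020172, 907649275081, 977461084755, 1054552707727, 1124362921300, 1660293051793, 775449289874, 1326495642446, 1403603994192, 1473415541785, 2009345934422, 2079156147995, 1194408404824, 1752673654037, 1822581696159, 2358397220887, 2428208768480, 1543461287453, 1613271501026, 2170559023066, 2707449841372, 2777341368421, 1892512573918, 1962324121511, 2518538123556, 2988936698209, 3065022933418, 2241564932259, 2311439944235, 3200516512361, 3275544517286, 2589590481640,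 2663562529583, 3484993104749, 2867741768622, 2941712804844, 3346597612595, 3695579700529, 3151144352946, 3556028411120, 3836292058228, 3428286422517, 3765459697078, 3635553467767, 3906186481272, 3977071009337, 4048961646330, 4118772170427, 4188615466812, 4258425982846, 4328236249021]

def rOk (t r : ℕ) : Bool :=
  (List.finRange 7).all fun i => decide ((r / 64 ^ i.val) % 64 < 63) &&
    eqv (i :: (wd t ++ [i])) (wd (refls.getD ((r / 64 ^ i.val) % 64) 0))

def rAll : List ℕ → List ℕ → Bool
  | t :: ts, r :: rs => rOk t r && rAll ts rs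
  | [], _ => true
  | _ :: _, [] => false

theorem rAll_split : ∀ (n : ℕ) {ts rs : List ℕ}, rAll (ts.take n) (rs.take n) = true →
    rAll (ts.drop n) (rs.drop n) = true → rAll ts rs = true
  | 0, _, _, _, h => h
  | _ + 1, [], _, _, _ => rfl
  | _ + 1, _ :: _, [], h, _ => h
  | n + 1, t :: ts, r :: rs, h, h' => by
    rw [List.take_succ_cons, List.take_succ_cons] at h
    rw [List.drop_succ_cons, List.drop_succ_cons] at h'
    unfold rAll at h ⊢
    rw [Bool.and_eq_true] at h ⊢
    exact ⟨h.1, rAll_split n h.2 h'⟩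

theorem rAll_ok1 : rAll (refls.take 13) (rtab.take 13) = true := by decide +kernel

theorem rAll_ok2 : rAll ((refls.drop 13).take 13) ((rtab.drop 13).take 13) = true := by decide +kernel

theorem rAll_ok3 : rAll (((refls.drop 13).drop 13).take 13) (((rtab.drop 13).drop 13).take 13) = true := by
  decide +kernel

theorem rAll_ok4 : rAll ((((refls.drop 13).drop 13).drop 13).take 12) ((((rtab.drop 13).drop 13).drop 13).take 12) =
    true := by decide +kernel

theorem rAll_ok5 : rAll (((((refls.drop 13).drop 13).drop 13).drop 12).take 7)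
    (((((rtab.drop 13).drop 13).drop 13).drop 12).take 7) = true := by decide +kernel

theorem rAll_ok6 : rAll (((((refls.drop 13).drop 13).drop 13).drop 12).drop 7)
    (((((rtab.drop 13).drop 13).drop 13).drop 12).drop 7) = true := by decide +kernel

theorem rAll_ok : rAll refls rtab = true :=
  rAll_split 13 rAll_ok1 (rAll_split 13 rAll_ok2 (rAll_split 13 rAll_ok3 (rAll_split 12 rAll_ok4
    (rAll_split 7 rAll_ok5 rAll_ok6))))

def realAll : List ℕ → List ℕ → Bool
  | c :: cs, h :: hs => eqv ((wd c).reverse ++ wd h) (wd h ++ wd c) && realAll cs hs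
  | [], _ => true
  | _ :: _, [] => false

theorem realAll_ok : realAll reps real = true := by decide +kernel

theorem w0_ok : ∀ i ∈ List.range 7, actList rowsE ((wd w0).map (·.val)) (unit 7 i) = nunit i := by decide +kernel

theorem w0_comm : ∀ i : Fin 7, eqv (i :: wd w0) (wd w0 ++ [i]) = true := by decide +kernel

theorem w0_sq : eqv (wd w0 ++ wd w0) [] = true := by decide +kernel

theorem zero_mem : 0 ∈ reps := by decide +kernel

theorem single_mem : ∀ i : Fin 7, (i.val + 1) ∈ refls ∧ wd (i.val + 1) = [i] := by decide +kernel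

theorem rowOk_spec {c : ℕ} : ∀ {ts vs : List ℕ}, rowOk c ts vs = true → ∀ t ∈ ts, ∃ v, ok c t v = true
  | [], _, _, t, ht => absurd ht List.not_mem_nil
  | a :: ts, v :: vs, h, t, ht => by
    rw [rowOk, Bool.and_eq_true] at h
    rcases List.mem_cons.1 ht with rfl | ht
    · exact ⟨v, h.1⟩
    · exact rowOk_spec h.2 t ht
  | a :: ts, [], h, _, _ => by simp [rowOk] at h

theorem rAll_spec : ∀ {ts rs : List ℕ}, rAll ts rs = true → ∀ t ∈ ts, ∃ r, rOk t r = true
  | [], _, _, t, ht => absurd ht List.not_mem_nil
  | a :: ts, v :: vs, h, t, ht => by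
    rw [rAll, Bool.and_eq_true] at h
    rcases List.mem_cons.1 ht with rfl | ht
    · exact ⟨v, h.1⟩
    · exact rAll_spec h.2 t ht
  | a :: ts, [], h, _, _ => by simp [rAll] at h

theorem realAll_spec : ∀ {ts rs : List ℕ}, realAll ts rs = true → ∀ c ∈ ts, ∃ h : ℕ,
    eqv ((wd c).reverse ++ wd h) (wd h ++ wd c) = true
  | [], _, _, t, ht => absurd ht List.not_mem_nil
  | a :: ts, v :: vs, h, t, ht => by
    rw [realAll, Bool.and_eq_true] at h
    rcases List.mem_cons.1 ht with rfl | ht
    · exact ⟨v, h.1⟩
    · exact realAll_spec h.2 t ht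
  | a :: ts, [], h, _, _ => by simp [realAll] at h

theorem all_ok : ∀ c ∈ reps, ∀ t ∈ refls, ∃ v, ok c t v = true := by
  rw [reps]
  simp only [List.forall_mem_cons]
  exact ⟨rowOk_spec row0, rowOk_spec row1, rowOk_spec row2, rowOk_spec row3, rowOk_spec row4, rowOk_spec row5, rowOk_spec row6, rowOk_spec row7, rowOk_spec row8, rowOk_spec row9, rowOk_spec row10, rowOk_spec row11, rowOk_spec row12, rowOk_spec row13, rowOk_spec row14, rowOk_spec row15, rowOk_spec row16, rowOk_spec row17, rowOk_spec row18, rowOk_spec row19, rowOk_spec row20, rowOk_spec row21, rowOk_spec row22, rowOk_spec row23, rowOk_spec row24, rowOk_spec row25, rowOk_spec row26, rowOk_spec row27, rowOk_spec row28, rowOk_spec row29, fun _ h => absurd h List.not_mem_nil⟩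

theorem getD_mem (k : ℕ) : reps.getD k 0 ∈ reps := by
  rw [List.getD_eq_getElem?_getD]
  cases h : reps[k]? with
  | none => exact zero_mem
  | some a => exact List.mem_of_getElem? h

theorem actList_append (A : List (List ℤ)) (u v : List ℕ) (x : List ℤ) :
    actList A (u ++ v) x = actList A u (actList A v x) := by
  induction u with
  | nil => rfl
  | cons i u ih => rw [List.cons_append, actList, ih, actList]

theorem eqv_of_eqvn {u v : List (Fin 7)} (h : eqvn u v = true) : eqv u (v ++ wd w0) = true := by
  rw [eqvn, List.all_eq_true] at h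
  rw [eqv, List.all_eq_true]
  intro i hi
  have h1 := h i hi
  rw [beq_iff_eq] at h1 ⊢
  rw [h1, List.map_append, actList_append, w0_ok i hi]

variable {W : Type*} [Group W] (cs : CoxeterSystem CoxeterMatrix.E₇ W)

include cs

theorem eq_of_eqv {u v : List (Fin 7)} (h : eqv u v = true) : cs.wordProd u = cs.wordProd v := by
  refine wordProd_eq_wordProd cs isCartan7 u v ?_
  rw [rowsE_eq]
  exact h

/-- `-1` is central. -/
theorem z_comm (w : W) : w * cs.wordProd (wd w0) = cs.wordProd (wd w0) * w := by
  induction w using cs.simple_induction_left with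
  | one => rw [one_mul, mul_one]
  | mul_simple_left w i ih =>
    have h1 := eq_of_eqv cs (w0_comm i)
    rw [wordProd_cons, wordProd_append, wordProd_singleton] at h1
    rw [mul_assoc, ih, ← mul_assoc, h1, mul_assoc]

theorem z_sq : cs.wordProd (wd w0) * cs.wordProd (wd w0) = 1 := by
  have h1 := eq_of_eqv cs w0_sq
  rwa [wordProd_append, wordProd_nil] at h1

theorem step {c t : ℕ} (hc : c ∈ reps) (ht : t ∈ refls) :
    ∃ c' ∈ reps, ∃ h : W, cs.wordProd (wd t) * cs.wordProd (wd c) =
      cs.wordProd (wd w0) * (h * cs.wordProd (wd c') * h⁻¹) := by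
  obtain ⟨v, hv⟩ := all_ok c hc t ht
  refine ⟨_, getD_mem (v % 32), cs.wordProd (wd (v / 32)), ?_⟩
  have h1 := eq_of_eqv cs (eqv_of_eqvn hv)
  rw [wordProd_append, wordProd_append, wordProd_append, wordProd_append, z_comm cs] at h1
  rw [← mul_assoc (cs.wordProd (wd w0)), ← h1, mul_inv_cancel_right]

theorem refl_mem (g : W) (i : Fin 7) : ∃ t ∈ refls, g⁻¹ * cs.simple i * g = cs.wordProd (wd t) := by
  induction g using cs.simple_induction_right with
  | one =>
    obtain ⟨h1, h2⟩ := single_mem i
    exact ⟨_, h1, by rw [h2]; simp⟩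
  | mul_simple_right g j ih =>
    obtain ⟨t, ht, h⟩ := ih
    obtain ⟨r, hr⟩ := rAll_spec rAll_ok t ht
    rw [rOk, List.all_eq_true] at hr
    have h1 := hr j (List.mem_finRange j)
    rw [Bool.and_eq_true, decide_eq_true_eq] at h1
    refine ⟨refls.getD ((r / 64 ^ j.val) % 64) 0, ?_, ?_⟩
    · rw [List.getD_eq_getElem _ _ (by exact h1.1)]
      exact List.getElem_mem _
    · have h2 := eq_of_eqv cs h1.2
      rw [wordProd_cons, wordProd_append, wordProd_singleton, ← h] at h2
      rw [← h2, mul_inv_rev, cs.inv_simple]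
      simp only [mul_assoc]

/-- Every element is conjugate to one of the representatives or their negatives. -/
theorem cover (w : W) : ∃ c ∈ reps, ∃ g z : W, (∀ x, x * z = z * x) ∧ z * z = 1 ∧
    w = z * (g * cs.wordProd (wd c) * g⁻¹) := by
  induction w using cs.simple_induction_left with
  | one => exact ⟨0, zero_mem, 1, 1, fun x => by simp, by simp, by simp [wd, dec]⟩
  | mul_simple_left w i ih =>
    obtain ⟨c, hc, g, z, hz1, hz2, rfl⟩ := ih
    obtain ⟨t, ht, h1⟩ := refl_mem cs g i
    obtain ⟨c', hc', h, h2⟩ := step cs hc ht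
    refine ⟨c', hc', g * h, z * cs.wordProd (wd w0), fun x => ?_, ?_, ?_⟩
    · rw [← mul_assoc, hz1, mul_assoc, z_comm cs, ← mul_assoc]
    · have h3 := z_sq cs
      generalize cs.wordProd (wd w0) = y at h3 ⊢
      calc z * y * (z * y) = z * (y * z) * y := by group
        _ = z * z * (y * y) := by rw [hz1]; group
        _ = 1 := by rw [hz2, h3, one_mul]
    · rw [← h1] at h2
      have h3 := z_comm cs g
      generalize cs.wordProd (wd w0) = y at h2 h3
      calc cs.simple i * (z * (g * cs.wordProd (wd c) * g⁻¹))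
          = z * (cs.simple i * (g * cs.wordProd (wd c) * g⁻¹)) := by
            rw [← mul_assoc, hz1, mul_assoc]
        _ = z * (g * (g⁻¹ * cs.simple i * g * cs.wordProd (wd c)) * g⁻¹) := by group
        _ = z * ((g * y) * (h * cs.wordProd (wd c') * h⁻¹) * g⁻¹) := by rw [h2]; group
        _ = z * ((y * g) * (h * cs.wordProd (wd c') * h⁻¹) * g⁻¹) := by rw [h3]
        _ = _ := by group

/-- **Every element of `W(E₇)` is conjugate to its inverse.** -/
theorem real_E7 (w : W) : IsConj w w⁻¹ := by
  obtain ⟨c, hc, g, z, hz1, hz2, rfl⟩ := cover cs w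
  obtain ⟨h, hh⟩ := realAll_spec realAll_ok c hc
  have h1 := eq_of_eqv cs hh
  rw [wordProd_append, wordProd_append, wordProd_reverse] at h1
  rw [isConj_iff]
  refine ⟨g * cs.wordProd (wd h) * g⁻¹, ?_⟩
  generalize cs.wordProd (wd h) = a at h1 ⊢
  generalize cs.wordProd (wd c) = b at h1 ⊢
  have h2 : b⁻¹ = a * b * a⁻¹ := by rw [← h1, mul_inv_cancel_right]
  have h3 : z⁻¹ = z := inv_eq_of_mul_eq_one_right hz2
  have h4 : ∀ x y : W, x * (z * y) = z * (x * y) := fun x y => by rw [← mul_assoc, hz1, mul_assoc]
  calc g * a * g⁻¹ * (z * (g * b * g⁻¹)) * (g * a * g⁻¹)⁻¹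
      = z * (g * a * g⁻¹ * (g * b * g⁻¹)) * (g * a * g⁻¹)⁻¹ := by rw [h4]
    _ = z * (g * (a * b * a⁻¹) * g⁻¹) := by group
    _ = z * (g * b⁻¹ * g⁻¹) := by rw [← h2]
    _ = (g * b⁻¹ * g⁻¹) * z⁻¹ := by rw [h3, hz1]
    _ = (z * (g * b * g⁻¹))⁻¹ := by group

end Cfsg.Agent.H60.RealWE7
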