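import Cfsg.Agent.H702.RealTable
import Cfsg.Agent.H706.RealBasic
import Cfsg.Agent.H507.GmnSp
import Cfsg.Agent.H696.GmnUntw
import Cfsg.Agent.H696.GmnInv
import Cfsg.Agent.H696.GmnTwD4

/-!
# REALB0: the rows `psp`, `g2`, `f4`, `e8`, `td4`, and `e7` in characteristic two
(helper60, task of helper702 for S4918 / S4915)

All the elements of order `p`, not the characteristic, are real.
-/

set_option autoImplicit false

open Subgroup

namespace Cfsg.Agent.H60.RealEasy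

open Cfsg Cfsg.Lie Cfsg.Agent.H702.RealTable Cfsg.Agent.H702.RealB0 Cfsg.Agent.H706.RealB
open Cfsg.Agent.BpExc Cfsg.Agent.BpExc.TowChev Cfsg.Agent.BpExc.LangFr Cfsg.Agent.BpExc.RowsUntw Cfsg.Agent.BpExc.FamInst
open Cfsg.Agent.H696 Cfsg.Agent.H696.GmnUntw Cfsg.Agent.H696.GmnInv
  Cfsg.Agent.H712.Gmn

variable {p : ℕ} [hp : Fact p.Prime]

/-- all the elements of order `p` are real -/
theorem hasReal_of_all {X : Type*} [Group X] [Finite X] (hd : p ∣ Nat.card X)
    (h : ∀ z : X, z ^ p = 1 → IsConj z z⁻¹) : HasReal p X := by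
  obtain ⟨z, hz⟩ := exists_prime_orderOf_dvd_card' p hd
  exact hasReal_of_isConj_inv (g := z) (by rw [hz]) (h z (by rw [← hz, pow_orderOf_eq_one]))

theorem psp (hp2 : p ≠ 2) : RowFor p (fun X _ => ∃ (F : Type) (_ : Field F) (_ : Fintype F) (m : ℕ), (p : F) ≠ 0 ∧
    2 ≤ m ∧ Nonempty (X ≃* PSp m F)) := by
  rintro X _ _ _ hna hd ⟨F, iF, iN, m, hF, hm, ⟨e⟩⟩
  have : Finite (PSp m F) := Finite.of_equiv _ e.toEquiv
  refine HasReal.congr e.symm (hasReal_of_all (by rwa [← Nat.card_congr e.toEquiv]) fun z hz => ?_)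
  rw [isConj_iff]
  exact H507.GmnSp.conj_inv hp.out hp2 hF hz

theorem g2 : RowFor p (fun X _ => ∃ (F : Type) (_ : Field F) (_ : Fintype F), (p : F) ≠ 0 ∧
    3 ≤ Fintype.card F ∧ Nonempty (X ≃* Lie.chevG2.group F)) := by
  rintro X _ _ _ hna hd ⟨F, iF, iN, hF, h3, ⟨e⟩⟩
  obtain ⟨r, hr⟩ := CharP.exists F
  have hrp : Fact r.Prime := ⟨CharP.char_is_prime F r⟩
  have hpr : p ≠ r := by
    rintro rfl
    exact hF (CharP.cast_eq_zero F p)
  have : Finite ↥(Lie.chevG2.group F) := Finite.of_equiv _ e.toEquiv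
  refine HasReal.congr e.symm (hasReal_of_all (by rwa [← Nat.card_congr e.toEquiv]) fun z hz => ?_)
  exact isConj_inv g2T inv_G2 odd_one (center_eq_bot_of_simple (S1055.result (exists_ne_algClosed _)))
      (GmnNeg.negG2 g2T _) Fact.out hpr hz

theorem f4 : RowFor p (fun X _ => ∃ (F : Type) (_ : Field F) (_ : Fintype F), (p : F) ≠ 0 ∧
    Nonempty (X ≃* Lie.chevF4.group F)) := by
  rintro X _ _ _ hna hd ⟨F, iF, iN, hF, ⟨e⟩⟩
  obtain ⟨r, hr⟩ := CharP.exists F
  have hrp : Fact r.Prime := ⟨CharP.char_is_prime F r⟩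
  have hpr : p ≠ r := by
    rintro rfl
    exact hF (CharP.cast_eq_zero F p)
  have : Finite ↥(Lie.chevF4.group F) := Finite.of_equiv _ e.toEquiv
  refine HasReal.congr e.symm (hasReal_of_all (by rwa [← Nat.card_congr e.toEquiv]) fun z hz => ?_)
  exact isConj_inv f4T inv_F4 odd_one (center_eq_bot_of_simple (S1054.result chevF4 (by simp)))
      (GmnNeg.negF4 f4T _) Fact.out hpr hz

theorem e8 : RowFor p (fun X _ => ∃ (F : Type) (_ : Field F) (_ : Fintype F), (p : F) ≠ 0 ∧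
    Nonempty (X ≃* Lie.chevE8.group F)) := by
  rintro X _ _ _ hna hd ⟨F, iF, iN, hF, ⟨e⟩⟩
  obtain ⟨r, hr⟩ := CharP.exists F
  have hrp : Fact r.Prime := ⟨CharP.char_is_prime F r⟩
  have hpr : p ≠ r := by
    rintro rfl
    exact hF (CharP.cast_eq_zero F p)
  have : Finite ↥(Lie.chevE8.group F) := Finite.of_equiv _ e.toEquiv
  refine HasReal.congr e.symm (hasReal_of_all (by rwa [← Nat.card_congr e.toEquiv]) fun z hz => ?_)
  exact isConj_inv e8T inv_E8 odd_one (center_eq_bot_of_simple (S1054.result chevE8 (by simp)))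
      (GmnNeg.negE8 e8T _) Fact.out hpr hz

/-- `E₇` in characteristic two -/
theorem e7_two (hp2 : p ≠ 2) {F : Type} [Field F] [Fintype F] [CharP F 2] (hd : p ∣ Nat.card ↥(Lie.chevE7.group F)) :
    HasReal p ↥(Lie.chevE7.group F) :=
  hasReal_of_all hd fun _ hz => isConj_inv_two e7T (center_eq_bot_of_simple (S1054.result chevE7 (by simp)))
    (GmnNeg.negE7 e7T _) hp.out hp2 hz

theorem td4 : RowFor p (fun X _ => ∃ (K : Type) (_ : Field K) (_ : Fintype K) (q : ℕ), (p : K) ≠ 0 ∧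
    IsPrimePow q ∧ Fintype.card K = q ^ 3 ∧ Nonempty (X ≃* Lie.twistedD4 K q)) := by
  rintro X _ _ _ hna hd ⟨K, iF, iN, q, hF, hq, hK, ⟨e⟩⟩
  obtain ⟨r, hr⟩ := CharP.exists K
  have hrp : Fact r.Prime := ⟨CharP.char_is_prime K r⟩
  have hpr : p ≠ r := by
    rintro rfl
    exact hF (CharP.cast_eq_zero K p)
  obtain ⟨s, n, hs, hn, hsn⟩ := (isPrimePow_nat_iff _).1 hq
  have hsr : s = r := by
    obtain ⟨k, hrp', hk⟩ := FiniteField.card K r
    have h1 : s ∣ r ^ (k : ℕ) := by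
      rw [← hk, hK, ← hsn, ← pow_mul]
      exact dvd_pow_self s (by omega)
    exact (Nat.prime_dvd_prime_iff_eq hs hrp.out).1 (hs.dvd_of_dvd_pow h1)
  subst hsr
  have : Finite ↥(Lie.twistedD4 K q) := Finite.of_equiv _ e.toEquiv
  refine HasReal.congr e.symm (hasReal_of_all (by rwa [← Nat.card_congr e.toEquiv]) fun z hz => ?_)
  exact H696.GmnTwD4.isConj_inv_d4 hpr hn hsn.symm hK hz

end Cfsg.Agent.H60.RealEasy
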